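import Mathlib

/-!
# `Q = E ∘ Z₄` as a symplectic space, weak form

Copy of `ClassificationK/SymplSetup.lean` (helper577) with the fields `core`, `nonab` replaced by `faith`
(an element of `C(z)` acting trivially on `Q / ⟨u⟩` lies in `Q`).  Used on both sides of the uniqueness of the
centralizer of an involution of `HS`.
-/

set_option autoImplicit false

namespace Cfsg.Agent.HSU.Base

/-- `Q = E ∘ ⟨u⟩`, `u² = z`. -/
structure SW {G : Type*} [Group G] (Q : Subgroup G) (z u : G) : Prop where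
  u_mem : u ∈ Q
  u_sq : u * u = z
  z_ne : z ≠ 1
  z_sq : z * z = 1
  comm_u : ∀ x ∈ Q, x * u = u * x
  conj_mem : ∀ g, g * z = z * g → ∀ x ∈ Q, g * x * g⁻¹ ∈ Q
  sq : ∀ x ∈ Q, x * x = 1 ∨ x * x = z
  comm : ∀ x ∈ Q, ∀ y ∈ Q, x * y = y * x ∨ x * y = y * x * z
  self : ∀ g, g * z = z * g → (∀ x ∈ Q, g * x = x * g) → g = 1 ∨ g = z ∨ g = u ∨ g = u * z
  faith : ∀ g, g * z = z * g → (∀ x ∈ Q, g * x * g⁻¹ = x ∨ g * x * g⁻¹ = x * z ∨ g * x * g⁻¹ = x * u ∨
    g * x * g⁻¹ = x * (u * z)) → g ∈ Q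

namespace SW

variable {G : Type*} [Group G] {Q : Subgroup G} {z u : G}

theorem z_inv (h : SW Q z u) : z⁻¹ = z := inv_eq_of_mul_eq_one_left h.z_sq

theorem z_mem (h : SW Q z u) : z ∈ Q := h.u_sq ▸ mul_mem h.u_mem h.u_mem

theorem comm_z (h : SW Q z u) : ∀ x ∈ Q, x * z = z * x := by
  intro x hx
  rw [← h.u_sq, ← mul_assoc, h.comm_u x hx, mul_assoc, h.comm_u x hx, mul_assoc]

theorem commz (h : SW Q z u) {g : G} (hg : g ∈ Q) : Commute g z := h.comm_z g hg

theorem commu (h : SW Q z u) {g : G} (hg : g ∈ Q) : Commute g u := h.comm_u g hg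

theorem uz (h : SW Q z u) : u * z = z * u := h.comm_z u h.u_mem

theorem u_ne (h : SW Q z u) : u ≠ 1 := by
  intro h1
  apply h.z_ne
  rw [← h.u_sq, h1, one_mul]

theorem u_ne_z (h : SW Q z u) : u ≠ z := by
  intro h1
  have h2 := h.u_sq
  rw [h1, h.z_sq] at h2
  exact h.z_ne h2.symm

theorem u_inv (h : SW Q z u) : u⁻¹ = u * z := by
  rw [inv_eq_iff_mul_eq_one, ← mul_assoc, h.u_sq, h.z_sq]

theorem orderOf_z (h : SW Q z u) : orderOf z = 2 :=
  orderOf_eq_prime (by rw [pow_two]; exact h.z_sq) h.z_ne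

theorem cent (h : SW Q z u) : ∀ x ∈ Q, (∀ y ∈ Q, x * y = y * x) → x = 1 ∨ x = z ∨ x = u ∨ x = u * z :=
  fun x hx hc => h.self x (h.comm_z x hx) hc

/-- Any element of `C(z)` centralises or inverts `u`. -/
theorem conj_u (h : SW Q z u) {g : G} (hg : g * z = z * g) : g * u * g⁻¹ = u ∨ g * u * g⁻¹ = u * z := by
  have h1 : g * u * g⁻¹ ∈ Q := h.conj_mem g hg u h.u_mem
  have hg' : g⁻¹ * z = z * g⁻¹ := by
    rw [inv_mul_eq_iff_eq_mul, ← mul_assoc, hg, mul_assoc, mul_inv_cancel, mul_one]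
  have h2 : ∀ y ∈ Q, (g * u * g⁻¹) * y = y * (g * u * g⁻¹) := by
    intro y hy
    have h3 : g⁻¹ * y * g ∈ Q := by
      have := h.conj_mem g⁻¹ hg' y hy
      rwa [inv_inv] at this
    have h4 := h.comm_u _ h3
    calc (g * u * g⁻¹) * y = g * (u * (g⁻¹ * y * g)) * g⁻¹ := by group
      _ = g * ((g⁻¹ * y * g) * u) * g⁻¹ := by rw [h4]
      _ = y * (g * u * g⁻¹) := by group
  have h5 : (g * u * g⁻¹) * (g * u * g⁻¹) = z := by
    calc (g * u * g⁻¹) * (g * u * g⁻¹) = g * (u * u) * g⁻¹ := by group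
      _ = z := by rw [h.u_sq, hg]; group
  rcases h.cent _ h1 h2 with h3 | h3 | h3 | h3
  · rw [h3, one_mul] at h5; exact absurd h5.symm h.z_ne
  · rw [h3, h.z_sq] at h5; exact absurd h5.symm h.z_ne
  · exact Or.inl h3
  · exact Or.inr h3

theorem mem_center (h : SW Q z u) {x : Q} :
    x ∈ Subgroup.center Q ↔ (x : G) = 1 ∨ (x : G) = z ∨ (x : G) = u ∨ (x : G) = u * z := by
  constructor
  · intro hx
    refine h.cent x x.2 fun y hy => ?_
    have := Subgroup.mem_center_iff.1 hx ⟨y, hy⟩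
    exact (congrArg Subtype.val this).symm
  · intro hx
    rw [Subgroup.mem_center_iff]
    intro y
    apply Subtype.ext
    show (y : G) * x = x * y
    rcases hx with hx | hx | hx | hx <;> rw [hx]
    · rw [mul_one, one_mul]
    · exact h.comm_z y y.2
    · exact h.comm_u y y.2
    · rw [← mul_assoc, h.comm_u y y.2, mul_assoc, h.comm_z y y.2, mul_assoc]

/-- The space `Q / ⟨u⟩`. -/
def V (_h : SW Q z u) : Type _ := Additive (Q ⧸ Subgroup.center Q)

theorem sq_mem (h : SW Q z u) (x : Q) : x * x ∈ Subgroup.center Q := by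
  rw [h.mem_center]
  rcases h.sq x x.2 with h1 | h1
  · exact Or.inl h1
  · exact Or.inr (Or.inl h1)

theorem comm_mem (h : SW Q z u) (x y : Q) : (x * y)⁻¹ * (y * x) ∈ Subgroup.center Q := by
  rw [h.mem_center]
  rcases h.comm x x.2 y y.2 with hc | hc
  · left
    show ((x : G) * y)⁻¹ * (y * x) = 1
    rw [hc]; group
  · right; left
    show ((x : G) * y)⁻¹ * (y * x) = z
    rw [hc, mul_inv_rev, h.z_inv]
    group

/-- the projection `Q → Q / ⟨u⟩` -/
def pr (h : SW Q z u) (x : Q) : h.V := Additive.ofMul (QuotientGroup.mk x : Q ⧸ Subgroup.center Q)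

theorem pr_surjective (h : SW Q z u) : Function.Surjective h.pr := by
  intro v
  obtain ⟨x, hx⟩ := QuotientGroup.mk_surjective (Additive.toMul (show Additive (Q ⧸ Subgroup.center Q) from v))
  exact ⟨x, by rw [pr, hx]; rfl⟩

noncomputable instance instAddGroup (h : SW Q z u) : AddGroup h.V :=
  inferInstanceAs (AddGroup (Additive (Q ⧸ Subgroup.center Q)))

noncomputable instance instAddCommGroup (h : SW Q z u) : AddCommGroup h.V :=
  { instAddGroup h with
    add_comm := by
      intro a b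
      obtain ⟨x, rfl⟩ := h.pr_surjective a
      obtain ⟨y, rfl⟩ := h.pr_surjective b
      exact congrArg Additive.ofMul (QuotientGroup.eq.2 (h.comm_mem x y)) }

theorem pr_mul (h : SW Q z u) (x y : Q) : h.pr (x * y) = h.pr x + h.pr y := rfl

theorem pr_one (h : SW Q z u) : h.pr 1 = 0 := rfl

theorem pr_inv (h : SW Q z u) (x : Q) : h.pr x⁻¹ = - h.pr x := rfl

theorem pr_eq_pr (h : SW Q z u) {x y : Q} : h.pr x = h.pr y ↔
    (x : G) = y ∨ (x : G) = y * z ∨ (x : G) = y * u ∨ (x : G) = y * (u * z) := by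
  have h1 : h.pr x = h.pr y ↔ y⁻¹ * x ∈ Subgroup.center Q := by
    constructor
    · intro hxy
      have : (QuotientGroup.mk y : Q ⧸ Subgroup.center Q) = QuotientGroup.mk x :=
        (Additive.ofMul.injective hxy).symm
      exact QuotientGroup.eq.1 this
    · intro hxy
      exact (congrArg Additive.ofMul (QuotientGroup.eq.2 hxy)).symm
  rw [h1, h.mem_center]
  have e : ∀ g : G, (((y⁻¹ * x : Q)) : G) = g ↔ (x : G) = y * g := by
    intro g
    show (y : G)⁻¹ * x = g ↔ _
    rw [inv_mul_eq_iff_eq_mul]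
  rw [e, e, e, e, mul_one]

theorem pr_eq_zero (h : SW Q z u) {x : Q} : h.pr x = 0 ↔
    (x : G) = 1 ∨ (x : G) = z ∨ (x : G) = u ∨ (x : G) = u * z := by
  rw [← h.pr_one, h.pr_eq_pr]; simp

theorem add_self (h : SW Q z u) (v : h.V) : v + v = 0 := by
  obtain ⟨x, rfl⟩ := h.pr_surjective v
  rw [← h.pr_mul, h.pr_eq_zero]
  rcases h.sq x x.2 with h1 | h1
  · exact Or.inl h1
  · exact Or.inr (Or.inl h1)

noncomputable instance instModule (h : SW Q z u) : Module (ZMod 2) h.V :=
  AddCommGroup.zmodModule (n := 2) (by intro x; rw [two_nsmul]; exact h.add_self x)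

theorem neg_eq (h : SW Q z u) (v : h.V) : -v = v := by
  rw [neg_eq_iff_add_eq_zero]; exact h.add_self v

/-- Every vector is represented by an involution (or `1`). -/
theorem exists_pr_eq (h : SW Q z u) (v : h.V) : ∃ x : Q, (x : G) * x = 1 ∧ h.pr x = v := by
  obtain ⟨x, rfl⟩ := h.pr_surjective v
  rcases h.sq x x.2 with h1 | h1
  · exact ⟨x, h1, rfl⟩
  · refine ⟨x * ⟨u, h.u_mem⟩, ?_, ?_⟩
    · show (x : G) * u * (x * u) = 1
      calc (x : G) * u * (x * u) = x * (u * x) * u := by group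
        _ = (x * x) * (u * u) := by rw [← h.comm_u x x.2]; group
        _ = 1 := by rw [h1, h.u_sq, h.z_sq]
    · rw [h.pr_eq_pr]
      right; right; left
      rfl

/-- Two involutions (or `1`) with the same image differ by `z`. -/
theorem eq_or_of_pr_eq (h : SW Q z u) {x y : Q} (hx : (x : G) * x = 1) (hy : (y : G) * y = 1)
    (hxy : h.pr x = h.pr y) : (x : G) = y ∨ (x : G) = y * z := by
  have hyu := h.comm_u y y.2
  have hyz := h.comm_z y y.2
  rcases h.pr_eq_pr.1 hxy with h1 | h1 | h1 | h1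
  · exact Or.inl h1
  · exact Or.inr h1
  · exfalso
    apply h.z_ne
    rw [h1] at hx
    calc z = (y : G) * y * (u * u) := by rw [hy, h.u_sq, one_mul]
      _ = y * (y * u) * u := by group
      _ = y * (u * y) * u := by rw [hyu]
      _ = y * u * (y * u) := by group
      _ = 1 := hx
  · exfalso
    apply h.z_ne
    rw [h1] at hx
    calc z = (y : G) * y * (u * u) * (z * z) := by rw [hy, h.u_sq, h.z_sq, one_mul, mul_one]
      _ = y * (y * u) * (u * z) * z := by group
      _ = y * (u * y) * (z * u) * z := by rw [hyu, h.uz]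
      _ = y * u * (y * z) * (u * z) := by group
      _ = y * (u * z) * (y * (u * z)) := by rw [hyz]; group
      _ = 1 := hx

/-! ### counting -/

instance [Finite Q] (h : SW Q z u) : Finite h.V := Finite.of_surjective h.pr h.pr_surjective

theorem card_center (h : SW Q z u) : Nat.card (Subgroup.center Q) = 4 := by
  have hu4 : orderOf u = 4 := by
    have : orderOf u = 2 ^ 2 := by
      refine orderOf_eq_prime_pow (p := 2) (n := 1) ?_ ?_
      · rw [pow_one, pow_two, h.u_sq]; exact h.z_ne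
      · rw [show (2 : ℕ) ^ (1 + 1) = 2 * 2 from rfl, pow_mul, pow_two u, h.u_sq, pow_two]; exact h.z_sq
    simpa using this
  have hc : (Subgroup.center Q).map Q.subtype = Subgroup.zpowers u := by
    ext x
    constructor
    · rintro ⟨y, hy, rfl⟩
      show (y : G) ∈ Subgroup.zpowers u
      rcases h.mem_center.1 hy with h1 | h1 | h1 | h1 <;> rw [h1]
      · exact one_mem _
      · rw [← h.u_sq]; exact mul_mem (Subgroup.mem_zpowers u) (Subgroup.mem_zpowers u)
      · exact Subgroup.mem_zpowers u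
      · rw [← h.u_sq]
        exact mul_mem (Subgroup.mem_zpowers u) (mul_mem (Subgroup.mem_zpowers u) (Subgroup.mem_zpowers u))
    · intro hx
      have hle : Subgroup.zpowers u ≤ (Subgroup.center Q).map Q.subtype := by
        rw [Subgroup.zpowers_le]
        exact ⟨⟨u, h.u_mem⟩, h.mem_center.2 (Or.inr (Or.inr (Or.inl rfl))), rfl⟩
      exact hle hx
  have h1 : Nat.card ((Subgroup.center Q).map Q.subtype) = Nat.card (Subgroup.center Q) :=
    Subgroup.card_map_of_injective Q.subtype_injective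
  rw [← h1, hc, Nat.card_zpowers, hu4]

theorem card_eq (h : SW Q z u) : Nat.card Q = 4 * Nat.card h.V := by
  have h1 : Nat.card h.V = Nat.card (Q ⧸ Subgroup.center Q) := rfl
  rw [h1, ← h.card_center, mul_comm]
  exact Subgroup.card_eq_card_quotient_mul_card_subgroup (Subgroup.center Q)

/-! ### the commutator form -/

/-- the value in `ZMod 2` of a central element -/
noncomputable def val (g : G) : ZMod 2 := by classical exact if g = 1 then 0 else 1

theorem val_one : val (1 : G) = 0 := by simp [val]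

theorem val_of_ne {g : G} (hg : g ≠ 1) : val g = 1 := by simp [val, hg]

/-- commutator form, as a function -/
noncomputable def b0 (h : SW Q z u) (v w : h.V) : ZMod 2 :=
  val (((Function.surjInv h.pr_surjective v : Q) : G) * (Function.surjInv h.pr_surjective w : Q) *
    (((Function.surjInv h.pr_surjective v : Q) : G)⁻¹ *
      ((Function.surjInv h.pr_surjective w : Q) : G)⁻¹))

/-- commutation only depends on the images -/
theorem comm_congr (h : SW Q z u) {x x' y y' : Q} (hx : h.pr x = h.pr x') (hy : h.pr y = h.pr y')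
    (hc : (x : G) * y = y * x) : (x' : G) * y' = y' * x' := by
  have key : ∀ a a' b : Q, h.pr a = h.pr a' → (a : G) * b = b * a → (a' : G) * b = b * a' := by
    intro a a' b hab hc
    have hbu := h.comm_u b b.2
    have hbz := h.comm_z b b.2
    rcases h.pr_eq_pr.1 hab.symm with h1 | h1 | h1 | h1 <;> rw [h1]
    · exact hc
    · rw [mul_assoc, ← hbz, ← mul_assoc, hc, mul_assoc]
    · rw [mul_assoc, ← hbu, ← mul_assoc, hc, mul_assoc]
    · rw [mul_assoc, mul_assoc u z, ← hbz, ← mul_assoc u, ← hbu, ← mul_assoc, ← mul_assoc, hc]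
      group
  have h1 := key x x' y hx hc
  exact (key y y' x' hy h1.symm).symm

theorem b0_eq_zero (h : SW Q z u) {x y : Q} :
    h.b0 (h.pr x) (h.pr y) = 0 ↔ (x : G) * y = y * x := by
  have h1 : h.pr (Function.surjInv h.pr_surjective (h.pr x)) = h.pr x :=
    Function.surjInv_eq h.pr_surjective (h.pr x)
  have h2 : h.pr (Function.surjInv h.pr_surjective (h.pr y)) = h.pr y :=
    Function.surjInv_eq h.pr_surjective (h.pr y)
  set x' := Function.surjInv h.pr_surjective (h.pr x) with hx'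
  set y' := Function.surjInv h.pr_surjective (h.pr y) with hy'
  have h3 : h.b0 (h.pr x) (h.pr y) = val ((x' : G) * y' * ((x' : G)⁻¹ * (y' : G)⁻¹)) := rfl
  rw [h3]
  constructor
  · intro he
    apply h.comm_congr h1 h2
    by_contra hne
    have : (x' : G) * y' * ((x' : G)⁻¹ * (y' : G)⁻¹) ≠ 1 := by
      intro h1
      apply hne
      rw [← mul_inv_rev, mul_inv_eq_one] at h1
      exact h1
    rw [val_of_ne this] at he
    exact one_ne_zero he
  · intro he
    have := h.comm_congr h1.symm h2.symm he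
    rw [this, ← mul_inv_rev, mul_inv_cancel, val_one]

theorem b0_eq_one (h : SW Q z u) {x y : Q} :
    h.b0 (h.pr x) (h.pr y) = 1 ↔ (x : G) * y = y * x * z := by
  have h01 : ∀ a : ZMod 2, a = 1 ↔ a ≠ 0 := by decide
  rw [h01, Ne, h.b0_eq_zero]
  constructor
  · intro hne
    exact (h.comm x x.2 y y.2).resolve_left hne
  · intro he hne
    rw [hne] at he
    exact h.z_ne (mul_eq_left.1 he.symm)

theorem b0_comm (h : SW Q z u) (v w : h.V) : h.b0 v w = h.b0 w v := by
  obtain ⟨x, rfl⟩ := h.pr_surjective v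
  obtain ⟨y, rfl⟩ := h.pr_surjective w
  by_cases hc : (x : G) * y = y * x
  · rw [h.b0_eq_zero.2 hc, h.b0_eq_zero.2 hc.symm]
  · have h1 : h.b0 (h.pr x) (h.pr y) ≠ 0 := fun he => hc (h.b0_eq_zero.1 he)
    have h2 : h.b0 (h.pr y) (h.pr x) ≠ 0 := fun he => hc (h.b0_eq_zero.1 he).symm
    have h01 : ∀ a b : ZMod 2, a ≠ 0 → b ≠ 0 → a = b := by decide
    exact h01 _ _ h1 h2

theorem b0_self (h : SW Q z u) (v : h.V) : h.b0 v v = 0 := by
  obtain ⟨x, rfl⟩ := h.pr_surjective v
  rw [h.b0_eq_zero]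

theorem b0_add_left (h : SW Q z u) (v v' w : h.V) : h.b0 (v + v') w = h.b0 v w + h.b0 v' w := by
  obtain ⟨x, rfl⟩ := h.pr_surjective v
  obtain ⟨x', rfl⟩ := h.pr_surjective v'
  obtain ⟨y, rfl⟩ := h.pr_surjective w
  rw [← h.pr_mul]
  have hx := h.commz x.2
  have hx' := h.commz x'.2
  have hy := h.commz y.2
  rcases h.comm x x.2 y y.2 with h1 | h1 <;> rcases h.comm x' x'.2 y y.2 with h2 | h2
  · rw [h.b0_eq_zero.2 h1, h.b0_eq_zero.2 h2, h.b0_eq_zero.2]
    · rfl
    · show (x : G) * x' * y = y * (x * x')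
      rw [mul_assoc, h2, ← mul_assoc, h1, mul_assoc]
  · rw [h.b0_eq_zero.2 h1, h.b0_eq_one.2 h2, h.b0_eq_one.2]
    · rfl
    · show (x : G) * x' * y = y * (x * x') * z
      rw [mul_assoc, h2, ← mul_assoc, ← mul_assoc, h1, ← mul_assoc]
  · rw [h.b0_eq_one.2 h1, h.b0_eq_zero.2 h2, h.b0_eq_one.2]
    · rfl
    · show (x : G) * x' * y = y * (x * x') * z
      rw [mul_assoc, h2, ← mul_assoc, h1, mul_assoc (_ * _) z, ← hx'.eq]
      simp only [mul_assoc]
  · rw [h.b0_eq_one.2 h1, h.b0_eq_one.2 h2, h.b0_eq_zero.2]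
    · decide
    · show (x : G) * x' * y = y * (x * x')
      rw [mul_assoc, h2, ← mul_assoc, ← mul_assoc, h1, mul_assoc (_ * _) z (x' : G), ← hx'.eq,
        ← mul_assoc, mul_assoc _ z z, h.z_sq, mul_one, mul_assoc]

theorem b0_add_right (h : SW Q z u) (v w w' : h.V) : h.b0 v (w + w') = h.b0 v w + h.b0 v w' := by
  rw [h.b0_comm v, h.b0_add_left, h.b0_comm w, h.b0_comm w']

/-- commutator form as a bilinear form -/
noncomputable def b (h : SW Q z u) : LinearMap.BilinForm (ZMod 2) h.V :=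
  (AddMonoidHom.toZModLinearMap 2
    { toFun := fun v => AddMonoidHom.toZModLinearMap 2
        { toFun := fun w => h.b0 v w
          map_zero' := by
            have := h.b0_add_right v 0 0
            simpa using this
          map_add' := fun w w' => h.b0_add_right v w w' }
      map_zero' := by
        ext w
        show h.b0 0 w = 0
        have := h.b0_add_left 0 0 w
        simpa using this
      map_add' := fun v v' => by
        ext w
        exact h.b0_add_left v v' w })

theorem b_apply (h : SW Q z u) (v w : h.V) : h.b v w = h.b0 v w := rfl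

theorem b_pr (h : SW Q z u) (x y : Q) : h.b (h.pr x) (h.pr y) = 0 ↔ (x : G) * y = y * x :=
  h.b0_eq_zero

theorem b_pr_one (h : SW Q z u) (x y : Q) :
    h.b (h.pr x) (h.pr y) = 1 ↔ (x : G) * y = y * x * z :=
  h.b0_eq_one

theorem b_self (h : SW Q z u) (v : h.V) : h.b v v = 0 := h.b0_self v

theorem b_comm (h : SW Q z u) (v w : h.V) : h.b v w = h.b w v := h.b0_comm v w

theorem b_nondeg (h : SW Q z u) {v : h.V} (hv : ∀ w, h.b v w = 0) : v = 0 := by
  obtain ⟨x, rfl⟩ := h.pr_surjective v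
  rw [h.pr_eq_zero]
  refine h.cent x x.2 fun y hy => ?_
  exact (h.b_pr x ⟨y, hy⟩).1 (hv _)

/-! ### the action of `C_G(z)` -/

theorem conj_mem_cent (h : SW Q z u) (g : Subgroup.centralizer ({z} : Set G)) (x : Q) :
    (g : G) * x * (g : G)⁻¹ ∈ Q :=
  h.conj_mem g (Subgroup.mem_centralizer_singleton_iff.1 g.2) x x.2

/-- conjugation `x ↦ g x g⁻¹` on `Q` -/
def conjQ (h : SW Q z u) (g : Subgroup.centralizer ({z} : Set G)) (x : Q) : Q :=
  ⟨(g : G) * x * (g : G)⁻¹, h.conj_mem_cent g x⟩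

theorem conjQ_coe (h : SW Q z u) (g : Subgroup.centralizer ({z} : Set G)) (x : Q) :
    ((h.conjQ g x : Q) : G) = (g : G) * x * (g : G)⁻¹ := rfl

theorem conjQ_mul (h : SW Q z u) (g : Subgroup.centralizer ({z} : Set G)) (x y : Q) :
    h.conjQ g (x * y) = h.conjQ g x * h.conjQ g y := by
  apply Subtype.ext
  show (g : G) * (x * y) * (g : G)⁻¹ = (g : G) * x * (g : G)⁻¹ * (g * y * (g : G)⁻¹)
  group

theorem pr_conjQ_congr (h : SW Q z u) (g : Subgroup.centralizer ({z} : Set G)) {x y : Q}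
    (hxy : h.pr x = h.pr y) : h.pr (h.conjQ g x) = h.pr (h.conjQ g y) := by
  have hg : (g : G) * z = z * g := Subgroup.mem_centralizer_singleton_iff.1 g.2
  have h1 : h.pr (y⁻¹ * x) = 0 := by rw [h.pr_mul, h.pr_inv, hxy, neg_add_cancel]
  have h2 : h.pr (h.conjQ g (y⁻¹ * x)) = 0 := by
    have e : ∀ c : G, ((y⁻¹ * x : Q) : G) = c → ((h.conjQ g (y⁻¹ * x) : Q) : G) = g * c * (g : G)⁻¹ := by
      intro c hc; rw [conjQ_coe, hc]
    have hz : (g : G) * z * (g : G)⁻¹ = z := by rw [hg]; group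
    rw [h.pr_eq_zero] at h1 ⊢
    rcases h1 with h1 | h1 | h1 | h1 <;> rw [e _ h1]
    · left; group
    · right; left; exact hz
    · rcases h.conj_u hg with h3 | h3 <;> rw [h3]
      · right; right; left; rfl
      · right; right; right; rfl
    · have e2 : (g : G) * (u * z) * (g : G)⁻¹ = (g * u * (g : G)⁻¹) * (g * z * (g : G)⁻¹) := by group
      rw [e2, hz]
      rcases h.conj_u hg with h3 | h3 <;> rw [h3]
      · right; right; right; rfl
      · right; right; left; rw [mul_assoc, h.z_sq, mul_one]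
  rw [h.conjQ_mul, h.pr_mul] at h2
  have h3 : h.conjQ g y⁻¹ = (h.conjQ g y)⁻¹ := by
    apply Subtype.ext
    show (g : G) * (y : G)⁻¹ * (g : G)⁻¹ = ((g : G) * y * (g : G)⁻¹)⁻¹
    group
  rw [h3, h.pr_inv, neg_add_eq_zero] at h2
  exact h2.symm

/-- the action of an element on `V`, as a function -/
noncomputable def act0 (h : SW Q z u) (g : Subgroup.centralizer ({z} : Set G)) (v : h.V) : h.V :=
  h.pr (h.conjQ g (Function.surjInv h.pr_surjective v))

theorem act0_pr (h : SW Q z u) (g : Subgroup.centralizer ({z} : Set G)) (x : Q) :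
    h.act0 g (h.pr x) = h.pr (h.conjQ g x) :=
  h.pr_conjQ_congr g (Function.surjInv_eq h.pr_surjective _)

theorem act0_add (h : SW Q z u) (g : Subgroup.centralizer ({z} : Set G)) (v w : h.V) :
    h.act0 g (v + w) = h.act0 g v + h.act0 g w := by
  obtain ⟨x, rfl⟩ := h.pr_surjective v
  obtain ⟨y, rfl⟩ := h.pr_surjective w
  rw [← h.pr_mul, h.act0_pr, h.act0_pr, h.act0_pr, h.conjQ_mul, h.pr_mul]

theorem act0_mul (h : SW Q z u) (g g' : Subgroup.centralizer ({z} : Set G)) (v : h.V) :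
    h.act0 (g * g') v = h.act0 g (h.act0 g' v) := by
  obtain ⟨x, rfl⟩ := h.pr_surjective v
  rw [h.act0_pr, h.act0_pr, h.act0_pr]
  congr 1
  apply Subtype.ext
  show ((g * g' : Subgroup.centralizer ({z} : Set G)) : G) * x *
    ((g * g' : Subgroup.centralizer ({z} : Set G)) : G)⁻¹ = (g : G) * (g' * x * (g' : G)⁻¹) * (g : G)⁻¹
  rw [Subgroup.coe_mul]; group

theorem act0_one (h : SW Q z u) (v : h.V) : h.act0 1 v = v := by
  obtain ⟨x, rfl⟩ := h.pr_surjective v
  rw [h.act0_pr]
  congr 1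
  apply Subtype.ext
  show ((1 : Subgroup.centralizer ({z} : Set G)) : G) * x *
    ((1 : Subgroup.centralizer ({z} : Set G)) : G)⁻¹ = x
  simp

/-- the linear action of `C_G(z)` on `V` by conjugation `x ↦ g x g⁻¹` -/
noncomputable def act (h : SW Q z u) :
    Subgroup.centralizer ({z} : Set G) →* (h.V ≃ₗ[ZMod 2] h.V) where
  toFun g :=
    { (AddMonoidHom.toZModLinearMap 2
        ({ toFun := h.act0 g
           map_zero' := by
            have := h.act0_add g 0 0
            simpa using this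
           map_add' := h.act0_add g } : h.V →+ h.V)) with
      invFun := h.act0 g⁻¹
      left_inv := fun v => by
        show h.act0 g⁻¹ (h.act0 g v) = v
        rw [← h.act0_mul, inv_mul_cancel, h.act0_one]
      right_inv := fun v => by
        show h.act0 g (h.act0 g⁻¹ v) = v
        rw [← h.act0_mul, mul_inv_cancel, h.act0_one] }
  map_one' := by
    ext v
    exact h.act0_one v
  map_mul' g g' := by
    ext v
    exact h.act0_mul g g' v

theorem act_pr (h : SW Q z u) (g : Subgroup.centralizer ({z} : Set G)) (x : Q) :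
    h.act g (h.pr x) = h.pr (h.conjQ g x) := h.act0_pr g x

theorem act_pr_coe (h : SW Q z u) (c : Subgroup.centralizer ({z} : Set G)) (x : Q) (y : Q)
    (hxy : (c : G) * x * (c : G)⁻¹ = y) : h.act c (h.pr x) = h.pr y := by
  rw [h.act_pr]
  congr 1
  exact Subtype.ext hxy

theorem b_act (h : SW Q z u) (g : Subgroup.centralizer ({z} : Set G)) (v w : h.V) :
    h.b (h.act g v) (h.act g w) = h.b v w := by
  obtain ⟨x, rfl⟩ := h.pr_surjective v
  obtain ⟨y, rfl⟩ := h.pr_surjective w
  rw [h.act_pr, h.act_pr]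
  have hz : (g : G) * z * (g : G)⁻¹ = z := by
    rw [Subgroup.mem_centralizer_singleton_iff.1 g.2]; group
  rcases h.comm x x.2 y y.2 with h1 | h1
  · rw [(h.b_pr x y).2 h1, h.b_pr, conjQ_coe, conjQ_coe]
    calc (g : G) * x * (g : G)⁻¹ * (g * y * (g : G)⁻¹) = g * (x * y) * (g : G)⁻¹ := by group
      _ = (g : G) * y * (g : G)⁻¹ * (g * x * (g : G)⁻¹) := by rw [h1]; group
  · rw [(h.b_pr_one x y).2 h1, h.b_pr_one, conjQ_coe, conjQ_coe]
    calc (g : G) * x * (g : G)⁻¹ * (g * y * (g : G)⁻¹) = g * (x * y) * (g : G)⁻¹ := by group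
      _ = (g : G) * y * (g : G)⁻¹ * (g * x * (g : G)⁻¹) * (g * z * (g : G)⁻¹) := by rw [h1]; group
      _ = _ := by rw [hz]

/-- elements of `Q` act trivially -/
theorem act_mem (h : SW Q z u) (g : Subgroup.centralizer ({z} : Set G)) (hg : (g : G) ∈ Q) :
    h.act g = 1 := by
  ext v
  obtain ⟨x, rfl⟩ := h.pr_surjective v
  rw [h.act_pr]
  show h.pr (h.conjQ g x) = h.pr x
  rw [h.pr_eq_pr, conjQ_coe]
  rcases h.comm g hg x x.2 with h1 | h1
  · left; rw [h1]; group
  · right; left
    have hgz : z * (g : G)⁻¹ = (g : G)⁻¹ * z := (h.commz hg).inv_left.eq.symm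
    rw [h1, mul_assoc _ z, hgz]; group

/-- duality: every linear functional on `V` is `b v ·` (finite case) -/
theorem exists_b_eq [Finite Q] (h : SW Q z u) (f : h.V →ₗ[ZMod 2] ZMod 2) :
    ∃ v, ∀ w, h.b v w = f w := by
  have : Module.Finite (ZMod 2) h.V := Module.Finite.of_finite
  have hinj : Function.Injective h.b := by
    rw [← LinearMap.ker_eq_bot, LinearMap.ker_eq_bot']
    intro v hv
    exact h.b_nondeg fun w => by rw [hv]; rfl
  have hsurj : Function.Surjective h.b :=
    (LinearMap.injective_iff_surjective_of_finrank_eq_finrank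
      (Subspace.dual_finrank_eq (K := ZMod 2) (V := h.V)).symm).1 hinj
  obtain ⟨v, hv⟩ := hsurj f
  exact ⟨v, fun w => by rw [hv]⟩

/-- An element of `C(z)` centralising `u` and acting trivially on `V` lies in `Q`. -/
theorem mem_of_act_comm [Finite Q] (h : SW Q z u) (g : Subgroup.centralizer ({z} : Set G))
    (hg : h.act g = 1) (hu : (g : G) * u = u * g) : (g : G) ∈ Q := by
  classical
  have hgz : (g : G) * z = z * g := Subgroup.mem_centralizer_singleton_iff.1 g.2
  have hz : (g : G) * z * (g : G)⁻¹ = z := by rw [hgz]; group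
  -- `[g, x] ∈ ⟨z⟩` for all `x`
  have h1 : ∀ x : Q, (g : G) * x * (g : G)⁻¹ = x ∨ (g : G) * x * (g : G)⁻¹ = x * z := by
    intro x
    have h2 : h.pr (h.conjQ g x) = h.pr x := by rw [← h.act_pr, hg]; rfl
    have hsq : (g : G) * x * (g : G)⁻¹ * (g * x * (g : G)⁻¹) = x * x := by
      calc (g : G) * x * (g : G)⁻¹ * (g * x * (g : G)⁻¹) = g * (x * x) * (g : G)⁻¹ := by group
        _ = x * x := by
          rcases h.sq x x.2 with h3 | h3 <;> rw [h3]
          · group
          · exact hz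
    have hxu := h.comm_u x x.2
    have hxz := h.comm_z x x.2
    rcases h.pr_eq_pr.1 h2 with h3 | h3 | h3 | h3
    · exact Or.inl h3
    · exact Or.inr h3
    · exfalso
      apply h.z_ne
      rw [conjQ_coe] at h3
      rw [h3] at hsq
      have : (x : G) * u * (x * u) = x * x * z := by
        calc (x : G) * u * (x * u) = x * (u * x) * u := by group
          _ = x * x * (u * u) := by rw [← hxu]; group
          _ = _ := by rw [h.u_sq]
      rw [this] at hsq
      exact mul_eq_left.1 hsq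
    · exfalso
      apply h.z_ne
      rw [conjQ_coe] at h3
      rw [h3] at hsq
      have : (x : G) * (u * z) * (x * (u * z)) = x * x * z := by
        calc (x : G) * (u * z) * (x * (u * z)) = x * u * (z * x) * (u * z) := by group
          _ = x * u * x * (z * u) * z := by rw [← hxz]; group
          _ = x * (u * x) * u * (z * z) := by rw [← h.uz]; group
          _ = x * x * (u * u) := by rw [← hxu, h.z_sq]; group
          _ = _ := by rw [h.u_sq]
      rw [this] at hsq
      exact mul_eq_left.1 hsq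
  -- the functional
  let f0 : Q → ZMod 2 := fun x => val ((g : G) * x * (g : G)⁻¹ * (x : G)⁻¹)
  have hf0 : ∀ x : Q, f0 x = 0 ↔ (g : G) * x * (g : G)⁻¹ = x := by
    intro x
    constructor
    · intro h2
      by_contra hne
      have : (g : G) * x * (g : G)⁻¹ * (x : G)⁻¹ ≠ 1 := by rwa [Ne, mul_inv_eq_one]
      rw [show f0 x = 1 from val_of_ne this] at h2
      exact one_ne_zero h2
    · intro h2
      show val _ = 0
      rw [h2, mul_inv_cancel, val_one]
  have hf1 : ∀ x : Q, f0 x = 1 ↔ (g : G) * x * (g : G)⁻¹ = x * z := by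
    intro x
    have h01 : ∀ a : ZMod 2, a = 1 ↔ a ≠ 0 := by decide
    rw [h01, Ne, hf0]
    constructor
    · exact (h1 x).resolve_left
    · intro h2 h3
      rw [h3] at h2
      exact h.z_ne (mul_eq_left.1 h2.symm)
  have hfmul : ∀ x y : Q, f0 (x * y) = f0 x + f0 y := by
    intro x y
    have e : (g : G) * ((x * y : Q) : G) * (g : G)⁻¹ = (g * x * (g : G)⁻¹) * (g * y * (g : G)⁻¹) := by
      rw [Subgroup.coe_mul]; group
    have hyz := h.comm_z y y.2
    rcases h1 x with h2 | h2 <;> rcases h1 y with h3 | h3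
    · rw [(hf0 x).2 h2, (hf0 y).2 h3, (hf0 _).2]; · rfl
      rw [e, h2, h3]; rfl
    · rw [(hf0 x).2 h2, (hf1 y).2 h3, (hf1 _).2]; · rfl
      rw [e, h2, h3, ← mul_assoc]; rfl
    · rw [(hf1 x).2 h2, (hf0 y).2 h3, (hf1 _).2]; · rfl
      rw [e, h2, h3, mul_assoc, ← hyz, ← mul_assoc]; rfl
    · rw [(hf1 x).2 h2, (hf1 y).2 h3, (hf0 _).2]; · decide
      rw [e, h2, h3]
      calc (x : G) * z * (y * z) = x * (z * y) * z := by group
        _ = x * y * (z * z) := by rw [← hyz]; group
        _ = _ := by rw [h.z_sq, mul_one]; rfl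
  have hfcongr : ∀ x y : Q, h.pr x = h.pr y → f0 x = f0 y := by
    intro x y hxy
    have h2 : h.pr (y⁻¹ * x) = 0 := by rw [h.pr_mul, h.pr_inv, hxy, neg_add_cancel]
    have h3 : f0 (y⁻¹ * x) = 0 := by
      rw [hf0]
      have hguu : (g : G) * u * (g : G)⁻¹ = u := by rw [hu]; group
      rcases h.pr_eq_zero.1 h2 with h3 | h3 | h3 | h3 <;> rw [h3]
      · group
      · exact hz
      · exact hguu
      · calc (g : G) * (u * z) * (g : G)⁻¹ = (g * u * (g : G)⁻¹) * (g * z * (g : G)⁻¹) := by group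
          _ = u * z := by rw [hguu, hz]
    have h4 : x = y * (y⁻¹ * x) := by group
    rw [h4, hfmul, h3, add_zero]
  obtain ⟨v, hv⟩ := h.exists_b_eq (AddMonoidHom.toZModLinearMap 2
    { toFun := fun v => f0 (Function.surjInv h.pr_surjective v)
      map_zero' := by
        rw [hfcongr _ 1 ((Function.surjInv_eq h.pr_surjective _).trans h.pr_one.symm), hf0]
        show (g : G) * 1 * (g : G)⁻¹ = 1
        group
      map_add' := by
        intro a b
        rw [← hfmul]
        apply hfcongr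
        have e := Function.surjInv_eq h.pr_surjective
        rw [h.pr_mul, e, e, e] })
  obtain ⟨x, rfl⟩ := h.pr_surjective v
  have hx : ∀ y : Q, h.b (h.pr x) (h.pr y) = f0 y := by
    intro y
    rw [hv]
    exact hfcongr _ _ (Function.surjInv_eq h.pr_surjective _)
  -- `x⁻¹ g` centralises `Q`
  have hc : ∀ y ∈ Q, ((x : G)⁻¹ * g) * y = y * ((x : G)⁻¹ * g) := by
    intro y hy
    have hyz := h.comm_z y hy
    have hxz := h.comm_z x x.2
    rcases h1 ⟨y, hy⟩ with h2 | h2
    · have h3 := (hf0 ⟨y, hy⟩).2 h2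
      rw [← hx, h.b_pr] at h3
      have h2' : (g : G) * y = y * g := by
        have h2'' : (g : G) * y * (g : G)⁻¹ = y := h2
        rw [mul_inv_eq_iff_eq_mul] at h2''
        exact h2''
      have h3' : (x : G) * y = y * x := h3
      have h4 : (x : G)⁻¹ * y = y * (x : G)⁻¹ := by
        rw [inv_mul_eq_iff_eq_mul, ← mul_assoc, h3']; group
      rw [mul_assoc, h2', ← mul_assoc, h4, mul_assoc]
    · have h3 := (hf1 ⟨y, hy⟩).2 h2
      rw [← hx, h.b_pr_one] at h3
      have h2' : (g : G) * y = y * z * g := by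
        have h2'' : (g : G) * y * (g : G)⁻¹ = y * z := h2
        rw [mul_inv_eq_iff_eq_mul] at h2''
        exact h2''
      have h3' : (x : G) * y = y * x * z := h3
      have h4 : (x : G)⁻¹ * (y * z) = y * (x : G)⁻¹ := by
        rw [inv_mul_eq_iff_eq_mul, ← mul_assoc, h3', mul_assoc (_ * _) z, ]
        calc y * z = y * (x * (z * (x : G)⁻¹)) := by
              rw [← mul_assoc (x : G) z, hxz, mul_assoc, mul_inv_cancel, mul_one]
          _ = y * x * (z * (x : G)⁻¹) := by group
      rw [mul_assoc, h2', ← mul_assoc, h4, mul_assoc]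
  have hxg : ((x : G)⁻¹ * g) * z = z * ((x : G)⁻¹ * g) := by
    have hxz : (x : G)⁻¹ * z = z * (x : G)⁻¹ := (h.commz x.2).inv_left.eq
    rw [mul_assoc, hgz, ← mul_assoc, hxz, mul_assoc]
  have h5 : (x : G)⁻¹ * g ∈ Q := by
    rcases h.self _ hxg hc with h6 | h6 | h6 | h6 <;> rw [h6]
    · exact one_mem _
    · exact h.z_mem
    · exact h.u_mem
    · exact mul_mem h.u_mem h.z_mem
  have h6 := mul_mem x.2 h5
  rwa [← mul_assoc, mul_inv_cancel, one_mul] at h6

theorem isPGroup (h : SW Q z u) : IsPGroup 2 Q := by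
  intro x
  refine ⟨2, ?_⟩
  apply Subtype.ext
  show ((x : G)) ^ (2 ^ 2) = 1
  have : (x : G) ^ (2 ^ 2) = (x * x) * (x * x) := by
    rw [show (2 ^ 2 : ℕ) = 2 * 2 from rfl, pow_mul, pow_two, pow_two]
  rw [this]
  rcases h.sq x x.2 with h1 | h1 <;> rw [h1]
  · rw [one_mul]
  · exact h.z_sq

/-- the kernel of the action is `Q` -/
theorem mem_of_act (h : SW Q z u) (g : Subgroup.centralizer ({z} : Set G))
    (hg : h.act g = 1) : (g : G) ∈ Q := by
  apply h.faith g (Subgroup.mem_centralizer_singleton_iff.1 g.2)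
  intro x hx
  have h1 : h.pr (h.conjQ g ⟨x, hx⟩) = h.pr ⟨x, hx⟩ := by rw [← h.act_pr, hg]; rfl
  exact h.pr_eq_pr.1 h1

end SW

/-- The data of the centralizer of an involution of `HS`.  `L` is the set of the five lines (subgroups of order 16 of
`Q` containing `u`), `A = 4 × 4 × 4` contains one of them, `s` is an involution inverting `u` and normalising `A`. -/
structure Dat {G : Type*} [Group G] (Q A : Subgroup G) (z u s : G) : Prop where
  sw : SW Q z u
  card_Q : Nat.card Q = 64
  card_C : Nat.card (Subgroup.centralizer ({z} : Set G)) = 7680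
  lines : ∃ L : Set (Subgroup G), A ⊓ Q ∈ L ∧
    (∀ B ∈ L, B ≤ Q ∧ u ∈ B ∧ Nat.card B = 16 ∧ ∀ x ∈ B, ∀ y ∈ B, x * y = y * x) ∧
    (∀ B ∈ L, ∀ B' ∈ L, ∀ x ∈ B, x ∈ B' → x ≠ 1 → x ≠ z → x ≠ u → x ≠ u * z → B = B') ∧
    (∀ x ∈ Q, ∃ B ∈ L, x ∈ B) ∧
    (∀ g, g * z = z * g → ∀ B ∈ L, ∃ B' ∈ L, ∀ x ∈ B, g * x * g⁻¹ ∈ B')
  comm_A : ∀ a ∈ A, ∀ b ∈ A, a * b = b * a
  exp_A : ∀ a ∈ A, a * a * (a * a) = 1
  card_A : Nat.card A = 64
  s_sq : s * s = 1
  s_u : s * u * s⁻¹ = u * z
  s_A : ∀ a ∈ A, s * a * s⁻¹ ∈ A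

end Cfsg.Agent.HSU.Base
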