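import Cfsg.Agent.HSType.UniqC

/-!
Tables of elements of `C0 ≤ Perm (Fin 100)` and a checker for subgroups of `C0` given by generators.
-/

set_option autoImplicit false
set_option maxRecDepth 100000

namespace Cfsg.Agent.HSU.Tab

open Cfsg.Agent.HSType.Letters Cfsg.Agent.SporadicA.PermTab Equiv
open Cfsg.Agent.SporadicRecognition.CosetCert (ev)

/-- `P` is the table of `g` -/
def TB (g : ↥C0) (P : ℕ) : Prop := P < 2 ^ 1100 ∧ ∀ x : Fin 100, ((g.1 x : Fin 100) : ℕ) = lk P x

theorem TB.inj {g h : ↥C0} {P : ℕ} (hg : TB g P) (hh : TB h P) : g = h :=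
  Subtype.ext (Equiv.ext fun x => Fin.ext ((hg.2 x).trans (hh.2 x).symm))

theorem eq_of_lk {P P' : ℕ} (h : P < 2 ^ 1100) (h' : P' < 2 ^ 1100) (hl : ∀ x < 100, lk P x = lk P' x) :
    P = P' := by
  apply Nat.eq_of_testBit_eq
  intro k
  by_cases hk : k < 1100
  · have h1 := hl (k / 11) (by omega)
    have h2 : ∀ R : ℕ, Nat.testBit (lk R (k / 11)) (k % 11) = Nat.testBit R k := by
      intro R
      change Nat.testBit ((R >>> (11 * (k / 11))) &&& 2047) (k % 11) = _
      rw [Nat.testBit_and, Nat.testBit_shiftRight, Nat.div_add_mod,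
        show (2047 : ℕ) = 2 ^ 11 - 1 from rfl, Nat.testBit_two_pow_sub_one]
      simp [Nat.mod_lt k (show 11 > 0 by norm_num)]
    rw [← h2 P, ← h2 P', h1]
  · rw [Nat.testBit_lt_two_pow (lt_of_lt_of_le h (Nat.pow_le_pow_right two_pos (not_lt.1 hk))),
      Nat.testBit_lt_two_pow (lt_of_lt_of_le h' (Nat.pow_le_pow_right two_pos (not_lt.1 hk)))]

theorem TB.uniq {g : ↥C0} {P P' : ℕ} (h : TB g P) (h' : TB g P') : P = P' :=
  eq_of_lk h.1 h'.1 fun x hx => (h.2 ⟨x, hx⟩).symm.trans (h'.2 ⟨x, hx⟩)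

/-- `R` is the table of the product -/
def chkMul (P Q R : ℕ) : Bool := allB (fun x => Nat.beq (lk P (lk Q x)) (lk R x)) 100

theorem TB.mul {g h : ↥C0} {P Q R : ℕ} (hg : TB g P) (hh : TB h Q) (hR : R < 2 ^ 1100)
    (hc : chkMul P Q R = true) : TB (g * h) R := by
  refine ⟨hR, fun x => ?_⟩
  have h1 := Nat.eq_of_beq_eq_true ((allB_iff _ _).1 hc x x.2)
  rw [← h1, ← hh.2 x, ← hg.2]; rfl

theorem chkMul_of {g h : ↥C0} {P Q R : ℕ} (hg : TB g P) (hh : TB h Q) (hR : TB (g * h) R) :
    chkMul P Q R = true := by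
  refine (allB_iff _ _).2 fun x hx => ?_
  have h1 : lk P (lk Q x) = lk R x := by
    have h2 := hR.2 ⟨x, hx⟩
    have h3 := hh.2 ⟨x, hx⟩
    have h4 := hg.2 (h.1 ⟨x, hx⟩)
    rw [h3] at h4
    rw [← h4, ← h2]; rfl
  rw [h1]; exact Nat.beq_refl _

/-- two tables commute -/
def chkComm (P Q : ℕ) : Bool := allB (fun x => Nat.beq (lk P (lk Q x)) (lk Q (lk P x))) 100

theorem chkComm_of {g h : ↥C0} {P Q : ℕ} (hg : TB g P) (hh : TB h Q) (hc : g * h = h * g) :
    chkComm P Q = true := by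
  refine (allB_iff _ _).2 fun x hx => ?_
  have h1 : lk P (lk Q x) = lk Q (lk P x) := by
    have h3 := hh.2 ⟨x, hx⟩
    have h4 := hg.2 (h.1 ⟨x, hx⟩)
    have h5 := hg.2 ⟨x, hx⟩
    have h6 := hh.2 (g.1 ⟨x, hx⟩)
    rw [h3] at h4
    rw [h5] at h6
    rw [← h4, ← h6]
    exact congrArg (fun k : ↥C0 => ((k.1 ⟨x, hx⟩ : Fin 100) : ℕ)) hc
  rw [h1]; exact Nat.beq_refl _

theorem comm_of_chk {g h : ↥C0} {P Q : ℕ} (hg : TB g P) (hh : TB h Q) (hc : chkComm P Q = true) :
    g * h = h * g := by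
  refine Subtype.ext (Equiv.ext fun x => Fin.ext ?_)
  have h1 := Nat.eq_of_beq_eq_true ((allB_iff _ _).1 hc x x.2)
  rw [← hh.2 x, ← hg.2 x, ← hg.2, ← hh.2] at h1
  exact h1

/-- evaluation of a word in tables at a point -/
def tev (G : ℕ → ℕ) (w : List ℕ) (x : ℕ) : ℕ := List.rec x (fun l _ y => lk (G l) y) w

theorem tev_eq {G : ℕ → ℕ} {g : ℕ → ↥C0} {k : ℕ} (hG : ∀ i < k, TB (g i) (G i)) {w : List ℕ} (hw : ∀ l ∈ w, l < k)
    (x : Fin 100) : (((ev g w).1 x : Fin 100) : ℕ) = tev G w x := by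
  induction w with
  | nil => rfl
  | cons l w ih =>
    have h1 := ih fun y hy => hw y (List.mem_cons_of_mem _ hy)
    have h2 := (hG l (hw l List.mem_cons_self)).2 ((ev g w).1 x)
    rw [h1] at h2
    exact h2

/-- all entries are smaller than `k` -/
def ltW (k : ℕ) (w : List ℕ) : Bool := List.rec true (fun l _ ih => band (Nat.blt l k) ih) w

theorem ltW_iff {k : ℕ} {w : List ℕ} (h : ltW k w = true) : ∀ l ∈ w, l < k := by
  induction w with
  | nil => intro l hl; exact absurd hl List.not_mem_nil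
  | cons a w ih =>
    have h' : band (Nat.blt a k) (ltW k w) = true := h
    rw [band_eq_true] at h'
    intro l hl
    rcases List.mem_cons.1 hl with rfl | hl
    · exact Nat.blt_eq ▸ h'.1
    · exact ih h'.2 l hl

/-- `P` is the table of the word `w` -/
def chkW (G : ℕ → ℕ) (k P : ℕ) (w : List ℕ) : Bool :=
  band (Nat.blt P (2 ^ 1100)) (band (ltW k w) (allB (fun x => Nat.beq (tev G w x) (lk P x)) 100))

theorem TB_of_chkW {G : ℕ → ℕ} {g : ℕ → ↥C0} {k : ℕ} (hG : ∀ i < k, TB (g i) (G i)) {P : ℕ} {w : List ℕ}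
    (h : chkW G k P w = true) : TB (ev g w) P := by
  unfold chkW at h
  rw [band_eq_true, band_eq_true] at h
  obtain ⟨h1, h2, h3⟩ := h
  refine ⟨Nat.blt_eq ▸ h1, fun x => ?_⟩
  rw [tev_eq hG (ltW_iff h2)]
  exact Nat.eq_of_beq_eq_true ((allB_iff _ _).1 h3 x x.2)

/-- some table of the list satisfies `f` -/
def anyP (f : ℕ → Bool) (X : List (ℕ × List ℕ)) : Bool := List.rec false (fun a _ ih => cond (f a.1) true ih) X

theorem anyP_iff {f : ℕ → Bool} {X : List (ℕ × List ℕ)} : anyP f X = true ↔ ∃ a ∈ X, f a.1 = true := by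
  induction X with
  | nil => simp [anyP]
  | cons a X ih =>
    have h : anyP f (a :: X) = cond (f a.1) true (anyP f X) := rfl
    rw [h]
    cases hf : f a.1 with
    | true => simp [hf]
    | false => rw [cond_false, ih]; simp [hf]

/-- all pairs of the list satisfy `f` -/
def allP (f : ℕ → List ℕ → Bool) (X : List (ℕ × List ℕ)) : Bool :=
  List.rec true (fun a _ ih => cond (f a.1 a.2) ih false) X

theorem allP_iff {f : ℕ → List ℕ → Bool} {X : List (ℕ × List ℕ)} :
    allP f X = true ↔ ∀ a ∈ X, f a.1 a.2 = true := by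
  induction X with
  | nil => simp [allP]
  | cons a X ih =>
    have h : allP f (a :: X) = cond (f a.1 a.2) (allP f X) false := rfl
    rw [h]
    cases hf : f a.1 a.2 with
    | true => rw [cond_true, ih]; simp [hf]
    | false => simp [hf]

/-- the tables of the list are distinct -/
def nodupP (X : List (ℕ × List ℕ)) : Bool :=
  List.rec true (fun a X ih => cond (anyP (fun P => Nat.beq a.1 P) X) false ih) X

theorem nodupP_iff {X : List (ℕ × List ℕ)} (h : nodupP X = true) : (X.map Prod.fst).Nodup := by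
  induction X with
  | nil => simp
  | cons a X ih =>
    have h' : cond (anyP (fun P => Nat.beq a.1 P) X) false (nodupP X) = true := h
    cases ha : anyP (fun P => Nat.beq a.1 P) X with
    | true => rw [ha, cond_true] at h'; exact Bool.noConfusion h'
    | false =>
      rw [ha, cond_false] at h'
      rw [List.map_cons, List.nodup_cons]
      refine ⟨?_, ih h'⟩
      intro hm
      obtain ⟨b, hb, hb'⟩ := List.mem_map.1 hm
      have : anyP (fun P => Nat.beq a.1 P) X = true := anyP_iff.2 ⟨b, hb, by rw [hb']; exact Nat.beq_refl _⟩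
      rw [ha] at this
      exact absurd this (by decide)

/-- the checker -/
def chkGrp (G : ℕ → ℕ) (k : ℕ) (X : List (ℕ × List ℕ)) : Bool :=
  band (allP (chkW G k) X) (band (anyP (fun P => Nat.beq P tOne) X) (band
    (allB (fun i => allP (fun P _ => anyP (fun R => chkMul (G i) P R) X) X) k) (nodupP X)))

theorem TB_one : TB (1 : ↥C0) tOne := by
  refine ⟨by decide +kernel, fun x => ?_⟩
  exact (Nat.eq_of_beq_eq_true ((allB_iff _ _).1 tOne_ok x x.2)).symm

theorem mem_closure_iff {G : ℕ → ℕ} {g : ℕ → ↥C0} {k : ℕ} (hG : ∀ i < k, TB (g i) (G i))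
    {X : List (ℕ × List ℕ)} (h : chkGrp G k X = true) (x : ↥C0) :
    x ∈ Subgroup.closure (g '' {i | i < k}) ↔ ∃ a ∈ X, TB x a.1 := by
  unfold chkGrp at h
  rw [band_eq_true, band_eq_true, band_eq_true, allP_iff, anyP_iff, allB_iff] at h
  obtain ⟨h1, ⟨a0, ha0, ha0'⟩, h3, -⟩ := h
  constructor
  · intro hx
    have h5 : x ∈ Submonoid.closure (g '' {i | i < k}) := by
      rw [← Subgroup.closure_toSubmonoid_of_finite]; exact hx
    obtain ⟨l, hl, rfl⟩ := Submonoid.exists_list_of_mem_closure h5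
    clear hx h5
    induction l with
    | nil =>
      refine ⟨a0, ha0, ?_⟩
      rw [Nat.eq_of_beq_eq_true ha0', List.prod_nil]
      exact TB_one
    | cons y l ih =>
      obtain ⟨a, ha, hTa⟩ := ih fun z hz => hl z (List.mem_cons_of_mem _ hz)
      obtain ⟨i, hi, rfl⟩ := hl y List.mem_cons_self
      have h6 := (allP_iff.1 (h3 i hi)) a ha
      obtain ⟨b, hb, hb'⟩ := anyP_iff.1 h6
      refine ⟨b, hb, ?_⟩
      rw [List.prod_cons]
      exact (hG i hi).mul hTa (TB_of_chkW hG (h1 b hb)).1 hb'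
  · rintro ⟨a, ha, hTa⟩
    have h6 := TB_of_chkW hG (h1 a ha)
    rw [hTa.inj h6]
    have h7 : ∀ w : List ℕ, (∀ l ∈ w, l < k) → ev g w ∈ Subgroup.closure (g '' {i | i < k}) := by
      intro w
      induction w with
      | nil => intro _; exact Subgroup.one_mem _
      | cons l w ih =>
        intro hw
        exact Subgroup.mul_mem _ (Subgroup.subset_closure ⟨l, hw l List.mem_cons_self, rfl⟩)
          (ih fun y hy => hw y (List.mem_cons_of_mem _ hy))
    have h8 := h1 a ha
    unfold chkW at h8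
    rw [band_eq_true, band_eq_true] at h8
    exact h7 _ (ltW_iff h8.2.1)

theorem card_closure {G : ℕ → ℕ} {g : ℕ → ↥C0} {k : ℕ} (hG : ∀ i < k, TB (g i) (G i))
    {X : List (ℕ × List ℕ)} (h : chkGrp G k X = true) :
    Nat.card (Subgroup.closure (g '' {i | i < k})) = X.length := by
  have hmem := mem_closure_iff hG h
  unfold chkGrp at h
  rw [band_eq_true, band_eq_true, band_eq_true, allP_iff, anyP_iff, allB_iff] at h
  obtain ⟨h1, -, -, h4⟩ := h
  have hnd := nodupP_iff h4
  let F : Fin X.length → Subgroup.closure (g '' {i | i < k}) := fun i =>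
    ⟨ev g (X.get i).2, (hmem _).2 ⟨X.get i, List.get_mem X i, TB_of_chkW hG (h1 _ (List.get_mem X i))⟩⟩
  have hF : Function.Bijective F := by
    constructor
    · intro i j hij
      have h5 : ev g (X.get i).2 = ev g (X.get j).2 := congrArg Subtype.val hij
      have h6 := TB_of_chkW hG (h1 _ (List.get_mem X i))
      have h7 := TB_of_chkW hG (h1 _ (List.get_mem X j))
      rw [h5] at h6
      have h8 := h6.uniq h7
      have h9 := List.nodup_iff_injective_get.1 hnd
      have h10 : (⟨i.1, by rw [List.length_map]; exact i.2⟩ : Fin (X.map Prod.fst).length) =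
          ⟨j.1, by rw [List.length_map]; exact j.2⟩ := h9 (by
        simp only [List.get_eq_getElem, List.getElem_map]; exact h8)
      exact Fin.ext (Fin.mk.inj_iff.1 h10)
    · rintro ⟨x, hx⟩
      obtain ⟨a, ha, hTa⟩ := (hmem x).1 hx
      obtain ⟨i, hi⟩ := List.get_of_mem ha
      refine ⟨i, Subtype.ext ?_⟩
      change ev g (X.get i).2 = x
      rw [hi]
      exact (TB_of_chkW hG (h1 a ha)).inj hTa
  rw [← Nat.card_congr (Equiv.ofBijective F hF), Nat.card_fin]

end Cfsg.Agent.HSU.Tab
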