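import Cfsg.Agent.HSU.Base
import Cfsg.Agent.HSU.Tab
import Cfsg.Agent.HSU.TabData

/-!
The data `Dat` for the group `C0` (the centraliser of a `2`-central involution in the permutation model of `HS`).
-/

set_option autoImplicit false
set_option maxRecDepth 100000

namespace Cfsg.Agent.HSU.DatC0

open Cfsg.Agent.HSType.Letters hiding cK cT cI cA cB cH
open Cfsg.Agent.HSType.NormA (cK cT cI cA cB cH)
open Cfsg.Agent.SporadicA.PermTab hiding ev ev_cons ev_nil
open Cfsg.Agent.HSType.UniqC Cfsg.Agent.HSU.Tab Cfsg.Agent.HSU.TabData Cfsg.Agent.HSU.Base Equiv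
open Cfsg.Agent.SporadicRecognition.CosetCert (ev ev_cons ev_nil)

noncomputable section

/-! ### letters -/

/-- the letters of `C0` -/
def lc (l : ℕ) : ↥C0 := if h : l < 10 then ⟨gl l, gl_mem_C0 l h⟩ else 1

theorem tabs_lt : ∀ l < 14, Nat.blt (tabs l) (2 ^ 1100) = true := by decide +kernel

theorem TB_lc : ∀ l < 10, TB (lc l) (tabs l) := by
  intro l hl
  have h1 : lc l = ⟨gl l, gl_mem_C0 l hl⟩ := dif_pos hl
  refine ⟨Nat.blt_eq ▸ tabs_lt l (by omega), fun x => ?_⟩
  rw [h1]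
  exact gl_val l x

theorem lc0 : lc 0 = cK := dif_pos (by norm_num)
theorem lc2 : lc 2 = cT := dif_pos (by norm_num)
theorem lc3 : lc 3 = cI := dif_pos (by norm_num)
theorem lc5 : lc 5 = cA := dif_pos (by norm_num)
theorem lc7 : lc 7 = cB := dif_pos (by norm_num)
theorem lc9 : lc 9 = cH := dif_pos (by norm_num)

theorem TB_I : TB cI tI := lc3 ▸ TB_lc 3 (by norm_num)
theorem TB_A : TB cA tA := lc5 ▸ TB_lc 5 (by norm_num)
theorem TB_B : TB cB tB := lc7 ▸ TB_lc 7 (by norm_num)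
theorem TB_T : TB cT tT := lc2 ▸ TB_lc 2 (by norm_num)

/-- Every element of `C0` is a word in the letters. -/
theorem exists_word (g : ↥C0) : ∃ w : List ℕ, (∀ l ∈ w, l ∈ [0, 2, 3, 5, 7, 9]) ∧ g = ev lc w := by
  obtain ⟨g, hg⟩ := g
  have h1 : g ∈ Submonoid.closure ({pk, pt, pi, pa, pb, ph} : Set (Perm (Fin 100))) := by
    rw [← Subgroup.closure_toSubmonoid_of_finite]; exact hg
  obtain ⟨l, hl, he⟩ := Submonoid.exists_list_of_mem_closure h1
  have key : ∀ l : List (Perm (Fin 100)), (∀ y ∈ l, y ∈ ({pk, pt, pi, pa, pb, ph} : Set (Perm (Fin 100)))) →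
      ∃ w : List ℕ, (∀ l ∈ w, l ∈ [0, 2, 3, 5, 7, 9]) ∧ l.prod = ((ev lc w : ↥C0) : Perm (Fin 100)) := by
    intro l
    induction l with
    | nil => intro _; exact ⟨[], by simp, rfl⟩
    | cons y l ih =>
      intro hl
      obtain ⟨w, hw, hwe⟩ := ih fun z hz => hl z (List.mem_cons_of_mem _ hz)
      have h2 : ∃ n, n ∈ [0, 2, 3, 5, 7, 9] ∧ y = ((lc n : ↥C0) : Perm (Fin 100)) := by
        rcases hl y List.mem_cons_self with h | h | h | h | h | h
        · exact ⟨0, by decide, by rw [lc0]; exact h⟩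
        · exact ⟨2, by decide, by rw [lc2]; exact h⟩
        · exact ⟨3, by decide, by rw [lc3]; exact h⟩
        · exact ⟨5, by decide, by rw [lc5]; exact h⟩
        · exact ⟨7, by decide, by rw [lc7]; exact h⟩
        · exact ⟨9, by decide, by rw [lc9]; exact h⟩
      obtain ⟨n, hn, hne⟩ := h2
      refine ⟨n :: w, ?_, ?_⟩
      · intro k hk
        rcases List.mem_cons.1 hk with rfl | hk
        · exact hn
        · exact hw k hk
      · rw [List.prod_cons, hwe, hne, ev_cons, Subgroup.coe_mul]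
  obtain ⟨w, hw, hwe⟩ := key l hl
  exact ⟨w, hw, Subtype.ext (he.symm.trans hwe)⟩

/-- induction over the letters -/
theorem letter_ind {p : ↥C0 → Prop} (h1 : p 1) (hm : ∀ g h, p g → p h → p (g * h))
    (hl : ∀ l ∈ [0, 2, 3, 5, 7, 9], p (lc l)) (g : ↥C0) : p g := by
  obtain ⟨w, hw, rfl⟩ := exists_word g
  induction w with
  | nil => exact h1
  | cons n w ih =>
    rw [ev_cons]
    exact hm _ _ (hl n (hw n List.mem_cons_self)) (ih fun y hy => hw y (List.mem_cons_of_mem _ hy))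

theorem lt_ten : ∀ l ∈ [0, 2, 3, 5, 7, 9], l < 10 := by decide

/-! ### the letters of `Q` -/

/-- tables of `q₀, …, q₄` -/
def Gq (n : ℕ) : ℕ :=
  Nat.rec tq0 (fun n _ => Nat.rec tq1 (fun n _ => Nat.rec tq2 (fun n _ => Nat.rec tq3 (fun _ _ => tq4) n) n) n) n

theorem TB_m_of {n P : ℕ} (h : band (Nat.blt P (2 ^ 1100)) (chkTab P (mw n)) = true) : TB (m n) P := by
  rw [band_eq_true] at h
  refine ⟨Nat.blt_eq ▸ h.1, fun x => ?_⟩
  have h1 := Nat.eq_of_beq_eq_true ((allB_iff _ _).1 h.2 x x.2)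
  rw [h1]
  exact ev_val (mw n) x

theorem chk_q : ∀ i < 5, band (Nat.blt (Gq i) (2 ^ 1100)) (chkTab (Gq i) (mw i)) = true := by decide +kernel

theorem TB_q : ∀ i < 5, TB (m i) (Gq i) := fun i hi => TB_m_of (chk_q i hi)

theorem TB_z : TB (cI * cI) tz := by
  rw [i2_eq]; exact TB_m_of (by decide +kernel)

theorem TB_uz : TB (cI * (cI * cI)) tuz := TB_I.mul TB_z (by decide +kernel) (by decide +kernel)

/-- `Q0 = O₂(C0)` -/
def Q0 : Subgroup ↥C0 := Subgroup.closure (m '' {i | i < 5})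

theorem chk_Q : chkGrp Gq 5 XQ = true := by decide +kernel

theorem mem_Q0 (x : ↥C0) : x ∈ Q0 ↔ ∃ a ∈ XQ, TB x a.1 := mem_closure_iff TB_q chk_Q x

theorem card_Q0 : Nat.card Q0 = 64 := card_closure TB_q chk_Q

/-! ### `A0` -/

/-- the generators of `A0` -/
def gA (n : ℕ) : ↥C0 := match n with
  | 0 => cI | 1 => cA | _ => cB

def GA (n : ℕ) : ℕ := Nat.rec tI (fun n _ => Nat.rec tA (fun _ _ => tB) n) n

theorem TB_gA : ∀ i < 3, TB (gA i) (GA i) := by
  intro i hi
  match i with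
  | 0 => exact TB_I
  | 1 => exact TB_A
  | 2 => exact TB_B
  | n + 3 => omega

/-- `A0 = ⟨i, a, b⟩` -/
def A1 : Subgroup ↥C0 := Subgroup.closure (gA '' {i | i < 3})

theorem chk_A : chkGrp GA 3 XA = true := by decide +kernel

theorem mem_A1 (x : ↥C0) : x ∈ A1 ↔ ∃ a ∈ XA, TB x a.1 := mem_closure_iff TB_gA chk_A x

theorem card_A1 : Nat.card A1 = 64 := card_closure TB_gA chk_A

/-! ### the lines -/

/-- the generators of the `j`-th line -/
def gL (j n : ℕ) : ↥C0 := match n with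
  | 0 => cI | 1 => m j | _ => m ((j + 2) % 5) * m ((j + 3) % 5)

/-- the tables of `q_{j+2} q_{j+3}` -/
def Gqq (n : ℕ) : ℕ :=
  Nat.rec tqq0 (fun n _ => Nat.rec tqq1 (fun n _ => Nat.rec tqq2 (fun n _ => Nat.rec tqq3 (fun _ _ => tqq4) n) n) n) n

def Gli (j n : ℕ) : ℕ := Nat.rec tI (fun n _ => Nat.rec (Gq j) (fun _ _ => Gqq j) n) n

def XL (n : ℕ) : List (ℕ × List ℕ) :=
  Nat.rec XL0 (fun n _ => Nat.rec XL1 (fun n _ => Nat.rec XL2 (fun n _ => Nat.rec XL3 (fun _ _ => XL4) n) n) n) n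

theorem chk_qq : ∀ j < 5, band (Nat.blt (Gqq j) (2 ^ 1100))
    (chkMul (Gq ((j + 2) % 5)) (Gq ((j + 3) % 5)) (Gqq j)) = true := by decide +kernel

theorem TB_qq (j : ℕ) (hj : j < 5) : TB (m ((j + 2) % 5) * m ((j + 3) % 5)) (Gqq j) := by
  have h := chk_qq j hj
  rw [band_eq_true] at h
  exact (TB_q _ (Nat.mod_lt _ (by norm_num))).mul (TB_q _ (Nat.mod_lt _ (by norm_num))) (Nat.blt_eq ▸ h.1) h.2

theorem TB_gL (j : ℕ) (hj : j < 5) : ∀ i < 3, TB (gL j i) (Gli j i) := by
  intro i hi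
  match i with
  | 0 => exact TB_I
  | 1 => exact TB_q j hj
  | 2 => exact TB_qq j hj
  | n + 3 => omega

/-- the lines -/
def Lg (j : ℕ) : Subgroup ↥C0 := Subgroup.closure (gL j '' {i | i < 3})

theorem chk_L : ∀ j < 5, band (chkGrp (Gli j) 3 (XL j)) (Nat.beq (XL j).length 16) = true := by decide +kernel

theorem mem_Lg {j : ℕ} (hj : j < 5) (x : ↥C0) : x ∈ Lg j ↔ ∃ a ∈ XL j, TB x a.1 := by
  have h := chk_L j hj
  rw [band_eq_true] at h
  exact mem_closure_iff (TB_gL j hj) h.1 x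

theorem card_Lg {j : ℕ} (hj : j < 5) : Nat.card (Lg j) = 16 := by
  have h := chk_L j hj
  rw [band_eq_true] at h
  rw [← Nat.eq_of_beq_eq_true h.2]
  exact card_closure (TB_gL j hj) h.1

/-! ### inclusions of lists of tables -/

/-- all tables of `X` occur in `Y` -/
def subP (X Y : List (ℕ × List ℕ)) : Bool := allP (fun P _ => anyP (fun R => Nat.beq P R) Y) X

theorem subP_sound {X Y : List (ℕ × List ℕ)} (h : subP X Y = true) {x : ↥C0} (hx : ∃ a ∈ X, TB x a.1) :
    ∃ a ∈ Y, TB x a.1 := by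
  obtain ⟨a, ha, hTa⟩ := hx
  obtain ⟨b, hb, hab⟩ := anyP_iff.1 (allP_iff.1 h a ha)
  exact ⟨b, hb, Nat.eq_of_beq_eq_true hab ▸ hTa⟩

theorem chk_subQ : ∀ j < 5, subP (XL j) XQ = true := by decide +kernel

theorem Lg_le {j : ℕ} (hj : j < 5) : Lg j ≤ Q0 := fun x hx =>
  (mem_Q0 x).2 (subP_sound (chk_subQ j hj) ((mem_Lg hj x).1 hx))

/-- a table which is central -/
def isU (P : ℕ) : Bool := cond (Nat.beq P tOne) true (cond (Nat.beq P tz) true (cond (Nat.beq P tI) true (Nat.beq P tuz)))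

theorem isU_sound {P : ℕ} (h : isU P = true) {x : ↥C0} (hx : TB x P) :
    x = 1 ∨ x = cI * cI ∨ x = cI ∨ x = cI * (cI * cI) := by
  unfold isU at h
  cases h1 : Nat.beq P tOne with
  | true =>
    rw [Nat.eq_of_beq_eq_true h1] at hx
    exact Or.inl (hx.inj TB_one)
  | false =>
    rw [h1, cond_false] at h
    cases h2 : Nat.beq P tz with
    | true =>
      rw [Nat.eq_of_beq_eq_true h2] at hx
      exact Or.inr (Or.inl (hx.inj TB_z))
    | false =>
      rw [h2, cond_false] at h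
      cases h3 : Nat.beq P tI with
      | true =>
        rw [Nat.eq_of_beq_eq_true h3] at hx
        exact Or.inr (Or.inr (Or.inl (hx.inj TB_I)))
      | false =>
        rw [h3, cond_false] at h
        rw [Nat.eq_of_beq_eq_true h] at hx
        exact Or.inr (Or.inr (Or.inr (hx.inj TB_uz)))

/-- common tables of `X` and `Y` are in `Z` -/
def interP (X Y : List (ℕ × List ℕ)) (f : ℕ → Bool) : Bool :=
  allP (fun P _ => cond (anyP (fun R => Nat.beq P R) Y) (f P) true) X

theorem interP_sound {X Y : List (ℕ × List ℕ)} {f : ℕ → Bool} (h : interP X Y f = true) {x : ↥C0}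
    (hx : ∃ a ∈ X, TB x a.1) (hy : ∃ a ∈ Y, TB x a.1) : ∃ P, TB x P ∧ f P = true := by
  obtain ⟨a, ha, hTa⟩ := hx
  obtain ⟨b, hb, hTb⟩ := hy
  have h1 := allP_iff.1 h a ha
  have h2 : anyP (fun R => Nat.beq a.1 R) Y = true :=
    anyP_iff.2 ⟨b, hb, by rw [hTa.uniq hTb]; exact Nat.beq_refl _⟩
  rw [h2, cond_true] at h1
  exact ⟨a.1, hTa, h1⟩

theorem chk_dist : ∀ j < 5, ∀ k < 5, j ≠ k → interP (XL j) (XL k) isU = true := by decide +kernel

theorem Lg_inter {j k : ℕ} (hj : j < 5) (hk : k < 5) (hjk : j ≠ k) {x : ↥C0} (h1 : x ∈ Lg j) (h2 : x ∈ Lg k) :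
    x = 1 ∨ x = cI * cI ∨ x = cI ∨ x = cI * (cI * cI) := by
  obtain ⟨P, hP, hU⟩ := interP_sound (chk_dist j hj k hk hjk) ((mem_Lg hj x).1 h1) ((mem_Lg hk x).1 h2)
  exact isU_sound hU hP

theorem chk_cover : allP (fun P _ => cond (anyP (fun R => Nat.beq P R) XL0) true (cond
    (anyP (fun R => Nat.beq P R) XL1) true (cond (anyP (fun R => Nat.beq P R) XL2) true (cond
    (anyP (fun R => Nat.beq P R) XL3) true (anyP (fun R => Nat.beq P R) XL4))))) XQ = true := by
  decide +kernel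

theorem Lg_cover {x : ↥C0} (hx : x ∈ Q0) : ∃ j < 5, x ∈ Lg j := by
  obtain ⟨a, ha, hTa⟩ := (mem_Q0 x).1 hx
  have h := allP_iff.1 chk_cover a ha
  have key : ∀ j < 5, anyP (fun R => Nat.beq a.1 R) (XL j) = true → x ∈ Lg j := by
    intro j hj h
    obtain ⟨b, hb, hab⟩ := anyP_iff.1 h
    exact (mem_Lg hj x).2 ⟨b, hb, Nat.eq_of_beq_eq_true hab ▸ hTa⟩
  cases h0 : anyP (fun R => Nat.beq a.1 R) XL0 with
  | true => exact ⟨0, by norm_num, key 0 (by norm_num) h0⟩
  | false =>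
    rw [h0, cond_false] at h
    cases h1 : anyP (fun R => Nat.beq a.1 R) XL1 with
    | true => exact ⟨1, by norm_num, key 1 (by norm_num) h1⟩
    | false =>
      rw [h1, cond_false] at h
      cases h2 : anyP (fun R => Nat.beq a.1 R) XL2 with
      | true => exact ⟨2, by norm_num, key 2 (by norm_num) h2⟩
      | false =>
        rw [h2, cond_false] at h
        cases h3 : anyP (fun R => Nat.beq a.1 R) XL3 with
        | true => exact ⟨3, by norm_num, key 3 (by norm_num) h3⟩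
        | false =>
          rw [h3, cond_false] at h
          exact ⟨4, by norm_num, key 4 (by norm_num) h⟩

/-! ### `A1 ⊓ Q0` is the line 3 -/

theorem chk_AQ : band (interP XA XQ (fun P => anyP (fun R => Nat.beq P R) XL3)) (subP XL3 XA) = true := by
  decide +kernel

theorem A1_inf_Q0 : A1 ⊓ Q0 = Lg 3 := by
  have h := chk_AQ
  rw [band_eq_true] at h
  ext x
  constructor
  · rintro ⟨h1, h2⟩
    obtain ⟨P, hP, hL⟩ := interP_sound h.1 ((mem_A1 x).1 h1) ((mem_Q0 x).1 h2)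
    obtain ⟨b, hb, hab⟩ := anyP_iff.1 hL
    exact (mem_Lg (by norm_num) x).2 ⟨b, hb, Nat.eq_of_beq_eq_true hab ▸ hP⟩
  · intro hx
    exact ⟨(mem_A1 x).2 (subP_sound h.2 ((mem_Lg (by norm_num) x).1 hx)), Lg_le (by norm_num) hx⟩

/-! ### commutativity -/

theorem comm_closure {G : Type*} [Group G] {S : Set G} (h : ∀ a ∈ S, ∀ b ∈ S, a * b = b * a) :
    ∀ x ∈ Subgroup.closure S, ∀ y ∈ Subgroup.closure S, x * y = y * x := by
  have h1 : Subgroup.closure S ≤ Subgroup.centralizer S := by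
    rw [Subgroup.closure_le]
    intro a ha
    exact Subgroup.mem_centralizer_iff.2 fun b hb => h b hb a ha
  have h2 : Subgroup.closure S ≤ Subgroup.centralizer (Subgroup.closure S : Set G) := by
    rw [Subgroup.closure_le]
    intro a ha
    refine Subgroup.mem_centralizer_iff.2 fun b hb => ?_
    exact (Subgroup.mem_centralizer_iff.1 (h1 hb) a ha).symm
  intro x hx y hy
  exact (Subgroup.mem_centralizer_iff.1 (h2 hx) y hy).symm

theorem chk_commA : ∀ i < 3, ∀ k < 3, chkComm (GA i) (GA k) = true := by decide +kernel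

theorem comm_A1 : ∀ x ∈ A1, ∀ y ∈ A1, x * y = y * x := by
  refine comm_closure ?_
  rintro _ ⟨i, hi, rfl⟩ _ ⟨k, hk, rfl⟩
  exact comm_of_chk (TB_gA i hi) (TB_gA k hk) (chk_commA i hi k hk)

theorem chk_commL : ∀ j < 5, ∀ i < 3, ∀ k < 3, chkComm (Gli j i) (Gli j k) = true := by decide +kernel

theorem comm_Lg {j : ℕ} (hj : j < 5) : ∀ x ∈ Lg j, ∀ y ∈ Lg j, x * y = y * x := by
  refine comm_closure ?_
  rintro _ ⟨i, hi, rfl⟩ _ ⟨k, hk, rfl⟩
  exact comm_of_chk (TB_gL j hj i hi) (TB_gL j hj k hk) (chk_commL j hj i hi k hk)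

/-- the fourth power is trivial -/
def chk4 (P : ℕ) : Bool := allB (fun x => Nat.beq (lk P (lk P (lk P (lk P x)))) x) 100

theorem chk_exp : allP (fun P _ => chk4 P) XA = true := by decide +kernel

theorem exp_A1 : ∀ x ∈ A1, x * x * (x * x) = 1 := by
  intro x hx
  obtain ⟨a, ha, hTa⟩ := (mem_A1 x).1 hx
  have h := allP_iff.1 chk_exp a ha
  refine Subtype.ext (Equiv.ext fun y => Fin.ext ?_)
  have h1 := Nat.eq_of_beq_eq_true ((allB_iff _ _).1 h y y.2)
  have e : ∀ y : Fin 100, ((x.1 y : Fin 100) : ℕ) = lk a.1 y := hTa.2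
  rw [← e, ← e, ← e, ← e] at h1
  exact h1

/-! ### conjugation by letters -/

/-- `L P = R L` -/
def chkCj (L P R : ℕ) : Bool := allB (fun x => Nat.beq (lk L (lk P x)) (lk R (lk L x))) 100

theorem chkCj_sound {g h k : ↥C0} {L P R : ℕ} (hg : TB g L) (hh : TB h P) (hk : TB k R) (hc : chkCj L P R = true) :
    g * h * g⁻¹ = k := by
  rw [mul_inv_eq_iff_eq_mul]
  refine Subtype.ext (Equiv.ext fun x => Fin.ext ?_)
  have h1 := Nat.eq_of_beq_eq_true ((allB_iff _ _).1 hc x x.2)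
  rw [← hh.2 x, ← hg.2 x, ← hg.2, ← hk.2] at h1
  exact h1

theorem conj_closure {G : Type*} [Group G] {S : Set G} {K : Subgroup G} {g : G} (h : ∀ a ∈ S, g * a * g⁻¹ ∈ K) :
    ∀ x ∈ Subgroup.closure S, g * x * g⁻¹ ∈ K := by
  have h1 : Subgroup.closure S ≤ K.comap (MulAut.conj g).toMonoidHom := by
    rw [Subgroup.closure_le]
    intro a ha
    exact h a ha
  intro x hx
  exact h1 hx

theorem chk_cjQ : ∀ l < 10, ∀ i < 5, anyP (fun R => chkCj (tabs l) (Gq i) R) XQ = true := by decide +kernel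

theorem conj_Q0 (g : ↥C0) : ∀ x ∈ Q0, g * x * g⁻¹ ∈ Q0 := by
  induction g using letter_ind with
  | h1 => intro x hx; simpa using hx
  | hm g h hg hh =>
    intro x hx
    have := hg _ (hh x hx)
    have e : g * h * x * (g * h)⁻¹ = g * (h * x * h⁻¹) * g⁻¹ := by group
    rwa [e]
  | hl l hl =>
    refine conj_closure ?_
    rintro _ ⟨i, hi, rfl⟩
    obtain ⟨b, hb, hcb⟩ := anyP_iff.1 (chk_cjQ l (lt_ten l hl) i hi)
    obtain ⟨y, hy⟩ : ∃ y : ↥C0, TB y b.1 ∧ y ∈ Q0 := by
      have h1 := chk_Q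
      unfold chkGrp at h1
      rw [band_eq_true, allP_iff] at h1
      have h2 := TB_of_chkW TB_q (h1.1 b hb)
      exact ⟨_, h2, (mem_Q0 _).2 ⟨b, hb, h2⟩⟩
    rw [chkCj_sound (TB_lc l (lt_ten l hl)) (TB_q i hi) hy.1 hcb]
    exact hy.2

theorem exists_elt {G : ℕ → ℕ} {g : ℕ → ↥C0} {k : ℕ} (hG : ∀ i < k, TB (g i) (G i)) {X : List (ℕ × List ℕ)}
    (h : chkGrp G k X = true) {a : ℕ × List ℕ} (ha : a ∈ X) :
    ∃ y ∈ Subgroup.closure (g '' {i | i < k}), TB y a.1 := by
  have h' := h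
  unfold chkGrp at h
  rw [band_eq_true, allP_iff] at h
  have h2 := TB_of_chkW hG (h.1 a ha)
  exact ⟨_, (mem_closure_iff hG h' _).2 ⟨a, ha, h2⟩, h2⟩

/-! ### permutation of the lines -/

def anyN (f : ℕ → Bool) (n : ℕ) : Bool := Nat.rec false (fun k ih => cond (f k) true ih) n

theorem anyN_iff {f : ℕ → Bool} {n : ℕ} (h : anyN f n = true) : ∃ k < n, f k = true := by
  induction n with
  | zero => exact Bool.noConfusion h
  | succ n ih =>
    have h' : cond (f n) true (anyN f n) = true := h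
    cases hf : f n with
    | true => exact ⟨n, Nat.lt_succ_self n, hf⟩
    | false =>
      rw [hf, cond_false] at h'
      obtain ⟨k, hk, hk'⟩ := ih h'
      exact ⟨k, hk.trans (Nat.lt_succ_self n), hk'⟩

theorem chk_cjL : ∀ l < 10, ∀ j < 5, anyN (fun k => allB (fun i =>
    anyP (fun R => chkCj (tabs l) (Gli j i) R) (XL k)) 3) 5 = true := by decide +kernel

theorem conj_Lg (g : ↥C0) : ∀ j < 5, ∃ k < 5, ∀ x ∈ Lg j, g * x * g⁻¹ ∈ Lg k := by
  induction g using letter_ind with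
  | h1 => intro j hj; exact ⟨j, hj, fun x hx => by simpa using hx⟩
  | hm g h hg hh =>
    intro j hj
    obtain ⟨k, hk, h1⟩ := hh j hj
    obtain ⟨n, hn, h2⟩ := hg k hk
    refine ⟨n, hn, fun x hx => ?_⟩
    have e : g * h * x * (g * h)⁻¹ = g * (h * x * h⁻¹) * g⁻¹ := by group
    rw [e]
    exact h2 _ (h1 x hx)
  | hl l hl =>
    intro j hj
    obtain ⟨k, hk, h1⟩ := anyN_iff (chk_cjL l (lt_ten l hl) j hj)
    refine ⟨k, hk, conj_closure ?_⟩
    rintro _ ⟨i, hi, rfl⟩
    obtain ⟨b, hb, hcb⟩ := anyP_iff.1 ((allB_iff _ _).1 h1 i hi)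
    have h2 := chk_L k hk
    rw [band_eq_true] at h2
    obtain ⟨y, hy, hyb⟩ := exists_elt (TB_gL k hk) h2.1 hb
    rw [chkCj_sound (TB_lc l (lt_ten l hl)) (TB_gL j hj i hi) hyb hcb]
    exact hy

/-! ### centrality of `z`, the centre of `Q0` -/

theorem chk_zc : ∀ l < 10, chkComm tz (tabs l) = true := by decide +kernel

theorem z_comm (g : ↥C0) : g * (cI * cI) = cI * cI * g := by
  induction g using letter_ind with
  | h1 => rw [one_mul, mul_one]
  | hm g h hg hh => rw [mul_assoc, hh, ← mul_assoc, hg, mul_assoc]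
  | hl l hl => exact (comm_of_chk TB_z (TB_lc l (lt_ten l hl)) (chk_zc l (lt_ten l hl))).symm

theorem cent_eq : Subgroup.centralizer ({cI * cI} : Set ↥C0) = ⊤ := by
  rw [eq_top_iff]
  intro g _
  exact Subgroup.mem_centralizer_singleton_iff.2 (z_comm g)

theorem chk_uc : ∀ i < 5, chkComm (Gq i) tI = true := by decide +kernel

theorem u_comm : ∀ x ∈ Q0, x * cI = cI * x := by
  have h1 : Q0 ≤ Subgroup.centralizer ({cI} : Set ↥C0) := by
    rw [Q0, Subgroup.closure_le]
    rintro _ ⟨i, hi, rfl⟩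
    exact Subgroup.mem_centralizer_singleton_iff.2 (comm_of_chk (TB_q i hi) TB_I (chk_uc i hi))
  intro x hx
  exact Subgroup.mem_centralizer_singleton_iff.1 (h1 hx)

theorem u_mem : cI ∈ Q0 := by
  rw [i_eq]
  have h : ∀ i < 5, m i ∈ Q0 := fun i hi => Subgroup.subset_closure ⟨i, hi, rfl⟩
  exact Q0.mul_mem (Q0.mul_mem (Q0.mul_mem (Q0.mul_mem (h 0 (by norm_num)) (h 1 (by norm_num))) (h 2 (by norm_num)))
    (h 3 (by norm_num))) (h 4 (by norm_num))

theorem chk_cen : allP (fun P _ => cond (isU P) true (anyN (fun i => cond (chkComm P (Gq i)) false true) 5)) XQ = true := by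
  decide +kernel

theorem cent_Q0 {x : ↥C0} (hx : x ∈ Q0) (hc : ∀ y ∈ Q0, x * y = y * x) :
    x = 1 ∨ x = cI * cI ∨ x = cI ∨ x = cI * (cI * cI) := by
  obtain ⟨a, ha, hTa⟩ := (mem_Q0 x).1 hx
  have h := allP_iff.1 chk_cen a ha
  cases h1 : isU a.1 with
  | true => exact isU_sound h1 hTa
  | false =>
    rw [h1, cond_false] at h
    obtain ⟨i, hi, hi'⟩ := anyN_iff h
    rw [chkComm_of hTa (TB_q i hi) (hc _ (Subgroup.subset_closure ⟨i, hi, rfl⟩)), cond_true] at hi'
    exact Bool.noConfusion hi'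

theorem chk_sq : allP (fun P _ => cond (chkMul P P tOne) true (chkMul P P tz)) XQ = true := by decide +kernel

theorem sq_Q0 : ∀ x ∈ Q0, x * x = 1 ∨ x * x = cI * cI := by
  intro x hx
  obtain ⟨a, ha, hTa⟩ := (mem_Q0 x).1 hx
  have h := allP_iff.1 chk_sq a ha
  cases h1 : chkMul a.1 a.1 tOne with
  | true => exact Or.inl ((hTa.mul hTa TB_one.1 h1).inj TB_one)
  | false =>
    rw [h1, cond_false] at h
    exact Or.inr ((hTa.mul hTa TB_z.1 h).inj TB_z)

/-- `P Q = Q P z` -/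
def chkAnti (P Q : ℕ) : Bool := allB (fun x => Nat.beq (lk P (lk Q x)) (lk Q (lk P (lk tz x)))) 100

theorem anti_of_chk {g h : ↥C0} {P Q : ℕ} (hg : TB g P) (hh : TB h Q) (hc : chkAnti P Q = true) :
    g * h = h * g * (cI * cI) := by
  refine Subtype.ext (Equiv.ext fun x => Fin.ext ?_)
  have h1 := Nat.eq_of_beq_eq_true ((allB_iff _ _).1 hc x x.2)
  rw [← hh.2 x, ← TB_z.2 x, ← hg.2, ← hg.2, ← hh.2] at h1
  exact h1

theorem chk_comm : allP (fun P _ => allB (fun i => cond (chkComm P (Gq i)) true (chkAnti P (Gq i))) 5) XQ = true := by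
  decide +kernel

theorem comm_Q0 : ∀ x ∈ Q0, ∀ y ∈ Q0, x * y = y * x ∨ x * y = y * x * (cI * cI) := by
  intro x hx y hy
  obtain ⟨a, ha, hTa⟩ := (mem_Q0 x).1 hx
  have h := (allB_iff _ _).1 (allP_iff.1 chk_comm a ha)
  have h5 : y ∈ Submonoid.closure (m '' {i | i < 5}) := by
    rw [← Subgroup.closure_toSubmonoid_of_finite]; exact hy
  have hz2 : cI * cI * (cI * cI) = 1 := by rw [i2_eq]; exact inv_m 5 (by norm_num)
  induction h5 using Submonoid.closure_induction with
  | mem y hy' =>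
    obtain ⟨i, hi, rfl⟩ := hy'
    have h1 := h i hi
    cases h2 : chkComm a.1 (Gq i) with
    | true => exact Or.inl (comm_of_chk hTa (TB_q i hi) h2)
    | false =>
      rw [h2, cond_false] at h1
      exact Or.inr (anti_of_chk hTa (TB_q i hi) h1)
  | one => left; rw [one_mul, mul_one]
  | mul y w hy1 hw1 ih1 ih2 =>
    have hy2 : y ∈ Q0 := by
      have : y ∈ (Subgroup.closure (m '' {i | i < 5})).toSubmonoid := by
        rw [Subgroup.closure_toSubmonoid_of_finite]; exact hy1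
      exact this
    have hw2 : w ∈ Q0 := by
      have : w ∈ (Subgroup.closure (m '' {i | i < 5})).toSubmonoid := by
        rw [Subgroup.closure_toSubmonoid_of_finite]; exact hw1
      exact this
    have hz := z_comm
    rcases ih1 hy2 with e1 | e1 <;> rcases ih2 hw2 with e2 | e2
    · left; rw [← mul_assoc, e1, mul_assoc, e2, ← mul_assoc]
    · right; rw [← mul_assoc, e1, mul_assoc, e2]; simp only [mul_assoc]
    · right
      rw [← mul_assoc, e1, mul_assoc _ _ w, ← hz w, ← mul_assoc, mul_assoc y x w, e2]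
      simp only [mul_assoc]
    · left
      rw [← mul_assoc, e1, mul_assoc _ _ w, ← hz w, ← mul_assoc, mul_assoc y x w, e2, mul_assoc,
        mul_assoc (w * x), hz2, mul_one, mul_assoc]

/-! ### the cosets of `Q0` -/

theorem chk_S : allP (chkW tabs 10) XS = true := by decide +kernel

/-- the `n`-th table -/
def getP (X : List (ℕ × List ℕ)) (n : ℕ) : ℕ :=
  List.rec (motive := fun _ => ℕ → ℕ) (fun _ => 0) (fun a _ ih n => Nat.rec a.1 (fun n _ => ih n) n) X n

theorem getP_mem (X : List (ℕ × List ℕ)) (n : ℕ) : getP X n = 0 ∨ ∃ a ∈ X, a.1 = getP X n := by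
  induction X generalizing n with
  | nil => exact Or.inl rfl
  | cons a X ih =>
    cases n with
    | zero => exact Or.inr ⟨a, List.mem_cons_self, rfl⟩
    | succ n =>
      rcases ih n with h | ⟨b, hb, hb'⟩
      · exact Or.inl h
      · exact Or.inr ⟨b, List.mem_cons_of_mem _ hb, hb'⟩

/-- `L P = R E` -/
def chkLR (L P R E : ℕ) : Bool :=
  Nat.rec (motive := fun _ => ℕ → Bool) (fun _ => false)
    (fun R _ E => Nat.rec (motive := fun _ => Bool) false
      (fun E _ => allB (fun x => Nat.beq (lk L (lk P x)) (lk (Nat.succ R) (lk (Nat.succ E) x))) 100) E) R E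

theorem chkLR_sound {g h r e : ↥C0} {L P R E : ℕ} (hg : TB g L) (hh : TB h P) (hr : TB r R) (he : TB e E)
    (hc : chkLR L P R E = true) : g * h = r * e := by
  cases R with
  | zero => exact Bool.noConfusion hc
  | succ R =>
    cases E with
    | zero => exact Bool.noConfusion hc
    | succ E =>
      have hc' : allB (fun x => Nat.beq (lk L (lk P x)) (lk (Nat.succ R) (lk (Nat.succ E) x))) 100 = true := hc
      refine Subtype.ext (Equiv.ext fun x => Fin.ext ?_)
      have h1 := Nat.eq_of_beq_eq_true ((allB_iff _ _).1 hc' x x.2)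
      have e1 := hh.2 x
      have e2 := he.2 x
      have e3 := hg.2 (h.1 x)
      have e4 := hr.2 (e.1 x)
      rw [e1] at e3
      rw [e2] at e4
      exact e3.trans (h1.trans e4.symm)

theorem chkLR_ne {L P R E : ℕ} (hc : chkLR L P R E = true) : R ≠ 0 ∧ E ≠ 0 := by
  cases R with
  | zero => exact Bool.noConfusion hc
  | succ R =>
    cases E with
    | zero => exact Bool.noConfusion hc
    | succ E => exact ⟨by omega, by omega⟩

/-- transitions of one coset: `C` codes for the letters in `ls` -/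
def chkRow (P : ℕ) (ls C : List ℕ) : Bool :=
  List.rec (motive := fun _ => List ℕ → Bool) (fun _ => true)
    (fun l _ ih C => List.rec (motive := fun _ => Bool) false
      (fun c C _ => cond (chkLR (tabs l) P (getP XS (Nat.div c 64)) (getP XQ (Nat.mod c 64))) (ih C) false) C) ls C

theorem chkRow_sound {P : ℕ} {ls C : List ℕ} (h : chkRow P ls C = true) :
    ∀ l ∈ ls, ∃ c, chkLR (tabs l) P (getP XS (Nat.div c 64)) (getP XQ (Nat.mod c 64)) = true := by
  induction ls generalizing C with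
  | nil => intro l hl; exact absurd hl List.not_mem_nil
  | cons k ls ih =>
    cases C with
    | nil => exact Bool.noConfusion h
    | cons c C =>
      have h' : cond (chkLR (tabs k) P (getP XS (Nat.div c 64)) (getP XQ (Nat.mod c 64))) (chkRow P ls C) false =
        true := h
      cases h1 : chkLR (tabs k) P (getP XS (Nat.div c 64)) (getP XQ (Nat.mod c 64)) with
      | false => rw [h1] at h'; exact Bool.noConfusion h'
      | true =>
        rw [h1, cond_true] at h'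
        intro l hl
        rcases List.mem_cons.1 hl with rfl | hl
        · exact ⟨c, h1⟩
        · exact ih h' l hl

/-- all cosets -/
def chkCov (X : List (ℕ × List ℕ)) (C : List (List ℕ)) : Bool :=
  List.rec (motive := fun _ => List (List ℕ) → Bool) (fun _ => true)
    (fun a _ ih C => List.rec (motive := fun _ => Bool) false
      (fun c C _ => cond (chkRow a.1 [0, 2, 3, 5, 7, 9] c) (ih C) false) C) X C

theorem chkCov_sound {X : List (ℕ × List ℕ)} {C : List (List ℕ)} (h : chkCov X C = true) :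
    ∀ a ∈ X, ∃ c, chkRow a.1 [0, 2, 3, 5, 7, 9] c = true := by
  induction X generalizing C with
  | nil => intro a ha; exact absurd ha List.not_mem_nil
  | cons b X ih =>
    cases C with
    | nil => exact Bool.noConfusion h
    | cons c C =>
      have h' : cond (chkRow b.1 [0, 2, 3, 5, 7, 9] c) (chkCov X C) false = true := h
      cases h1 : chkRow b.1 [0, 2, 3, 5, 7, 9] c with
      | false => rw [h1] at h'; exact Bool.noConfusion h'
      | true =>
        rw [h1, cond_true] at h'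
        intro a ha
        rcases List.mem_cons.1 ha with rfl | ha
        · exact ⟨c, h1⟩
        · exact ih h' a ha

theorem chk_cov : chkCov XS XC = true := by decide +kernel

/-- **The cosets.** -/
theorem exists_coset (g : ↥C0) : ∃ a ∈ XS, ∃ s x : ↥C0, TB s a.1 ∧ x ∈ Q0 ∧ g = s * x := by
  obtain ⟨w, hw, rfl⟩ := exists_word g
  induction w with
  | nil =>
    obtain ⟨a, ha, ha'⟩ := anyP_iff.1 (show anyP (fun P => Nat.beq P tOne) XS = true by decide +kernel)
    refine ⟨a, ha, 1, 1, ?_, Q0.one_mem, (one_mul _).symm⟩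
    rw [Nat.eq_of_beq_eq_true ha']; exact TB_one
  | cons l w ih =>
    obtain ⟨a, ha, s, x, hs, hx, he⟩ := ih fun y hy => hw y (List.mem_cons_of_mem _ hy)
    have hl := hw l List.mem_cons_self
    obtain ⟨c, hc⟩ := chkCov_sound chk_cov a ha
    obtain ⟨n, hn⟩ := chkRow_sound hc l hl
    obtain ⟨hR, hE⟩ := chkLR_ne hn
    obtain ⟨b, hb, hb'⟩ := (getP_mem XS (Nat.div n 64)).resolve_left hR
    obtain ⟨d, hd, hd'⟩ := (getP_mem XQ (Nat.mod n 64)).resolve_left hE
    have hsb := TB_of_chkW TB_lc (allP_iff.1 chk_S b hb)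
    obtain ⟨e, heQ, hTe⟩ := exists_elt TB_q chk_Q hd
    rw [← hb', ← hd'] at hn
    have h1 := chkLR_sound (TB_lc l (lt_ten l hl)) hs hsb hTe hn
    refine ⟨b, hb, _, e * x, hsb, Q0.mul_mem heQ hx, ?_⟩
    rw [ev_cons, he, ← mul_assoc, h1, mul_assoc]

/-- `P Q = Q C P` -/
def chkT (P Q C : ℕ) : Bool := allB (fun x => Nat.beq (lk P (lk Q x)) (lk Q (lk C (lk P x)))) 100

theorem chkT_of {g h k : ↥C0} {P Q C : ℕ} (hg : TB g P) (hh : TB h Q) (hk : TB k C) (hc : g * h * g⁻¹ = h * k) :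
    chkT P Q C = true := by
  have hc' : g * h = h * (k * g) := by rw [← mul_assoc, ← hc]; group
  refine (allB_iff _ _).2 fun x hx => ?_
  have e1 := hh.2 ⟨x, hx⟩
  have e2 := hg.2 (h.1 ⟨x, hx⟩)
  have e3 := hg.2 ⟨x, hx⟩
  have e4 := hk.2 (g.1 ⟨x, hx⟩)
  have e5 := hh.2 (k.1 (g.1 ⟨x, hx⟩))
  rw [e1] at e2
  rw [e3] at e4
  rw [e4] at e5
  have h1 : lk P (lk Q x) = lk Q (lk C (lk P x)) := by
    rw [← e2, ← e5]
    exact congrArg (fun k : ↥C0 => ((k.1 ⟨x, hx⟩ : Fin 100) : ℕ)) hc'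
  rw [h1]; exact Nat.beq_refl _

theorem chk_faith : allP (fun P _ => cond (Nat.beq P tOne) true (anyN (fun i =>
    cond (chkT P (Gq i) tOne) false (cond (chkT P (Gq i) tz) false (cond (chkT P (Gq i) tI) false
      (cond (chkT P (Gq i) tuz) false true)))) 5)) XS = true := by decide +kernel

theorem faith (g : ↥C0) (hg : ∀ x ∈ Q0, g * x * g⁻¹ = x ∨ g * x * g⁻¹ = x * (cI * cI) ∨ g * x * g⁻¹ = x * cI ∨
    g * x * g⁻¹ = x * (cI * (cI * cI))) : g ∈ Q0 := by
  obtain ⟨a, ha, s, x0, hs, hx0, he⟩ := exists_coset g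
  have hz2 : cI * cI * (cI * cI) = 1 := by rw [i2_eq]; exact inv_m 5 (by norm_num)
  have h1 : ∀ x ∈ Q0, s * x * s⁻¹ = x ∨ s * x * s⁻¹ = x * (cI * cI) ∨ s * x * s⁻¹ = x * cI ∨
      s * x * s⁻¹ = x * (cI * (cI * cI)) := by
    intro x hx
    have e1 : s * x * s⁻¹ = g * (x0⁻¹ * x * x0) * g⁻¹ := by rw [he]; group
    have hx' : x0⁻¹ * x * x0 ∈ Q0 := Q0.mul_mem (Q0.mul_mem (Q0.inv_mem hx0) hx) hx0
    have e2 : x0⁻¹ * x * x0 = x ∨ x0⁻¹ * x * x0 = x * (cI * cI) := by
      rcases comm_Q0 x hx x0 hx0 with h | h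
      · left; rw [mul_assoc, h, inv_mul_cancel_left]
      · right; rw [mul_assoc, h, mul_assoc, inv_mul_cancel_left]
    have hu := u_comm
    rw [e1]
    rcases e2 with e2 | e2
    · rw [e2]; exact hg x hx
    · rw [e2]
      have e3 : g * (x * (cI * cI)) * g⁻¹ = g * x * g⁻¹ * (cI * cI) := by
        rw [← mul_assoc, mul_assoc _ _ g⁻¹, ← z_comm g⁻¹, ← mul_assoc]
      rw [e3]
      rcases hg x hx with h | h | h | h
      · rw [h]; exact Or.inr (Or.inl rfl)
      · rw [h]; left; rw [mul_assoc, hz2, mul_one]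
      · rw [h]; right; right; right; rw [mul_assoc]
      · rw [h]; right; right; left
        rw [mul_assoc, mul_assoc, hz2, mul_one]
  have h2 := allP_iff.1 chk_faith a ha
  have h3 : s = 1 := by
    cases h4 : Nat.beq a.1 tOne with
    | true =>
      rw [Nat.eq_of_beq_eq_true h4] at hs
      exact hs.inj TB_one
    | false =>
      exfalso
      rw [h4, cond_false] at h2
      obtain ⟨i, hi, h5⟩ := anyN_iff h2
      have hm : m i ∈ Q0 := Subgroup.subset_closure ⟨i, hi, rfl⟩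
      rcases h1 (m i) hm with h | h | h | h
      · rw [chkT_of hs (TB_q i hi) TB_one (by rw [h, mul_one]), cond_true] at h5
        exact Bool.noConfusion h5
      · rw [chkT_of hs (TB_q i hi) TB_z h, cond_true] at h5
        cases hb : chkT a.1 (Gq i) tOne <;> rw [hb] at h5 <;> exact Bool.noConfusion h5
      · rw [chkT_of hs (TB_q i hi) TB_I h, cond_true] at h5
        cases hb : chkT a.1 (Gq i) tOne <;> cases hb' : chkT a.1 (Gq i) tz <;> rw [hb, hb'] at h5 <;>
          exact Bool.noConfusion h5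
      · rw [chkT_of hs (TB_q i hi) TB_uz h, cond_true] at h5
        cases hb : chkT a.1 (Gq i) tOne <;> cases hb' : chkT a.1 (Gq i) tz <;>
          cases hb'' : chkT a.1 (Gq i) tI <;> rw [hb, hb', hb''] at h5 <;> exact Bool.noConfusion h5
  rw [he, h3, one_mul]
  exact hx0

/-! ### the element `t` -/

theorem t_sq : cT * cT = 1 := (TB_T.mul TB_T TB_one.1 (by decide +kernel)).inj TB_one

theorem t_u : cT * cI * cT⁻¹ = cI * (cI * cI) := chkCj_sound TB_T TB_I TB_uz (by decide +kernel)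

theorem chk_tA : ∀ i < 3, anyP (fun R => chkCj tT (GA i) R) XA = true := by decide +kernel

theorem t_A : ∀ x ∈ A1, cT * x * cT⁻¹ ∈ A1 := by
  refine conj_closure ?_
  rintro _ ⟨i, hi, rfl⟩
  obtain ⟨b, hb, hcb⟩ := anyP_iff.1 (chk_tA i hi)
  obtain ⟨y, hy, hTy⟩ := exists_elt TB_gA chk_A hb
  rw [chkCj_sound TB_T (TB_gA i hi) hTy hcb]
  exact hy

theorem a2_mem : cA * cA ∈ Q0 := by
  rw [a2_eq]
  have h : ∀ i < 5, m i ∈ Q0 := fun i hi => Subgroup.subset_closure ⟨i, hi, rfl⟩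
  exact Q0.mul_mem (Q0.mul_mem (h 2 (by norm_num)) (h 4 (by norm_num))) (h 3 (by norm_num))

theorem z_ne : cI * cI ≠ 1 := by
  intro h
  have h1 := TB_z
  rw [h] at h1
  exact absurd (h1.uniq TB_one) (by decide +kernel)

theorem sw : SW Q0 (cI * cI) cI where
  u_mem := u_mem
  u_sq := rfl
  z_ne := z_ne
  z_sq := by rw [i2_eq]; exact inv_m 5 (by norm_num)
  comm_u := u_comm
  conj_mem := fun g _ => conj_Q0 g
  sq := sq_Q0
  comm := comm_Q0
  self := fun g _ h => by
    have h1 : g ∈ Q0 := faith g fun x hx => Or.inl (by rw [h x hx]; group)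
    exact cent_Q0 h1 h
  faith := fun g _ h => faith g h

/-- **The data for `C0`.** -/
theorem datC0 : Dat Q0 A1 (cI * cI) cI cT where
  sw := sw
  card_Q := card_Q0
  card_C := by rw [cent_eq, Subgroup.card_top]; exact card_C0
  lines := by
    refine ⟨{B | ∃ j < 5, B = Lg j}, ⟨3, by norm_num, A1_inf_Q0⟩, ?_, ?_, ?_, ?_⟩
    · rintro B ⟨j, hj, rfl⟩
      exact ⟨Lg_le hj, Subgroup.subset_closure ⟨0, by norm_num, rfl⟩, card_Lg hj, comm_Lg hj⟩
    · rintro B ⟨j, hj, rfl⟩ B' ⟨k, hk, rfl⟩ x hx hx' h1 h2 h3 h4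
      by_cases hjk : j = k
      · rw [hjk]
      · exfalso
        rcases Lg_inter hj hk hjk hx hx' with h | h | h | h
        · exact h1 h
        · exact h2 h
        · exact h3 h
        · exact h4 h
    · intro x hx
      obtain ⟨j, hj, h⟩ := Lg_cover hx
      exact ⟨_, ⟨j, hj, rfl⟩, h⟩
    · rintro g - B ⟨j, hj, rfl⟩
      obtain ⟨k, hk, h⟩ := conj_Lg g j hj
      exact ⟨_, ⟨k, hk, rfl⟩, h⟩
  comm_A := comm_A1
  exp_A := exp_A1
  card_A := card_A1
  s_sq := t_sq
  s_u := t_u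
  s_A := t_A

end

end Cfsg.Agent.HSU.DatC0
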