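import Cfsg.Agent.HSU.Uniq
import Cfsg.Agent.HSU.DatC0

/-!
# From the data `Dat` to an embedding of `C0`

If `G` has data `Dat Q A z u s`, then the centraliser of `z` is the image of the model `C0` under an injective
homomorphism `φ` with `NormA.Ctx z φ`.
-/

set_option autoImplicit false

namespace Cfsg.Agent.HSU.Final

open Cfsg.Agent.HSType.Letters hiding cK cT cI cA cB cH
open Cfsg.Agent.HSType Cfsg.Agent.HSType.NormA
open Cfsg.Agent.HSU.Base Cfsg.Agent.HSU.DatC0

theorem a2_sq : (cA * cA) * (cA * cA) = 1 := by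
  have h := abC.a4
  rw [← h]
  simp only [pow_succ, pow_zero, one_mul, mul_assoc]

theorem a2_ne : cA * cA ≠ 1 := by
  intro h
  have h1 := injC.eq_of_lt abC (v := ⟨0, 2, 0⟩) (w := ⟨0, 0, 0⟩) ⟨by norm_num, by norm_num, by norm_num⟩
    ⟨by norm_num, by norm_num, by norm_num⟩ (by simp [Affine.e, pow_two, h])
  have h2 := congrArg Affine.V.y h1
  simp at h2

theorem ctx_of_dat {G : Type*} [Group G] {Q A : Subgroup G} {z u s : G} (h : Dat Q A z u s)
    (hconj : ∀ x ∈ Q, x * x = 1 → x ≠ 1 → ∃ g, g * z * g⁻¹ = x) :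
    ∃ φ : ↥C0 →* G, NormA.Ctx z φ ∧ IsConj (φ (NormA.cA * NormA.cA)) z := by
  obtain ⟨e, he⟩ := Uniq.uniq datC0 h
  have hmem : ∀ c : ↥C0, c ∈ Subgroup.centralizer ({cI * cI} : Set ↥C0) := fun c =>
    Subgroup.mem_centralizer_singleton_iff.2 (z_comm c)
  set ι : ↥C0 →* ↥(Subgroup.centralizer ({cI * cI} : Set ↥C0)) :=
    { toFun := fun c => ⟨c, hmem c⟩, map_one' := rfl, map_mul' := fun _ _ => rfl } with hι
  have hιi : Function.Injective ι := fun a b hab => congrArg Subtype.val hab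
  set φ : ↥C0 →* G := (Subgroup.centralizer ({z} : Set G)).subtype.comp (e.toMonoidHom.comp ι) with hφ
  have hφi : Function.Injective φ :=
    (Subtype.val_injective).comp (e.injective.comp hιi)
  have hφQ : ∀ c ∈ Q0, φ c ∈ Q := fun c hc => he c (hmem c) hc
  have hsurj : ∀ g : G, g * z = z * g → ∃ c, φ c = g := by
    intro g hg
    obtain ⟨c, hc⟩ := e.surjective ⟨g, Subgroup.mem_centralizer_singleton_iff.2 hg⟩
    exact ⟨(c : ↥C0), congrArg Subtype.val hc⟩
  have hz0 : cI * cI ∈ Q0 := datC0.sw.z_mem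
  have hz : φ (cI * cI) = z := by
    have h1 : φ (cI * cI) ≠ 1 := fun h0 => datC0.sw.z_ne (hφi (by rw [h0, map_one]))
    have h2 : φ (cI * cI) * φ (cI * cI) = 1 := by rw [← map_mul, datC0.sw.z_sq, map_one]
    have h3 : ∀ x ∈ Q, φ (cI * cI) * x = x * φ (cI * cI) := by
      intro x hx
      obtain ⟨c, rfl⟩ := hsurj x (h.sw.comm_z x hx)
      rw [← map_mul, ← map_mul, z_comm]
    rcases h.sw.self _ (h.sw.comm_z _ (hφQ _ hz0)) h3 with h4 | h4 | h4 | h4
    · exact absurd h4 h1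
    · exact h4
    · rw [h4, h.sw.u_sq] at h2; exact absurd h2 h.sw.z_ne
    · exfalso
      rw [h4] at h2
      have h5 : u * z * (u * z) = z := by
        have := h.sw.uz
        calc u * z * (u * z) = u * (z * u) * z := by simp only [mul_assoc]
          _ = u * (u * z) * z := by rw [← this]
          _ = (u * u) * (z * z) := by simp only [mul_assoc]
          _ = z := by rw [h.sw.u_sq, h.sw.z_sq, mul_one]
      exact h.sw.z_ne (h5 ▸ h2)
  refine ⟨φ, ⟨hφi, hz, hsurj⟩, ?_⟩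
  obtain ⟨g, hg⟩ := hconj (φ (cA * cA)) (hφQ _ a2_mem) (by rw [← map_mul, a2_sq, map_one])
    (fun h0 => a2_ne (hφi (by rw [h0, map_one])))
  exact (isConj_iff.2 ⟨g, hg⟩ : IsConj z (φ (cA * cA))).symm

end Cfsg.Agent.HSU.Final
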