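import Mathlib.Data.ZMod.Basic
import Mathlib.Data.Fintype.Prod
import Mathlib.Tactic.FinCases

/-!
# The model of the symplectic space with its spread
-/

set_option autoImplicit false

namespace Cfsg.Agent.HSU.Model

/-- coordinates with respect to `v, v', w, w'` -/
abbrev W : Type := ZMod 2 × ZMod 2 × ZMod 2 × ZMod 2

/-- the form -/
def om (p q : W) : ZMod 2 := p.1 * q.2.2.2 + p.2.1 * q.2.2.1 + p.2.2.1 * q.2.1 + p.2.2.2 * q.1

/-- multiplication by a primitive element of `F₄` -/
def ph (p : W) : W := (p.2.1, p.1 + p.2.1, p.2.2.1 + p.2.2.2, p.2.2.1)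

/-- image of `v` -/
def mx (a b : W) : W := if om (ph a) b = 0 then ph a else ph a + a

/-- image of `w'` -/
def my (a b : W) : W := if om a (ph b) = 0 then ph b else ph b + b

/-- scalar multiplication -/
def sm (t : ZMod 2) (p : W) : W := if t = 0 then 0 else p

/-- the map with `v' ↦ a`, `w ↦ b` -/
def mat (a b p : W) : W := sm p.1 (mx a b) + sm p.2.1 a + sm p.2.2.1 b + sm p.2.2.2 (my a b)

def lin (a b : W) : Prop := om (ph a) b ≠ 0

instance (a b : W) : Decidable (lin a b) := inferInstanceAs (Decidable (_ ≠ _))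

def e2 : W := (0, 1, 0, 0)
def e3 : W := (0, 0, 1, 0)

theorem D3 : (Finset.univ.filter fun p : W × W => om p.1 p.2 = 1).card = 120 := by decide +kernel

theorem D2 : ∀ a b : W, om a b = 1 → ¬ lin a b → lin (mat a b (1, 1, 0, 0)) b := by decide +kernel

theorem D1 : ∀ a b : W, om a b = 1 → lin a b → ∃ c d : W, om c d = 1 ∧
    mat c d (mat c d e2) = a ∧ mat c d (mat c d e3) = b := by decide +kernel

end Cfsg.Agent.HSU.Model
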