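import Cfsg.Agent.HSU.Lin
import Cfsg.Agent.HSU.Model

/-!
# Coordinates with respect to an adapted frame
-/

set_option autoImplicit false

namespace Cfsg.Agent.HSU.Coord

open Cfsg.Agent.HSU.Lin Cfsg.Agent.HSU.Model

/-- scalar multiplication -/
def sc {V : Type*} [AddCommGroup V] (t : ZMod 2) (x : V) : V := if t = 0 then 0 else x

/-- the vector with given coordinates -/
def kap {V : Type*} [AddCommGroup V] (v v' w w' : V) (p : W) : V :=
  sc p.1 v + sc p.2.1 v' + sc p.2.2.1 w + sc p.2.2.2 w'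

variable {V : Type*} [AddCommGroup V] {ω : V → V → ZMod 2} {J : V → V → Prop}

theorem sc_zero (x : V) : sc 0 x = 0 := if_pos rfl

theorem sc_one (x : V) : sc 1 x = x := if_neg (by decide)

theorem sc_add (S : Spr ω J) (t t' : ZMod 2) (x : V) : sc (t + t') x = sc t x + sc t' x := by
  rcases z2 t with rfl | rfl <;> rcases z2 t' with rfl | rfl
  · simp [sc_zero]
  · simp [sc_zero]
  · simp [sc_zero]
  · rw [show (1 : ZMod 2) + 1 = 0 by decide, sc_zero, sc_one, S.two]

theorem om_sc_l (S : Spr ω J) (t : ZMod 2) (x y : V) : ω (sc t x) y = t * ω x y := by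
  rcases z2 t with rfl | rfl
  · rw [sc_zero, S.zero_l, zero_mul]
  · rw [sc_one, one_mul]

theorem om_sc_r (S : Spr ω J) (t : ZMod 2) (x y : V) : ω x (sc t y) = t * ω x y := by
  rw [S.comm, om_sc_l S, S.comm]

theorem kap_add (S : Spr ω J) (v v' w w' : V) (p q : W) :
    kap v v' w w' (p + q) = kap v v' w w' p + kap v v' w w' q := by
  unfold kap
  rw [Prod.fst_add, Prod.snd_add, Prod.fst_add, Prod.snd_add, Prod.fst_add, Prod.snd_add,
    sc_add S, sc_add S, sc_add S, sc_add S]
  abel

theorem kap_zero (v v' w w' : V) : kap v v' w w' 0 = 0 := by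
  unfold kap
  simp [sc_zero]

variable {s : V → V} {v v' w w' : V}

theorem om_kap (S : Spr ω J) (F : Frame ω J s v v' w w') (p q : W) :
    ω (kap v v' w w' p) (kap v v' w w' q) = om p q := by
  have h1 := S.iso _ _ F.Jv
  have h2 := S.iso _ _ F.Jw
  have h1' := (S.comm v' v).trans h1
  have h2' := (S.comm w' w).trans h2
  have h3 := (S.comm w v).trans F.vw
  have h4 := (S.comm w' v).trans F.vw'
  have h5 := (S.comm w v').trans F.v'w
  have h6 := (S.comm w' v').trans F.v'w'
  unfold kap om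
  simp only [S.add_l, S.add_r, om_sc_l S, om_sc_r S, S.alt, h1, h1', h2, h2', h3, h4, h5, h6, F.vw,
    F.vw', F.v'w, F.v'w']
  ring

theorem om_nd : ∀ p : W, (∀ q, om p q = 0) → p = 0 := by decide +kernel

theorem kap_inj (S : Spr ω J) (F : Frame ω J s v v' w w') :
    Function.Injective (kap v v' w w') := by
  intro p q h
  have h1 : p + q = 0 := by
    apply om_nd
    intro r
    rw [← om_kap S F, kap_add S, h, S.two, S.zero_l]
  have h2 : ∀ a b : W, a + b = 0 → a = b := by decide +kernel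
  exact h2 _ _ h1

theorem kap_bij (S : Spr ω J) (F : Frame ω J s v v' w w') :
    Function.Bijective (kap v v' w w') := by
  have := S.finite
  rw [Nat.bijective_iff_injective_and_card]
  refine ⟨kap_inj S F, ?_⟩
  rw [S.card]
  simp [W]

/-! ### the lines -/

theorem v'_ne (S : Spr ω J) (F : Frame ω J s v v' w w') : v' ≠ 0 := by
  rintro rfl
  have := F.v'w
  rw [S.zero_l] at this
  exact zero_ne_one this

theorem w'_ne (S : Spr ω J) (F : Frame ω J s v v' w w') : w' ≠ 0 := by
  rintro rfl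
  have := F.vw'
  rw [S.zero_r] at this
  exact zero_ne_one this

theorem ww'_ne (S : Spr ω J) (F : Frame ω J s v v' w w') : w + w' ≠ 0 := by
  intro h
  have h1 := S.eq_of_add h
  have := F.vw'
  rw [← h1, F.vw] at this
  exact zero_ne_one this

theorem w_ne_w' (S : Spr ω J) (F : Frame ω J s v v' w w') : w' ≠ w := by
  intro h1
  have := F.vw'
  rw [h1, F.vw] at this
  exact zero_ne_one this

theorem v_ne_v' (S : Spr ω J) (F : Frame ω J s v v' w w') : v' ≠ v := by
  intro h1
  have := F.v'w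
  rw [h1, F.vw] at this
  exact zero_ne_one this

theorem not_J (S : Spr ω J) (F : Frame ω J s v v' w w') : ¬ J v w := by
  intro h
  have h1 := S.iso _ _ (S.tr _ _ _ F.v0 (S.symm _ _ F.Jv) h)
  rw [F.v'w] at h1
  exact one_ne_zero h1

/-- no nonzero vector of the line of `v` is in the line of `w` -/
theorem disj (S : Spr ω J) (F : Frame ω J s v v' w w') {a : V} (ha : J v a) (hb : J w a) : a = 0 := by
  by_contra h
  exact not_J S F (S.tr' h ha hb)

/-- each line different from those of `v`, `w` contains a vector `v' + b` -/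
theorem exists_b (S : Spr ω J) (F : Frame ω J s v v' w w') {a : V} (ha : J w a) (ha0 : a ≠ 0) :
    ∃ b, J w b ∧ b ≠ 0 ∧ b ≠ a ∧ J (v + a) (v' + b) := by
  have hva0 : v + a ≠ 0 := by
    intro h
    have h1 := S.eq_of_add h
    exact F.v0 (disj S F (S.refl _) (h1 ▸ ha))
  have h1 : ¬ J (v + a) w := by
    intro h
    have h2 : J w (v + a + a) := S.add _ _ _ (S.symm _ _ h) ha
    rw [add_assoc, S.two, add_zero] at h2
    exact F.v0 (disj S F (S.refl _) h2)
  have h1' : ¬ J (v + a) v := by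
    intro h
    have h2 : J v (v + (v + a)) := S.add _ _ _ (S.refl v) (S.symm _ _ h)
    rw [← add_assoc, S.two, zero_add] at h2
    exact ha0 (disj S F h2 ha)
  obtain ⟨c, b, hc, hb, hcb⟩ := S.decomp hva0 F.w0 h1 v'
  have hc' : c = v' + b := by
    rw [hcb, add_assoc, S.two, add_zero]
  rw [hc'] at hc
  refine ⟨b, hb, ?_, ?_, hc⟩
  · rintro rfl
    rw [add_zero] at hc
    exact h1' (S.tr _ _ _ (v'_ne S F) hc (S.symm _ _ F.Jv))
  · rintro rfl
    have h2 := S.add _ _ _ (S.refl (v + b)) hc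
    have h3 : v + b + (v' + b) = v + v' := by
      calc v + b + (v' + b) = v + v' + (b + b) := by abel
        _ = v + v' := by rw [S.two, add_zero]
    rw [h3] at h2
    have h4 : v + v' ≠ 0 := fun h => v_ne_v' S F (S.eq_of_add h).symm
    exact h1' (S.tr' h4 h2 (S.add _ _ _ (S.refl v) F.Jv))

theorem J3 (S : Spr ω J) (F : Frame ω J s v v' w w') : J (v + w') (v' + w) := by
  obtain ⟨b, hb, h0, hne, hJ⟩ := exists_b S F F.Jw (w'_ne S F)
  rcases (S.line F.w0 F.Jw (w'_ne S F) (w_ne_w' S F) _).1 hb with h | h | h | h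
  · exact absurd h h0
  · rwa [h] at hJ
  · exact absurd h hne
  · exfalso
    have h1 := S.iso _ _ hJ
    have h2 := S.iso _ _ F.Jv
    have h3 := S.iso _ _ F.Jw
    rw [h, S.add_l, S.add_r, S.add_r, S.add_r, S.add_r, h2, F.vw, F.vw', S.comm w' v', F.v'w',
      S.comm w' w, h3, S.alt] at h1
    revert h1; decide

theorem J4 (S : Spr ω J) (F : Frame ω J s v v' w w') : J (v + w) (v' + (w + w')) := by
  obtain ⟨b, hb, h0, hne, hJ⟩ := exists_b S F (S.refl w) F.w0
  rcases (S.line F.w0 F.Jw (w'_ne S F) (w_ne_w' S F) _).1 hb with h | h | h | h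
  · exact absurd h h0
  · exact absurd h hne
  · exfalso
    rw [h] at hJ
    have h1 := S.add _ _ _ (S.refl (v + w)) hJ
    have h2 := S.add _ _ _ (S.refl (v + w')) (J3 S F)
    have h3 : v + w + (v' + w') = v + w' + (v' + w) := by abel
    rw [h3] at h1
    have h4 : v + w' + (v' + w) ≠ 0 := by
      intro h
      have h5 : v + v' = w + w' := by
        apply S.eq_of_add
        rw [← h]; abel
      exact ww'_ne S F (disj S F (h5 ▸ S.add _ _ _ (S.refl v) F.Jv) (S.add _ _ _ (S.refl w) F.Jw))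
    have h5 := S.tr' h4 h1 h2
    have h6 := S.add _ _ _ (S.refl (v + w)) h5
    have h7 : v + w + (v + w') = w + w' := by
      calc v + w + (v + w') = (v + v) + (w + w') := by abel
        _ = w + w' := by rw [S.two, zero_add]
    rw [h7] at h6
    have h8 : J w (v + w) := S.tr' (ww'_ne S F) (S.add _ _ _ (S.refl w) F.Jw) h6
    have h9 : J w (w + (v + w)) := S.add _ _ _ (S.refl w) h8
    have h10 : w + (v + w) = v := by
      calc w + (v + w) = v + (w + w) := by abel
        _ = v := by rw [S.two, add_zero]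
    rw [h10] at h9
    exact F.v0 (disj S F (S.refl v) h9)
  · rwa [h] at hJ

theorem J5 (S : Spr ω J) (F : Frame ω J s v v' w w') : J (v + (w + w')) (v' + w') := by
  obtain ⟨b, hb, h0, hne, hJ⟩ := exists_b S F (S.add _ _ _ (S.refl w) F.Jw) (ww'_ne S F)
  rcases (S.line F.w0 F.Jw (w'_ne S F) (w_ne_w' S F) _).1 hb with h | h | h | h
  · exact absurd h h0
  · exfalso
    rw [h] at hJ
    have h4 : v' + w ≠ 0 := by
      intro h
      exact v'_ne S F (disj S F F.Jv ((S.eq_of_add h) ▸ S.refl w))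
    have h5 := S.tr' h4 hJ (J3 S F)
    have h6 := S.add _ _ _ (S.refl (v + (w + w'))) h5
    have h7 : v + (w + w') + (v + w') = w := by
      calc v + (w + w') + (v + w') = (v + v) + (w' + w') + w := by abel
        _ = w := by rw [S.two, S.two]; abel
    rw [h7] at h6
    have h8 : J w (v + (w + w')) := S.symm _ _ h6
    have h9 := S.add _ _ _ h8 (S.add _ _ _ (S.refl w) F.Jw)
    have h10 : v + (w + w') + (w + w') = v := by rw [add_assoc, S.two, add_zero]
    rw [h10] at h9
    exact F.v0 (disj S F (S.refl v) h9)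
  · rwa [h] at hJ
  · exact absurd h hne

theorem kv : kap v v' w w' (1, 0, 0, 0) = v := by unfold kap; simp [sc_zero, sc_one]
theorem kv' : kap v v' w w' (0, 1, 0, 0) = v' := by unfold kap; simp [sc_zero, sc_one]
theorem kw : kap v v' w w' (0, 0, 1, 0) = w := by unfold kap; simp [sc_zero, sc_one]
theorem kw' : kap v v' w w' (0, 0, 0, 1) = w' := by unfold kap; simp [sc_zero, sc_one]

theorem J_ph (S : Spr ω J) (F : Frame ω J s v v' w w') (a : W) :
    J (kap v v' w w' a) (kap v v' w w' (ph a)) := by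
  have key : ∀ a : W, J (kap v v' w w' a) (kap v v' w w' (ph a)) →
      J (kap v v' w w' (ph a)) (kap v v' w w' (ph (ph a))) := by
    intro a h
    have h1 : ∀ a : W, ph (ph a) = a + ph a := by decide +kernel
    rw [h1, kap_add S]
    exact S.add _ _ _ (S.symm _ _ h) (S.refl _)
  have l1 : J (kap v v' w w' (1, 0, 0, 0)) (kap v v' w w' (ph (1, 0, 0, 0))) := by
    rw [show ph (1, 0, 0, 0) = (0, 1, 0, 0) by decide, kv, kv']
    exact F.Jv
  have l2 : J (kap v v' w w' (0, 0, 1, 0)) (kap v v' w w' (ph (0, 0, 1, 0))) := by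
    rw [show ph (0, 0, 1, 0) = (0, 0, 1, 0) + (0, 0, 0, 1) by decide, kap_add S, kw, kw']
    exact S.add _ _ _ (S.refl w) F.Jw
  have l3 : J (kap v v' w w' (1, 0, 0, 1)) (kap v v' w w' (ph (1, 0, 0, 1))) := by
    rw [show ph (1, 0, 0, 1) = (0, 1, 0, 0) + (0, 0, 1, 0) by decide,
      show ((1, 0, 0, 1) : W) = (1, 0, 0, 0) + (0, 0, 0, 1) by decide, kap_add S, kap_add S, kv, kv', kw, kw']
    exact J3 S F
  have l4 : J (kap v v' w w' (1, 0, 1, 0)) (kap v v' w w' (ph (1, 0, 1, 0))) := by
    rw [show ph (1, 0, 1, 0) = (0, 1, 0, 0) + ((0, 0, 1, 0) + (0, 0, 0, 1)) by decide,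
      show ((1, 0, 1, 0) : W) = (1, 0, 0, 0) + (0, 0, 1, 0) by decide, kap_add S, kap_add S, kap_add S, kv, kv', kw, kw']
    exact J4 S F
  have l5 : J (kap v v' w w' (1, 0, 1, 1)) (kap v v' w w' (ph (1, 0, 1, 1))) := by
    rw [show ph (1, 0, 1, 1) = (0, 1, 0, 0) + (0, 0, 0, 1) by decide,
      show ((1, 0, 1, 1) : W) = (1, 0, 0, 0) + ((0, 0, 1, 0) + (0, 0, 0, 1)) by decide, kap_add S, kap_add S,
      kap_add S, kv, kv', kw, kw']
    exact J5 S F
  have hcover : ∀ a : W, a = 0 ∨ ∃ b ∈ [((1, 0, 0, 0) : W), (0, 0, 1, 0), (1, 0, 0, 1), (1, 0, 1, 0), (1, 0, 1, 1)],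
      a = b ∨ a = ph b ∨ a = ph (ph b) := by decide +kernel
  rcases hcover a with rfl | ⟨b, hb, ha⟩
  · rw [show ph 0 = 0 by decide]; exact S.refl _
  · have hb' : J (kap v v' w w' b) (kap v v' w w' (ph b)) := by
      simp only [List.mem_cons, List.not_mem_nil, or_false] at hb
      rcases hb with rfl | rfl | rfl | rfl | rfl
      exacts [l1, l2, l3, l4, l5]
    rcases ha with rfl | rfl | rfl
    · exact hb'
    · exact key _ hb'
    · exact key _ (key _ hb')

theorem J_cases (S : Spr ω J) (F : Frame ω J s v v' w w') {a q : W} (ha : a ≠ 0)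
    (h : J (kap v v' w w' a) (kap v v' w w' q)) : q = 0 ∨ q = a ∨ q = ph a ∨ q = ph a + a := by
  have h1 := J_ph S F a
  have hk0 : kap v v' w w' a ≠ 0 := fun h => ha (kap_inj S F (h.trans (kap_zero _ _ _ _).symm))
  have hph : ∀ a : W, a ≠ 0 → ph a ≠ 0 ∧ ph a ≠ a := by decide +kernel
  have h2 : kap v v' w w' (ph a) ≠ 0 := fun h => (hph a ha).1 (kap_inj S F (h.trans (kap_zero _ _ _ _).symm))
  have h3 : kap v v' w w' (ph a) ≠ kap v v' w w' a := fun h => (hph a ha).2 (kap_inj S F h)
  rcases (S.line hk0 h1 h2 h3 _).1 h with h4 | h4 | h4 | h4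
  · exact Or.inl (kap_inj S F (h4.trans (kap_zero _ _ _ _).symm))
  · exact Or.inr (Or.inl (kap_inj S F h4))
  · exact Or.inr (Or.inr (Or.inl (kap_inj S F h4)))
  · rw [← kap_add S] at h4
    exact Or.inr (Or.inr (Or.inr ((kap_inj S F h4).trans (add_comm _ _))))

/-- a map preserving form and spread is determined by the images of `v'` and `w` -/
theorem eq_mat (S : Spr ω J) (F : Frame ω J s v v' w w') {g : V → V} (hg : Aut ω J g) {a b : W}
    (ha : g v' = kap v v' w w' a) (hb : g w = kap v v' w w' b) (p : W) :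
    g (kap v v' w w' p) = kap v v' w w' (mat a b p) := by
  have g0 : g 0 = 0 := by
    have := hg.add 0 0
    rw [add_zero] at this
    exact left_eq_add.1 this
  have gsc : ∀ t x, g (sc t x) = sc t (g x) := by
    intro t x
    rcases z2 t with rfl | rfl
    · rw [sc_zero, sc_zero, g0]
    · rw [sc_one, sc_one]
  have ginj : ∀ x y, g x = g y → x = y := by
    intro x y hab
    apply S.eq_of_add
    apply S.nd
    intro c
    rw [← hg.om, hg.add, hab, S.two, S.zero_l]
  have ha0 : a ≠ 0 := by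
    rintro rfl
    rw [kap_zero] at ha
    exact v'_ne S F (ginj _ _ (ha.trans g0.symm))
  have hb0 : b ≠ 0 := by
    rintro rfl
    rw [kap_zero] at hb
    exact F.w0 (ginj _ _ (hb.trans g0.symm))
  have hab : om a b = 1 := by rw [← om_kap S F, ← ha, ← hb, hg.om, F.v'w]
  obtain ⟨x, hx⟩ := (kap_bij S F).2 (g v)
  obtain ⟨y, hy⟩ := (kap_bij S F).2 (g w')
  have hx1 : x = mx a b := by
    have h1 : J (kap v v' w w' a) (kap v v' w w' x) := by
      rw [hx, ← ha]; exact hg.J _ _ (S.symm _ _ F.Jv)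
    have h2 : om x b = 0 := by rw [← om_kap S F, hx, ← hb, hg.om, F.vw]
    unfold mx
    rcases J_cases S F ha0 h1 with h | h | h | h
    · exfalso
      rw [h, kap_zero] at hx
      exact F.v0 (ginj _ _ (hx.symm.trans g0.symm))
    · exfalso
      rw [h, ← ha] at hx
      exact v_ne_v' S F (ginj _ _ hx)
    · rw [if_pos (h ▸ h2), h]
    · rw [if_neg, h]
      intro h3
      have h4 : ∀ a b : W, om (ph a) b = 0 → om (ph a + a) b = 0 → om a b = 0 := by decide +kernel
      rw [h4 a b h3 (h ▸ h2)] at hab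
      exact zero_ne_one hab
  have hy1 : y = my a b := by
    have h1 : J (kap v v' w w' b) (kap v v' w w' y) := by
      rw [hy, ← hb]; exact hg.J _ _ F.Jw
    have h2 : om a y = 0 := by rw [← om_kap S F, hy, ← ha, hg.om, F.v'w']
    unfold my
    rcases J_cases S F hb0 h1 with h | h | h | h
    · exfalso
      rw [h, kap_zero] at hy
      exact w'_ne S F (ginj _ _ (hy.symm.trans g0.symm))
    · exfalso
      rw [h, ← hb] at hy
      exact w_ne_w' S F (ginj _ _ hy.symm)
    · rw [if_pos (h ▸ h2), h]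
    · rw [if_neg, h]
      intro h3
      have h4 : ∀ a b : W, om a (ph b) = 0 → om a (ph b + b) = 0 → om a b = 0 := by decide +kernel
      rw [h4 a b h3 (h ▸ h2)] at hab
      exact zero_ne_one hab
  have ksm : ∀ t (c : W), kap v v' w w' (sm t c) = sc t (kap v v' w w' c) := by
    intro t c
    rcases z2 t with rfl | rfl
    · rw [sc_zero, show sm 0 c = 0 from if_pos rfl, kap_zero]
    · rw [sc_one, show sm 1 c = c from if_neg (by decide)]
  unfold mat
  rw [kap_add S, kap_add S, kap_add S, ksm, ksm, ksm, ksm, ← hx1, ← hy1, hx, hy, ← ha, ← hb]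
  conv_lhs => rw [kap, hg.add, hg.add, hg.add, gsc, gsc, gsc, gsc]

end Cfsg.Agent.HSU.Coord
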