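import Cfsg.Agent.HSU.Base
import Cfsg.Agent.ClassificationK.SymplHS
import Cfsg.Agent.ClassificationK.SymplCtx

/-!
# `HSData` gives `Dat` (S1777 / S1758, piece [U-G])

`A = C_G(E)`, `E = Q z ∩ Q x` elementary of order 8, `x ∈ Q z` a conjugate of `z`, is generated by the commuting
elements `u y`, `y ∈ E`, `y ≠ 1`, and has order `64`.
-/

set_option autoImplicit false

namespace Cfsg.Agent.HSU.DatG

open Cfsg.Agent.ClassificationK
open SymplSetup SymplInst SymplLin SymplLin.Sys SymplStepFive SymplHS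

theorem sw_of {G : Type*} [Group G] {Q : Subgroup G} {z u : G} [Finite Q] (h : Symp Q z u) :
    Base.SW Q z u where
  u_mem := h.u_mem
  u_sq := h.u_sq
  z_ne := h.z_ne
  z_sq := h.z_sq
  comm_u := h.comm_u
  conj_mem := h.conj_mem
  sq := h.sq
  comm := h.comm
  self := h.self
  faith := by
    intro g hg hx
    apply h.mem_of_act ⟨g, Subgroup.mem_centralizer_singleton_iff.2 hg⟩
    ext v
    obtain ⟨x, rfl⟩ := h.pr_surjective v
    rw [h.act_pr]
    show h.pr _ = h.pr x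
    rw [h.pr_eq_pr]
    exact hx x x.2

/-! ### preimages -/

section Pre

variable {G : Type*} [Group G] {Q : Subgroup G} {z u : G}

/-- the projection as a homomorphism -/
noncomputable def prHom (h : Symp Q z u) : Q →* Multiplicative h.V where
  toFun x := Multiplicative.ofAdd (h.pr x)
  map_one' := rfl
  map_mul' _ _ := rfl

theorem prHom_surjective (h : Symp Q z u) : Function.Surjective (prHom h) := by
  intro v
  obtain ⟨x, hx⟩ := h.pr_surjective (Multiplicative.toAdd v)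
  exact ⟨x, by show Multiplicative.ofAdd (h.pr x) = v; rw [hx]; rfl⟩

/-- the preimage in `Q` of a subspace -/
noncomputable def pre (h : Symp Q z u) (T : Submodule (ZMod 2) h.V) : Subgroup G :=
  ((AddSubgroup.toSubgroup T.toAddSubgroup).comap (prHom h)).map Q.subtype

theorem mem_pre {h : Symp Q z u} {T : Submodule (ZMod 2) h.V} {x : G} :
    x ∈ pre h T ↔ ∃ hx : x ∈ Q, h.pr ⟨x, hx⟩ ∈ T := by
  constructor
  · rintro ⟨y, hy, rfl⟩
    exact ⟨y.2, hy⟩
  · rintro ⟨hx, h1⟩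
    exact ⟨⟨x, hx⟩, h1, rfl⟩

theorem card_pre [Finite Q] (h : Symp Q z u) (T : Submodule (ZMod 2) h.V) :
    Nat.card (pre h T) = 4 * Nat.card T := by
  have h1 : Nat.card (pre h T) = Nat.card ((AddSubgroup.toSubgroup T.toAddSubgroup).comap (prHom h)) :=
    Subgroup.card_map_of_injective Q.subtype_injective
  have h2 := Subgroup.index_comap_of_surjective (AddSubgroup.toSubgroup T.toAddSubgroup) (prHom_surjective h)
  have h3 := Subgroup.card_mul_index ((AddSubgroup.toSubgroup T.toAddSubgroup).comap (prHom h))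
  have h4 := Subgroup.card_mul_index (AddSubgroup.toSubgroup T.toAddSubgroup)
  have h5 : Nat.card (AddSubgroup.toSubgroup T.toAddSubgroup) = Nat.card T := rfl
  have h6 : Nat.card (Multiplicative h.V) = Nat.card h.V := rfl
  rw [h2, h.card_eq] at h3
  rw [h5, h6] at h4
  rw [h1]
  have h7 : 0 < (AddSubgroup.toSubgroup T.toAddSubgroup).index := by
    apply Nat.pos_of_ne_zero
    intro h0
    have : Nat.card h.V = 0 := by rw [← h4, h0, mul_zero]
    have : 0 < Nat.card h.V := Nat.card_pos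
    omega
  rw [← h4, ← mul_assoc] at h3
  exact Nat.eq_of_mul_eq_mul_right h7 h3

end Pre

variable {G : Type*} [Group G] {D : Set G} {Q : G → Subgroup G} {u : G → G} {z : G}

/-- the pointwise stabiliser of a line has order at most 4. -/
theorem card_ptStab {V : Type*} [AddCommGroup V] [Module (ZMod 2) V] {S : Sys V} [Finite V]
    (h16 : Nat.card V = 16) (hfull : ∀ v, v ≠ 0 → v ∈ S.Δ) {a : V} (ha : a ≠ 0) :
    Nat.card (S.ptStab (S.J a : Set V)) ≤ 4 := by
  have : Finite (V ≃ₗ[ZMod 2] V) :=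
    Finite.of_injective (fun h : V ≃ₗ[ZMod 2] V => (h : V → V)) DFunLike.coe_injective
  obtain ⟨b, e, f, F⟩ := exists_frame_at h16 hfull ha
  have h8 := card_stb h16 hfull ha
  have hle : S.ptStab (S.J a : Set V) ≤ stb S a := by
    intro h hh
    exact ⟨hh.1, hh.2 a (S.J_mem a F.ha)⟩
  obtain ⟨r, hr, hra, -, hre, -⟩ := F.exists_r h16
  have hrs : r ∈ stb S a := ⟨S.R_le a F.ha hr, hra⟩
  have hrn : r ∉ S.ptStab (S.J a : Set V) := by
    intro h
    have h1 := h.2 e F.he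
    rw [hre] at h1
    exact ha (add_eq_left.1 h1)
  obtain ⟨m, hm⟩ := Subgroup.card_dvd_of_le hle
  rw [h8] at hm
  have hm1 : m ≠ 1 := by
    rintro rfl
    apply hrn
    have : S.ptStab (S.J a : Set V) = stb S a := Subgroup.eq_of_le_of_card_ge hle (by rw [h8]; omega)
    rw [this]; exact hrs
  have hm0 : m ≠ 0 := by
    rintro rfl
    omega
  by_contra hlt
  push Not at hlt
  have h2 : 2 ≤ m := by omega
  have h3 : 5 * 2 ≤ Nat.card (S.ptStab (S.J a : Set V)) * m := Nat.mul_le_mul hlt h2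
  omega

/-- the pair `(z, s)` of type B and a conjugate `x` of `z` in `Q z` with `s ∈ Q x`. -/
theorem exists_xs [Finite G] (C : Ctx D Q u z) (h16 : 16 ≤ Nat.card C.h.V) :
    ∃ x s, x ∈ D ∧ x ∈ Q z ∧ x ≠ z ∧ s ∈ Q x ∧ s * s = 1 ∧ s * z = z * s ∧ s * u z * s⁻¹ = u z * z := by
  obtain ⟨a, ha⟩ := C.sys.nonempty
  obtain ⟨b, hb, hab, hs⟩ := exists_partner (S := C.sys) h16 ha
  obtain ⟨x, hx⟩ := ha
  obtain ⟨y, hy⟩ := hb
  have hs' : C.t a b = a + b := hs
  rw [Ctx.t_eq hx] at hs'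
  obtain ⟨hyx, -, hB⟩ := hx.typeB hy hab hs'
  obtain ⟨g, hg⟩ := C.F.trans x hx.memD z C.hz
  refine ⟨g * z * g⁻¹, g * y * g⁻¹, C.F.conj_mem z C.hz g, ?_, ?_, ?_, ?_, ?_, ?_⟩
  · have h1 : g * z * g⁻¹ ∈ Q (g * x * g⁻¹) := by
      rw [C.F.mem_conjQ hx.memD]
      have e : g⁻¹ * (g * z * g⁻¹) * g = z := by group
      rw [e]; exact hx.mem'
    rwa [hg] at h1
  · intro h1
    apply hx.ne
    have h2 : g * x * g⁻¹ = g * z * g⁻¹ := by rw [hg, h1]
    exact mul_left_cancel (mul_right_cancel h2)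
  · rw [C.F.mem_conjQ C.hz]
    have e : g⁻¹ * (g * y * g⁻¹) * g = y := by group
    rw [e]; exact hy.mem
  · calc g * y * g⁻¹ * (g * y * g⁻¹) = g * (y * y) * g⁻¹ := by group
      _ = 1 := by rw [hy.sq]; group
  · rw [← hg]
    calc g * y * g⁻¹ * (g * x * g⁻¹) = g * (y * x) * g⁻¹ := by group
      _ = g * x * g⁻¹ * (g * y * g⁻¹) := by rw [hyx]; group
  · have h1 : g * y * g⁻¹ * (g * u x * g⁻¹) * (g * y * g⁻¹)⁻¹ = (g * u x * g⁻¹) * z := by
      calc g * y * g⁻¹ * (g * u x * g⁻¹) * (g * y * g⁻¹)⁻¹ = g * (y * u x * y⁻¹) * g⁻¹ := by group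
        _ = (g * u x * g⁻¹) * (g * x * g⁻¹) := by rw [hB]; group
        _ = _ := by rw [hg]
    have h2 := C.F.conju hx.memD g
    rw [hg] at h2
    rcases h2 with h2 | h2
    · rw [h2]; exact h1
    · have h3 : g * u x * g⁻¹ = (u z)⁻¹ := by rw [h2, inv_inv]
      rw [h3, C.h.u_inv] at h1
      obtain ⟨s, hs⟩ : ∃ s, s = g * y * g⁻¹ := ⟨_, rfl⟩
      rw [← hs] at h1 ⊢
      have hsz : s * z = z * s := by
        rw [hs, ← hg]
        calc g * y * g⁻¹ * (g * x * g⁻¹) = g * (y * x) * g⁻¹ := by group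
          _ = g * x * g⁻¹ * (g * y * g⁻¹) := by rw [hyx]; group
      have h4 : s * (u z * z) * s⁻¹ = s * u z * s⁻¹ * z := by
        calc s * (u z * z) * s⁻¹ = (s * u z * s⁻¹) * (s * z * s⁻¹) := by group
          _ = s * u z * s⁻¹ * z := by rw [hsz]; group
      rw [h4] at h1
      exact mul_right_cancel h1

theorem main [Finite G] [IsSimpleGroup G] (hG : ¬ IsMulCommutative G) (C : Ctx D Q u z)
    (h16 : Nat.card C.h.V = 16) (hC : Nat.card (Subgroup.centralizer ({z} : Set G)) = 7680) :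
    ∃ A s, Base.Dat (Q z) A z (u z) s := by
  have hfull : ∀ v, v ≠ 0 → v ∈ C.sys.Δ := full hG C h16
  have hQc : Nat.card (Q z) = 64 := by rw [C.h.card_eq, h16]
  -- every involution of `Q z` is in `D`
  have hD : ∀ x, ∀ hx : x ∈ Q z, x * x = 1 → x ≠ 1 → x ≠ z → C.Lift (C.h.pr ⟨x, hx⟩) x := by
    intro x hx hxx h1 hxz
    obtain ⟨y, hy⟩ := hfull _ (pr_ne_zero C.h hx hxx h1 hxz)
    have hxD : x ∈ D := by
      rcases C.h.eq_or_of_pr_eq (x := ⟨x, hx⟩) (y := ⟨y, hy.mem⟩) hxx hy.sq hy.pr.symm with h2 | h2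
      · have : x = y := h2
        rw [this]; exact hy.memD
      · have : x = y * z := h2
        rw [this]
        exact C.F.mul_mem hy.memD C.hz hy.ne hy.commz
    exact ⟨hx, hxD, hxz, rfl⟩
  -- the pair `(z, s)` of type B and `x`
  obtain ⟨x, s, hxD, hxQ, hxz, hsx, hss, hsz, hsu⟩ := exists_xs C h16.ge
  have hxx : x * x = 1 := (C.F.loc x hxD).z_sq
  have hx1 : x ≠ 1 := (C.F.loc x hxD).z_ne
  obtain ⟨v, hv⟩ : ∃ v, v = C.h.pr ⟨x, hxQ⟩ := ⟨_, rfl⟩
  have hx : C.Lift v x := hv ▸ hD x hxQ hxx hx1 hxz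
  have hv0 : v ≠ 0 := hx.ne_zero
  have hJx : C.sys.J v = C.Jx x := Ctx.J_eq hx
  -- the group `E`
  obtain ⟨E, hE⟩ : ∃ E : Subgroup G, E = Q z ⊓ Q x := ⟨_, rfl⟩
  have hEz : ∀ y ∈ E, y ∈ Q z := fun y hy => by rw [hE] at hy; exact hy.1
  have hEx : ∀ y ∈ E, y ∈ Q x := fun y hy => by rw [hE] at hy; exact hy.2
  have hEsq : ∀ y ∈ E, y * y = 1 := fun y hy => hx.J_sq (hEz y hy) (hEx y hy)
  have hzE : z ∈ E := by rw [hE]; exact ⟨C.h.z_mem, hx.mem'⟩
  have hxE : x ∈ E := by rw [hE]; exact ⟨hxQ, (C.F.loc x hxD).z_mem⟩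
  have hEc : Nat.card E = 8 := by
    rw [hE, hx.card_J, ← hJx, card_J_eq h16 hfull hv0]
  have hED : ∀ y ∈ E, y ≠ 1 → y ∈ D := by
    intro y hy h1
    by_cases hyz : y = z
    · rw [hyz]; exact C.hz
    · exact (hD y (hEz y hy) (hEsq y hy) h1 hyz).memD
  -- `E ≤ Q y` for `y ∈ E`, `y ≠ 1`
  have hEQ : ∀ y ∈ E, y ≠ 1 → ∀ w ∈ E, w ∈ Q y := by
    intro y hy h1 w hw
    by_cases hyz : y = z
    · rw [hyz]; exact hEz w hw
    have hy' := hD y (hEz y hy) (hEsq y hy) h1 hyz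
    have hmem : C.h.pr ⟨y, hEz y hy⟩ ∈ C.sys.J v := by
      rw [hJx]; exact ⟨⟨y, hEz y hy⟩, hEx y hy, rfl⟩
    have hJ := J_eq_of_mem h16 hfull hv0 hy'.ne_zero hmem
    have hJy : C.sys.J (C.h.pr ⟨y, hEz y hy⟩) = C.Jx y := Ctx.J_eq hy'
    have hw' : C.h.pr ⟨w, hEz w hw⟩ ∈ C.Jx y := by
      rw [← hJy, ← hJ, hJx]; exact ⟨⟨w, hEz w hw⟩, hEx w hw, rfl⟩
    obtain ⟨t, ht, htw⟩ := hw'
    have htt : (t : G) * t = 1 := hy'.J_sq t.2 ht
    rcases C.h.eq_or_of_pr_eq (x := ⟨w, hEz w hw⟩) (y := t) (hEsq w hw) htt htw.symm with h2 | h2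
    · have h3 : w = t := h2
      rw [h3]; exact ht
    · have h3 : w = t * z := h2
      rw [h3]; exact mul_mem ht hy'.mem'
  -- commuting with `E`
  have hcE : ∀ q : Q z, (∀ w ∈ E, (q : G) * w = w * q) ↔ C.h.pr q ∈ C.sys.J v := by
    intro q
    constructor
    · intro hq
      apply orth_eq C.sys (C.sys.J v) (fun a ha b hb => C.sys.J_iso v (hfull v hv0) a ha b hb)
      · rw [h16, card_J_eq h16 hfull hv0]; norm_num
      · intro w hw
        rw [hJx] at hw
        obtain ⟨t, ht, rfl⟩ := hw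
        have htE : (t : G) ∈ E := by rw [hE]; exact ⟨t.2, ht⟩
        exact (C.h.b_pr q t).2 (hq t htE)
    · intro hq w hw
      have hw' : C.h.pr ⟨w, hEz w hw⟩ ∈ C.sys.J v := by
        rw [hJx]; exact ⟨⟨w, hEz w hw⟩, hEx w hw, rfl⟩
      exact (C.h.b_pr q ⟨w, hEz w hw⟩).1 (C.sys.J_iso v (hfull v hv0) _ hq _ hw')
  -- the centralizer of `E`
  obtain ⟨N, hN⟩ : ∃ N : Subgroup G, N = Subgroup.centralizer (E : Set G) := ⟨_, rfl⟩
  have hNm : ∀ g, g ∈ N ↔ ∀ w ∈ E, g * w = w * g := by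
    intro g
    rw [hN, Subgroup.mem_centralizer_iff]
    exact ⟨fun h w hw => (h w hw).symm, fun h w hw => (h w hw).symm⟩
  have hNQ : N ⊓ Q z = pre C.h (C.sys.J v) := by
    ext g
    rw [mem_pre, Subgroup.mem_inf, hNm]
    constructor
    · rintro ⟨h1, h2⟩
      exact ⟨h2, (hcE ⟨g, h2⟩).1 h1⟩
    · rintro ⟨h1, h2⟩
      exact ⟨(hcE ⟨g, h1⟩).2 h2, h1⟩
  have hNc : Nat.card N ≤ 64 := by
    have : Finite (C.h.V ≃ₗ[ZMod 2] C.h.V) :=
      Finite.of_injective (fun h : C.h.V ≃ₗ[ZMod 2] C.h.V => (h : C.h.V → C.h.V)) DFunLike.coe_injective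
    have hNle : N ≤ Subgroup.centralizer ({z} : Set G) := by
      intro g hg
      rw [Subgroup.mem_centralizer_singleton_iff]
      exact (hNm g).1 hg z hzE
    let L : Subgroup (Subgroup.centralizer ({z} : Set G)) := N.subgroupOf (Subgroup.centralizer ({z} : Set G))
    let f : L →* (C.h.V ≃ₗ[ZMod 2] C.h.V) := C.h.act.comp L.subtype
    have h1 := card_ker_range f
    have h2 : Nat.card f.range ≤ 4 := by
      refine le_trans ?_ (card_ptStab (S := C.sys) h16 hfull hv0)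
      apply Nat.card_le_card_of_injective (fun r : f.range => (⟨r.1, ?_⟩ : C.sys.ptStab (C.sys.J v : Set C.h.V)))
      · intro a b hab
        exact Subtype.ext (congrArg (fun t => t.1) hab)
      · obtain ⟨r, g, rfl⟩ := r
        refine ⟨⟨g.1, rfl⟩, ?_⟩
        intro w hw
        rw [hJx] at hw
        obtain ⟨t, ht, rfl⟩ := hw
        have htE : (t : G) ∈ E := by rw [hE]; exact ⟨t.2, ht⟩
        have hg : ((g : Subgroup.centralizer ({z} : Set G)) : G) ∈ N := g.2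
        apply C.h.act_pr_coe
        show ((g : Subgroup.centralizer ({z} : Set G)) : G) * t * ((g : Subgroup.centralizer ({z} : Set G)) : G)⁻¹ = t
        rw [(hNm _).1 hg _ htE]; group
    have h3 : Nat.card L = Nat.card N := by
      apply Nat.card_congr
      exact ⟨fun w => ⟨w.1.1, w.2⟩, fun w => ⟨⟨w.1, hNle w.2⟩, w.2⟩, fun _ => rfl, fun _ => rfl⟩
    have h4 : Nat.card f.ker = 16 := by
      have hker : ∀ q : L, q ∈ f.ker ↔ (q.1.1 : G) ∈ Q z := by
        intro q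
        rw [MonoidHom.mem_ker]
        exact ⟨fun h => C.h.mem_of_act _ h, fun h => C.h.act_mem _ h⟩
      have h5 : Nat.card f.ker = Nat.card (N ⊓ Q z : Subgroup G) := by
        apply Nat.card_congr
        exact ⟨fun w => ⟨w.1.1.1, w.1.2, (hker w.1).1 w.2⟩,
          fun w => ⟨⟨⟨w.1, hNle w.2.1⟩, w.2.1⟩, (hker _).2 w.2.2⟩, fun _ => rfl, fun _ => rfl⟩
      rw [h5, hNQ, card_pre, card_J_eq h16 hfull hv0]
    rw [← h3, h1, h4]
    omega
  -- the group `A`
  obtain ⟨A, hA⟩ : ∃ A : Subgroup G, A = Subgroup.closure {g | ∃ y ∈ E, y ≠ 1 ∧ g = u y} := ⟨_, rfl⟩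
  have huA : ∀ y ∈ E, y ≠ 1 → u y ∈ A := by
    intro y hy h1
    rw [hA]
    exact Subgroup.subset_closure ⟨y, hy, h1, rfl⟩
  have huu : ∀ y ∈ E, y ≠ 1 → ∀ w ∈ E, w ≠ 1 → u y * u w = u w * u y := by
    intro y hy h1 w hw h2
    by_cases hyw : w = y
    · rw [hyw]
    · exact typeA_of_mem C.F (hED y hy h1) (hED w hw h2) hyw (hEQ y hy h1 w hw)
  have hAcomm : ∀ a ∈ A, ∀ b ∈ A, a * b = b * a := by
    have h1 : A ≤ Subgroup.centralizer {g | ∃ y ∈ E, y ≠ 1 ∧ g = u y} := by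
      rw [hA, Subgroup.closure_le]
      rintro _ ⟨y, hy, hy1, rfl⟩
      rw [SetLike.mem_coe, Subgroup.mem_centralizer_iff]
      rintro _ ⟨w, hw, hw1, rfl⟩
      exact huu w hw hw1 y hy hy1
    have h2 : A ≤ Subgroup.centralizer (A : Set G) := by
      rw [hA, Subgroup.closure_le]
      rintro _ ⟨y, hy, hy1, rfl⟩
      rw [SetLike.mem_coe, Subgroup.mem_centralizer_iff]
      intro a ha
      rw [← hA] at ha
      have := Subgroup.mem_centralizer_iff.1 (h1 ha) (u y) ⟨y, hy, hy1, rfl⟩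
      exact this.symm
    intro a ha b hb
    exact (Subgroup.mem_centralizer_iff.1 (h2 ha) b hb).symm
  have hAN : A ≤ N := by
    rw [hA, Subgroup.closure_le]
    rintro _ ⟨y, hy, hy1, rfl⟩
    rw [SetLike.mem_coe, hNm]
    intro w hw
    exact ((C.F.loc y (hED y hy hy1)).comm_u w (hEQ y hy hy1 w hw)).symm
  have hEA : ∀ y ∈ E, y ∈ A := by
    intro y hy
    by_cases h1 : y = 1
    · rw [h1]; exact one_mem _
    · have h2 := (C.F.loc y (hED y hy h1)).u_sq
      rw [← h2]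
      exact mul_mem (huA y hy h1) (huA y hy h1)
  have hAc : 64 ≤ Nat.card A := by
    let sq : A →* G :=
      { toFun := fun a => (a : G) * a
        map_one' := by show (1 : G) * 1 = 1; rw [one_mul]
        map_mul' := by
          intro a b
          show (a : G) * b * (a * b) = a * a * (b * b)
          have h1 := hAcomm b b.2 a a.2
          calc (a : G) * b * (a * b) = a * (b * a) * b := by group
            _ = a * (a * b) * b := by rw [h1]
            _ = a * a * (b * b) := by group }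
    have h1 := card_ker_range sq
    have h2 : Nat.card E ≤ Nat.card sq.range := by
      apply Nat.card_le_card_of_injective (fun y : E => (⟨y.1, ?_⟩ : sq.range))
      · intro a b hab
        exact Subtype.ext (congrArg (fun t => t.1) hab)
      · by_cases h1 : (y : G) = 1
        · rw [h1]; exact one_mem _
        · exact ⟨⟨u y, huA y y.2 h1⟩, (C.F.loc y (hED y y.2 h1)).u_sq⟩
    have h3 : Nat.card E ≤ Nat.card sq.ker := by
      apply Nat.card_le_card_of_injective (fun y : E => (⟨⟨y.1, hEA y.1 y.2⟩, ?_⟩ : sq.ker))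
      · intro a b hab
        exact Subtype.ext (congrArg (fun t => t.1.1) hab)
      · exact hEsq y y.2
    rw [hEc] at h2 h3
    rw [h1]
    exact Nat.mul_le_mul h3 h2
  have hAeq : A = N := Subgroup.eq_of_le_of_card_ge hAN (hNc.trans hAc)
  have hAcard : Nat.card A = 64 := le_antisymm (hAeq ▸ hNc) hAc
  -- the lines
  refine ⟨A, s, ⟨sw_of C.h, hQc, hC, ⟨{B | ∃ w, w ≠ 0 ∧ B = pre C.h (C.sys.J w)}, ?_, ?_, ?_, ?_, ?_⟩, hAcomm, ?_,
    hAcard, hss, hsu, ?_⟩⟩
  · exact ⟨v, hv0, by rw [hAeq, hNQ]⟩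
  · rintro B ⟨w, hw, rfl⟩
    refine ⟨?_, ?_, ?_, ?_⟩
    · intro y hy
      exact (mem_pre.1 hy).1
    · rw [mem_pre]
      refine ⟨C.h.u_mem, ?_⟩
      have : C.h.pr ⟨u z, C.h.u_mem⟩ = 0 := C.h.pr_eq_zero.2 (Or.inr (Or.inr (Or.inl rfl)))
      rw [this]; exact zero_mem _
    · rw [card_pre, card_J_eq h16 hfull hw]
    · intro a ha b hb
      obtain ⟨ha1, ha2⟩ := mem_pre.1 ha
      obtain ⟨hb1, hb2⟩ := mem_pre.1 hb
      exact (C.h.b_pr ⟨a, ha1⟩ ⟨b, hb1⟩).1 (C.sys.J_iso w (hfull w hw) _ ha2 _ hb2)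
  · rintro B ⟨w, hw, rfl⟩ B' ⟨w', hw', rfl⟩ y hy hy' h1 h2 h3 h4
    obtain ⟨hy1, hy2⟩ := mem_pre.1 hy
    obtain ⟨hy1', hy2'⟩ := mem_pre.1 hy'
    have h0 : C.h.pr ⟨y, hy1⟩ ≠ 0 := by
      rw [Ne, C.h.pr_eq_zero]
      rintro (h5 | h5 | h5 | h5)
      · exact h1 h5
      · exact h2 h5
      · exact h3 h5
      · exact h4 h5
    rw [J_eq_of_mem h16 hfull hw h0 hy2, J_eq_of_mem h16 hfull hw' h0 hy2']
  · intro y hy
    by_cases h0 : C.h.pr ⟨y, hy⟩ = 0
    · refine ⟨_, ⟨v, hv0, rfl⟩, ?_⟩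
      rw [mem_pre]
      exact ⟨hy, by rw [h0]; exact zero_mem _⟩
    · refine ⟨_, ⟨_, h0, rfl⟩, ?_⟩
      rw [mem_pre]
      exact ⟨hy, C.sys.J_mem _ (hfull _ h0)⟩
  · rintro g hg B ⟨w, hw, rfl⟩
    have hgH : actG C.h g ∈ C.sys.H := mem_H C hg
    have hgw : actG C.h g w ≠ 0 := fun h0 => hw ((actG C.h g).injective (h0.trans (map_zero _).symm))
    refine ⟨_, ⟨actG C.h g w, hgw, rfl⟩, ?_⟩
    intro y hy
    obtain ⟨hy1, hy2⟩ := mem_pre.1 hy
    rw [mem_pre]
    refine ⟨C.h.conj_mem g hg y hy1, ?_⟩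
    have h1 := actG_pr C.h hg ⟨y, hy1⟩ ⟨g * y * g⁻¹, C.h.conj_mem g hg y hy1⟩ rfl
    rw [← h1]
    exact (J_map (S := C.sys) hfull hgH hw).2 hy2
  · -- exponent
    intro a ha
    rw [hA] at ha
    have hmul : ∀ a ∈ A, ∀ b ∈ A, a * a * (a * a) = 1 → b * b * (b * b) = 1 →
        a * b * (a * b) * (a * b * (a * b)) = 1 := by
      intro a ha b hb h1 h2
      have hc : Commute a b := hAcomm a ha b hb
      have e1 : a * b * (a * b) * (a * b * (a * b)) = (a * b) ^ 4 := by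
        simp only [pow_succ, pow_zero, one_mul, mul_assoc]
      have e2 : a ^ 4 = a * a * (a * a) := by simp only [pow_succ, pow_zero, one_mul, mul_assoc]
      have e3 : b ^ 4 = b * b * (b * b) := by simp only [pow_succ, pow_zero, one_mul, mul_assoc]
      rw [e1, hc.mul_pow, e2, e3, h1, h2, one_mul]
    induction ha using Subgroup.closure_induction with
    | mem g hg =>
      obtain ⟨y, hy, hy1, rfl⟩ := hg
      rw [(C.F.loc y (hED y hy hy1)).u_sq, hEsq y hy]
    | one => simp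
    | mul a b ha hb h1 h2 =>
      rw [← hA] at ha hb
      exact hmul a ha b hb h1 h2
    | inv a ha h1 =>
      have : a⁻¹ * a⁻¹ * (a⁻¹ * a⁻¹) = (a * a * (a * a))⁻¹ := by group
      rw [this, h1, inv_one]
  · -- `s` normalises `A`
    intro a ha
    rw [hAeq, hNm] at ha ⊢
    intro w hw
    have hsi : s⁻¹ = s := inv_eq_of_mul_eq_one_left hss
    have hswE : s * w * s⁻¹ ∈ E := by
      rcases (C.F.loc x hxD).comm s hsx w (hEx w hw) with h1 | h1
      · have e : s * w * s⁻¹ = w := by rw [h1]; group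
        rw [e]; exact hw
      · have e : s * w * s⁻¹ = w * x := by
          have h2 : s * x = x * s := (C.F.loc x hxD).comm_z s hsx
          have h3 : x * s⁻¹ = s⁻¹ * x := by rw [hsi]; exact h2.symm
          rw [h1]
          calc w * s * x * s⁻¹ = w * s * (x * s⁻¹) := by group
            _ = w * x := by rw [h3]; group
        rw [e]; exact mul_mem hw hxE
    have h4 := ha _ hswE
    have h5 : s⁻¹ * (s * w * s⁻¹) * s = w := by group
    rw [hsi] at h4 ⊢
    have h6 : s * (s * w * s) * s = w := by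
      calc s * (s * w * s) * s = (s * s) * w * (s * s) := by group
        _ = w := by rw [hss]; group
    calc s * a * s * w = s * (a * (s * w * s)) * (s * s)⁻¹ * s := by group
      _ = s * (a * (s * w * s)) * s := by rw [hss]; group
      _ = s * (s * w * s * a) * s := by rw [h4]
      _ = (s * s) * w * (s * a * s) := by group
      _ = w * (s * a * s) := by rw [hss, one_mul]

/-- **[U-G]** the data of the centralizer of an involution in a group with `HSData`. -/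
theorem datG {G : Type*} [Group G] [Finite G] [IsSimpleGroup G] (hG : ¬ IsMulCommutative G)
    {Q : Subgroup G} {z u : G} (h : HSData Q z u) : ∃ A s, Base.Dat Q A z u s := by
  obtain ⟨Qf, uf, C, rfl, rfl⟩ := SymplCtx.exists_ctx hG h.symp
  have h16 : Nat.card C.h.V = 16 := by
    have h1 := C.h.card_eq
    rw [h.card_Q] at h1
    omega
  exact main hG C h16 h.card_C

end Cfsg.Agent.HSU.DatG
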