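import Cfsg.Agent.HSU.Base
import Cfsg.Agent.HSU.Coord

/-!
# The spread of `Q / ⟨u⟩` and adapted frames
-/

set_option autoImplicit false

namespace Cfsg.Agent.HSU.DatLin

open Cfsg.Agent.HSU.Base Cfsg.Agent.HSU.Lin Cfsg.Agent.HSU.Model Cfsg.Agent.HSU.Coord

variable {G : Type*} [Group G] {Q A : Subgroup G} {z u s : G}

/-- the set of lines -/
noncomputable def LL (h : Dat Q A z u s) : Set (Subgroup G) := h.lines.choose

theorem AQ_mem (h : Dat Q A z u s) : A ⊓ Q ∈ LL h := h.lines.choose_spec.1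

theorem LL_spec (h : Dat Q A z u s) : ∀ B ∈ LL h, B ≤ Q ∧ u ∈ B ∧ Nat.card B = 16 ∧
    ∀ x ∈ B, ∀ y ∈ B, x * y = y * x := h.lines.choose_spec.2.1

theorem LL_eq (h : Dat Q A z u s) : ∀ B ∈ LL h, ∀ B' ∈ LL h, ∀ x ∈ B, x ∈ B' → x ≠ 1 → x ≠ z → x ≠ u →
    x ≠ u * z → B = B' := h.lines.choose_spec.2.2.1

theorem LL_cover (h : Dat Q A z u s) : ∀ x ∈ Q, ∃ B ∈ LL h, x ∈ B := h.lines.choose_spec.2.2.2.1

theorem LL_conj (h : Dat Q A z u s) : ∀ g, g * z = z * g → ∀ B ∈ LL h, ∃ B' ∈ LL h, ∀ x ∈ B,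
    g * x * g⁻¹ ∈ B' := h.lines.choose_spec.2.2.2.2

theorem u_mem_LL (h : Dat Q A z u s) {B : Subgroup G} (hB : B ∈ LL h) : u ∈ B := (LL_spec h B hB).2.1

theorem z_mem_LL (h : Dat Q A z u s) {B : Subgroup G} (hB : B ∈ LL h) : z ∈ B := by
  rw [← h.sw.u_sq]; exact mul_mem (u_mem_LL h hB) (u_mem_LL h hB)

theorem finQ (h : Dat Q A z u s) : Finite Q := Nat.finite_of_card_ne_zero (by rw [h.card_Q]; norm_num)

theorem finC (h : Dat Q A z u s) : Finite (Subgroup.centralizer ({z} : Set G)) :=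
  Nat.finite_of_card_ne_zero (by rw [h.card_C]; norm_num)

theorem finA (h : Dat Q A z u s) : Finite A := Nat.finite_of_card_ne_zero (by rw [h.card_A]; norm_num)

/-- membership in the image of a subgroup -/
def Im (h : Dat Q A z u s) (B : Subgroup G) (p : h.sw.V) : Prop := ∃ x : Q, (x : G) ∈ B ∧ h.sw.pr x = p

/-- on a common line -/
def J (h : Dat Q A z u s) (p q : h.sw.V) : Prop := ∃ B ∈ LL h, Im h B p ∧ Im h B q

/-- the form -/
noncomputable def ω (h : Dat Q A z u s) (p q : h.sw.V) : ZMod 2 := h.sw.b p q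

/-- membership only depends on the image -/
theorem mem_of_pr (h : Dat Q A z u s) {B : Subgroup G} (hB : B ∈ LL h) {x : Q} (hx : Im h B (h.sw.pr x)) :
    (x : G) ∈ B := by
  obtain ⟨y, hy, hxy⟩ := hx
  have hu := u_mem_LL h hB
  have hz := z_mem_LL h hB
  rcases h.sw.pr_eq_pr.1 hxy.symm with h1 | h1 | h1 | h1 <;> rw [h1]
  · exact hy
  · exact mul_mem hy hz
  · exact mul_mem hy hu
  · exact mul_mem hy (mul_mem hu hz)

theorem im_zero (h : Dat Q A z u s) (B : Subgroup G) : Im h B 0 := ⟨1, one_mem _, h.sw.pr_one⟩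

theorem im_add (h : Dat Q A z u s) {B : Subgroup G} {p q : h.sw.V} (hp : Im h B p) (hq : Im h B q) :
    Im h B (p + q) := by
  obtain ⟨x, hx, rfl⟩ := hp
  obtain ⟨y, hy, rfl⟩ := hq
  exact ⟨x * y, mul_mem hx hy, h.sw.pr_mul x y⟩

theorem im_unique (h : Dat Q A z u s) {B B' : Subgroup G} (hB : B ∈ LL h) (hB' : B' ∈ LL h) {p : h.sw.V}
    (hp : p ≠ 0) (h1 : Im h B p) (h2 : Im h B' p) : B = B' := by
  obtain ⟨x, hx, rfl⟩ := h1
  have hx' := mem_of_pr h hB' h2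
  have hne : ¬ ((x : G) = 1 ∨ (x : G) = z ∨ (x : G) = u ∨ (x : G) = u * z) :=
    fun h' => hp (h.sw.pr_eq_zero.2 h')
  push Not at hne
  exact LL_eq h B hB B' hB' x hx hx' hne.1 hne.2.1 hne.2.2.1 hne.2.2.2

theorem card_im (h : Dat Q A z u s) {B : Subgroup G} (hB : B ∈ LL h) : Nat.card {q // Im h B q} = 4 := by
  have := finQ h
  have hle := (LL_spec h B hB).1
  have hfin : Finite B := Nat.finite_of_card_ne_zero (by rw [(LL_spec h B hB).2.2.1]; norm_num)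
  let π : B →* Multiplicative h.sw.V :=
    { toFun := fun x => Multiplicative.ofAdd (h.sw.pr ⟨x, hle x.2⟩)
      map_one' := congrArg Multiplicative.ofAdd h.sw.pr_one
      map_mul' := fun x y => congrArg Multiplicative.ofAdd (h.sw.pr_mul ⟨x, hle x.2⟩ ⟨y, hle y.2⟩) }
  have hker : Nat.card π.ker = 4 := by
    rw [← h.sw.card_center]
    apply Nat.card_congr
    refine ⟨fun x => ⟨⟨x.1.1, hle x.1.2⟩, ?_⟩, fun x => ⟨⟨x.1.1, ?_⟩, ?_⟩, fun _ => rfl, fun _ => rfl⟩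
    · rw [h.sw.mem_center]
      have : h.sw.pr ⟨x.1.1, hle x.1.2⟩ = 0 := x.2
      exact h.sw.pr_eq_zero.1 this
    · apply mem_of_pr h hB
      have : h.sw.pr x.1 = 0 := h.sw.pr_eq_zero.2 (h.sw.mem_center.1 x.2)
      rw [this]
      exact im_zero h B
    · show h.sw.pr ⟨x.1.1, _⟩ = 0
      exact h.sw.pr_eq_zero.2 (h.sw.mem_center.1 x.2)
  have hrange : Nat.card π.range = Nat.card {q // Im h B q} := by
    apply Nat.card_congr
    refine ⟨fun x => ⟨Multiplicative.toAdd x.1, ?_⟩, fun x => ⟨Multiplicative.ofAdd x.1, ?_⟩, fun _ => rfl,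
      fun _ => rfl⟩
    · obtain ⟨y, hy⟩ := x.2
      exact ⟨⟨y, hle y.2⟩, y.2, congrArg Multiplicative.toAdd hy⟩
    · obtain ⟨y, hy, hxy⟩ := x.2
      exact ⟨⟨y, hy⟩, congrArg Multiplicative.ofAdd hxy⟩
  have h1 : Nat.card B = Nat.card π.ker * Nat.card π.range := by
    rw [← Subgroup.card_mul_index π.ker, Subgroup.index_ker]
  rw [(LL_spec h B hB).2.2.1, hker, hrange] at h1
  omega

theorem spr (h : Dat Q A z u s) : Spr (ω h) (J h) where
  two := h.sw.add_self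
  card := by
    have h1 := h.sw.card_eq
    rw [h.card_Q] at h1
    omega
  add_l a b c := by
    show h.sw.b (a + b) c = _
    rw [map_add]; rfl
  comm := h.sw.b_comm
  alt := h.sw.b_self
  nd a ha := h.sw.b_nondeg ha
  refl p := by
    obtain ⟨x, rfl⟩ := h.sw.pr_surjective p
    obtain ⟨B, hB, hx⟩ := LL_cover h x x.2
    exact ⟨B, hB, ⟨x, hx, rfl⟩, ⟨x, hx, rfl⟩⟩
  symm p q := fun ⟨B, hB, h1, h2⟩ => ⟨B, hB, h2, h1⟩
  tr p q r hq := fun ⟨B, hB, h1, h2⟩ ⟨B', hB', h3, h4⟩ => by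
    obtain rfl := im_unique h hB hB' hq h2 h3
    exact ⟨B, hB, h1, h4⟩
  add p q r := fun ⟨B, hB, h1, h2⟩ ⟨B', hB', h3, h4⟩ => by
    by_cases hp : p = 0
    · subst hp
      obtain ⟨x, hx⟩ := h.sw.pr_surjective (q + r)
      obtain ⟨B, hB, hxB⟩ := LL_cover h x x.2
      exact ⟨B, hB, im_zero h B, ⟨x, hxB, hx⟩⟩
    · obtain rfl := im_unique h hB hB' hp h1 h3
      exact ⟨B, hB, h1, im_add h h2 h4⟩
  zero p := by
    obtain ⟨x, rfl⟩ := h.sw.pr_surjective p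
    obtain ⟨B, hB, hx⟩ := LL_cover h x x.2
    exact ⟨B, hB, ⟨x, hx, rfl⟩, im_zero h B⟩
  iso p q := fun ⟨B, hB, ⟨x, hx, hp⟩, ⟨y, hy, hq⟩⟩ => by
    subst hp; subst hq
    exact (h.sw.b_pr x y).2 ((LL_spec h B hB).2.2.2 x hx y hy)
  four p hp := by
    obtain ⟨x, rfl⟩ := h.sw.pr_surjective p
    obtain ⟨B, hB, hx⟩ := LL_cover h x x.2
    rw [← card_im h hB]
    apply Nat.card_congr
    refine Equiv.subtypeEquivRight fun q => ⟨?_, fun h1 => ⟨B, hB, ⟨x, hx, rfl⟩, h1⟩⟩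
    rintro ⟨B', hB', h1, h2⟩
    obtain rfl := im_unique h hB hB' hp ⟨x, hx, rfl⟩ h1
    exact h2

theorem aut (h : Dat Q A z u s) (g : Subgroup.centralizer ({z} : Set G)) :
    Lin.Aut (ω h) (J h) (h.sw.act g) where
  add := map_add _
  om := h.sw.b_act g
  J a b := fun ⟨B, hB, ⟨x, hx, hp⟩, ⟨y, hy, hq⟩⟩ => by
    subst hp; subst hq
    obtain ⟨B', hB', hBB⟩ := LL_conj h g (Subgroup.mem_centralizer_singleton_iff.1 g.2) B hB
    exact ⟨B', hB', ⟨h.sw.conjQ g x, hBB x hx, (h.sw.act_pr g x).symm⟩,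
      ⟨h.sw.conjQ g y, hBB y hy, (h.sw.act_pr g y).symm⟩⟩

/-- the kernel -/
theorem mem_Q_of_fix (h : Dat Q A z u s) {g : Subgroup.centralizer ({z} : Set G)} {p q : h.sw.V}
    (h1 : ω h p q = 1) (hp : h.sw.act g p = p) (hq : h.sw.act g q = q) : (g : G) ∈ Q := by
  apply h.sw.mem_of_act
  ext v
  exact (spr h).fix_all (aut h g) h1 hp hq v

/-! ### `A` and `s` -/

theorem u_mem_A (h : Dat Q A z u s) : u ∈ A := (u_mem_LL h (AQ_mem h)).1

theorem z_mem_A (h : Dat Q A z u s) : z ∈ A := (z_mem_LL h (AQ_mem h)).1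

theorem A_le (h : Dat Q A z u s) : A ≤ Subgroup.centralizer ({z} : Set G) :=
  fun a ha => Subgroup.mem_centralizer_singleton_iff.2 (h.comm_A a ha z (z_mem_A h))

theorem s_mem (h : Dat Q A z u s) : s ∈ Subgroup.centralizer ({z} : Set G) := by
  rw [Subgroup.mem_centralizer_singleton_iff]
  have h1 : s * z * s⁻¹ = z := by
    calc s * z * s⁻¹ = (s * u * s⁻¹) * (s * u * s⁻¹) := by rw [← h.sw.u_sq]; group
      _ = (u * z) * (u * z) := by rw [h.s_u]
      _ = u * (z * u) * z := by group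
      _ = (u * u) * (z * z) := by rw [← h.sw.uz]; group
      _ = z := by rw [h.sw.u_sq, h.sw.z_sq, mul_one]
  calc s * z = s * z * s⁻¹ * s := by group
    _ = z * s := by rw [h1]

/-- a noncentral element of `A ⊓ Q` -/
theorem exists_p0 (h : Dat Q A z u s) : ∃ x : Q, (x : G) ∈ A ∧ h.sw.pr x ≠ 0 := by
  by_contra hcon
  push Not at hcon
  have h1 := card_im h (AQ_mem h)
  have h2 : Subsingleton {q // Im h (A ⊓ Q) q} := by
    constructor
    rintro ⟨a, x, hx, rfl⟩ ⟨b, y, hy, rfl⟩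
    apply Subtype.ext
    show h.sw.pr x = h.sw.pr y
    rw [hcon x hx.1, hcon y hy.1]
  have h3 := Finite.card_le_one_iff_subsingleton.2 h2
  omega

theorem J_iff (h : Dat Q A z u s) {x : Q} (hx : (x : G) ∈ A) (hne : h.sw.pr x ≠ 0) (q : h.sw.V) :
    J h (h.sw.pr x) q ↔ Im h (A ⊓ Q) q := by
  constructor
  · rintro ⟨B, hB, h1, h2⟩
    obtain rfl := im_unique h hB (AQ_mem h) hne h1 ⟨x, ⟨hx, x.2⟩, rfl⟩
    exact h2
  · intro h1
    exact ⟨_, AQ_mem h, ⟨x, ⟨hx, x.2⟩, rfl⟩, h1⟩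

/-- elements of `A` act trivially on the line of `A` -/
theorem act_A (h : Dat Q A z u s) {a : G} (ha : a ∈ A) {x : Q} (hx : (x : G) ∈ A) :
    h.sw.act ⟨a, A_le h ha⟩ (h.sw.pr x) = h.sw.pr x := by
  rw [h.sw.act_pr]
  congr 1
  apply Subtype.ext
  show a * x * a⁻¹ = x
  rw [h.comm_A a ha x hx]; group

/-- An element of `C(z)` acting trivially on the line of `A` lies in `A Q`. -/
theorem mem_AQ (h : Dat Q A z u s) (c : Subgroup.centralizer ({z} : Set G))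
    (hc : ∀ x : Q, (x : G) ∈ A → h.sw.act c (h.sw.pr x) = h.sw.pr x) :
    ∃ a ∈ A, a⁻¹ * (c : G) ∈ Q := by
  classical
  have S := spr h
  have := finA h
  have := S.finite
  obtain ⟨x, hx, hne⟩ := exists_p0 h
  obtain ⟨q, hq⟩ := S.exists_om hne
  -- `g q + q` is on the line for `g` fixing the line
  have key : ∀ g : Subgroup.centralizer ({z} : Set G),
      (∀ x : Q, (x : G) ∈ A → h.sw.act g (h.sw.pr x) = h.sw.pr x) → J h (h.sw.pr x) (h.sw.act g q + q) := by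
    intro g hg
    apply S.perp hne
    intro r hr
    rw [J_iff h hx hne] at hr
    obtain ⟨y, hy, rfl⟩ := hr
    rw [S.add_r]
    have h1 : ω h (h.sw.pr y) (h.sw.act g q) = ω h (h.sw.pr y) q := by
      conv_lhs => rw [← hg y hy.1]
      exact h.sw.b_act g _ _
    rw [h1]
    rcases z2 (ω h (h.sw.pr y) q) with h | h <;> rw [h] <;> decide
  have hA : ∀ a : A, ∀ x : Q, (x : G) ∈ A → h.sw.act ⟨a, A_le h a.2⟩ (h.sw.pr x) = h.sw.pr x :=
    fun a x hx => act_A h a.2 hx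
  let f : A → {r // J h (h.sw.pr x) r} := fun a => ⟨h.sw.act ⟨a, A_le h a.2⟩ q + q, key _ (hA a)⟩
  -- difference in `Q`
  have hdiff : ∀ g g' : Subgroup.centralizer ({z} : Set G), h.sw.act g (h.sw.pr x) = h.sw.pr x →
      h.sw.act g' (h.sw.pr x) = h.sw.pr x → h.sw.act g q + q = h.sw.act g' q + q → (g : G)⁻¹ * g' ∈ Q := by
    intro g g' h1 h2 h3
    have h4 : h.sw.act (g⁻¹ * g') q = q := by
      rw [map_mul, LinearEquiv.mul_apply, ← add_right_cancel h3, ← LinearEquiv.mul_apply, ← map_mul,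
        inv_mul_cancel, map_one]; rfl
    have h5 : h.sw.act (g⁻¹ * g') (h.sw.pr x) = h.sw.pr x := by
      rw [map_mul, LinearEquiv.mul_apply, h2]
      conv_lhs => rw [← h1]
      rw [← LinearEquiv.mul_apply, ← map_mul, inv_mul_cancel, map_one]; rfl
    exact mem_Q_of_fix h hq h5 h4
  -- `f` is surjective
  have hsurj : Function.Surjective f := by
    let f' : A ⧸ (Q.subgroupOf A) → {r // J h (h.sw.pr x) r} := Quotient.lift f (by
      intro a b hab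
      have hab' : (a : G)⁻¹ * b ∈ Q := by
        have := QuotientGroup.leftRel_apply.1 hab
        exact this
      apply Subtype.ext
      show h.sw.act ⟨a, A_le h a.2⟩ q + q = h.sw.act ⟨b, A_le h b.2⟩ q + q
      congr 1
      have h1 : h.sw.act ((⟨a, A_le h a.2⟩ : Subgroup.centralizer ({z} : Set G))⁻¹ * ⟨b, A_le h b.2⟩) = 1 :=
        h.sw.act_mem _ hab'
      rw [map_mul, map_inv, inv_mul_eq_one] at h1
      rw [h1])
    have hinj : Function.Injective f' := by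
      rintro ⟨a⟩ ⟨b⟩ hab
      apply Quotient.sound
      show QuotientGroup.leftRel _ a b
      rw [QuotientGroup.leftRel_apply]
      have h3 : h.sw.act ⟨a, A_le h a.2⟩ q + q = h.sw.act ⟨b, A_le h b.2⟩ q + q := congrArg Subtype.val hab
      exact hdiff _ _ (hA a x hx) (hA b x hx) h3
    have hcard : Nat.card (A ⧸ (Q.subgroupOf A)) = Nat.card {r // J h (h.sw.pr x) r} := by
      rw [S.four _ hne]
      have h1 := Subgroup.card_eq_card_quotient_mul_card_subgroup (Q.subgroupOf A)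
      have h2 : Nat.card (Q.subgroupOf A) = Nat.card (A ⊓ Q : Subgroup G) := by
        apply Nat.card_congr
        exact ⟨fun x => ⟨x.1, x.1.2, x.2⟩, fun x => ⟨⟨x.1, x.2.1⟩, x.2.2⟩, fun _ => rfl, fun _ => rfl⟩
      rw [h2, (LL_spec h _ (AQ_mem h)).2.2.1, h.card_A] at h1
      omega
    have hb := ((Nat.bijective_iff_injective_and_card _).2 ⟨hinj, hcard⟩).2
    intro r
    obtain ⟨⟨a⟩, ha⟩ := hb r
    exact ⟨a, ha⟩
  obtain ⟨a, ha⟩ := hsurj ⟨h.sw.act c q + q, key c hc⟩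
  exact ⟨a, a.2, hdiff ⟨a, A_le h a.2⟩ c (hA a x hx) (hc x hx) (congrArg Subtype.val ha)⟩

/-- elements of `Q` centralising `A ⊓ Q` lie in `A` -/
theorem mem_A_of_comm (h : Dat Q A z u s) {x : G} (hx : x ∈ Q) (hc : ∀ y ∈ A ⊓ Q, x * y = y * x) : x ∈ A := by
  obtain ⟨x0, hx0, hne⟩ := exists_p0 h
  have h1 : J h (h.sw.pr x0) (h.sw.pr ⟨x, hx⟩) := by
    apply (spr h).perp hne
    intro r hr
    rw [J_iff h hx0 hne] at hr
    obtain ⟨y, hy, rfl⟩ := hr
    exact (h.sw.b_pr y ⟨x, hx⟩).2 (hc y hy).symm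
  rw [J_iff h hx0 hne] at h1
  exact (mem_of_pr h (AQ_mem h) h1).1

/-- elements of `C(z)` centralising `A ⊓ Q` lie in `A` -/
theorem mem_A_of_comm' (h : Dat Q A z u s) {c : G} (hcz : c * z = z * c)
    (hc : ∀ y ∈ A ⊓ Q, c * y = y * c) : c ∈ A := by
  obtain ⟨a, ha, hac⟩ := mem_AQ h ⟨c, Subgroup.mem_centralizer_singleton_iff.2 hcz⟩ (by
    intro x hx
    rw [h.sw.act_pr]
    congr 1
    apply Subtype.ext
    show c * x * c⁻¹ = x
    rw [hc x ⟨hx, x.2⟩]; group)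
  have h1 : a⁻¹ * c ∈ A := by
    apply mem_A_of_comm h hac
    intro y hy
    have h2 : a⁻¹ * y = y * a⁻¹ := h.comm_A _ (inv_mem ha) y hy.1
    rw [mul_assoc, hc y hy, ← mul_assoc, h2, mul_assoc]
  have := mul_mem ha h1
  rwa [mul_inv_cancel_left] at this

/-- `s` acts nontrivially on the line of `A` -/
theorem exists_ne (h : Dat Q A z u s) : ∃ x : Q, (x : G) ∈ A ∧
    h.sw.act ⟨s, s_mem h⟩ (h.sw.pr x) ≠ h.sw.pr x := by
  by_contra hcon
  push Not at hcon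
  obtain ⟨a, ha, hac⟩ := mem_AQ h ⟨s, s_mem h⟩ hcon
  have h1 : s * u * s⁻¹ = u := by
    have h2 := h.sw.comm_u _ hac
    have h3 := h.comm_A a ha u (u_mem_A h)
    have h4 : (a⁻¹ * s : G) * u = u * (a⁻¹ * s) := h2
    have h5 : s = a * (a⁻¹ * s) := by group
    calc s * u * s⁻¹ = a * ((a⁻¹ * s) * u) * s⁻¹ := by group
      _ = a * (u * (a⁻¹ * s)) * s⁻¹ := by rw [h4]
      _ = (a * u) * a⁻¹ := by group
      _ = u := by rw [h3]; group
  rw [h.s_u] at h1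
  exact h.sw.z_ne (mul_eq_left.1 h1)

theorem s_sq_act (h : Dat Q A z u s) (v : h.sw.V) :
    h.sw.act ⟨s, s_mem h⟩ (h.sw.act ⟨s, s_mem h⟩ v) = v := by
  rw [← LinearEquiv.mul_apply, ← map_mul]
  have : (⟨s, s_mem h⟩ * ⟨s, s_mem h⟩ : Subgroup.centralizer ({z} : Set G)) = 1 := Subtype.ext h.s_sq
  rw [this, map_one]; rfl

/-- Adapted frames. -/
abbrev Fr (h : Dat Q A z u s) (v v' w w' : h.sw.V) : Prop :=
  Frame (ω h) (J h) (h.sw.act ⟨s, s_mem h⟩) v v' w w'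

theorem exists_frame (h : Dat Q A z u s) : ∃ v v' w w', Fr h v v' w w' ∧ ∀ q, J h v q ↔ Im h (A ⊓ Q) q := by
  obtain ⟨x, hx, hne⟩ := exists_ne h
  have hx0 : h.sw.pr x ≠ 0 := by
    intro h0
    rw [h0, map_zero] at hne
    exact hne rfl
  have hJ : J h (h.sw.pr x) (h.sw.act ⟨s, s_mem h⟩ (h.sw.pr x)) := by
    rw [J_iff h hx hx0, h.sw.act_pr]
    exact ⟨_, ⟨h.s_A x hx, (h.sw.conjQ ⟨s, s_mem h⟩ x).2⟩, rfl⟩
  obtain ⟨v, w, w', F⟩ := Lin.exists_frame (spr h) (aut h ⟨s, s_mem h⟩) (s_sq_act h) hJ hne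
  refine ⟨v, _, w, w', F, fun q => ?_⟩
  rw [← J_iff h hx hx0]
  exact ⟨fun h1 => (spr h).tr _ _ _ F.v0 ((spr h).symm _ _ F.Jv) h1,
    fun h1 => (spr h).tr _ _ _ hx0 F.Jv h1⟩

end Cfsg.Agent.HSU.DatLin
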