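import Cfsg.Agent.HSU.DatLin

/-!
# Regularity of `C(z) / Q` on pairs of non-orthogonal vectors, parity
-/

set_option autoImplicit false

namespace Cfsg.Agent.HSU.DatReg

open Cfsg.Agent.HSU.Base Cfsg.Agent.HSU.Lin Cfsg.Agent.HSU.Model Cfsg.Agent.HSU.Coord Cfsg.Agent.HSU.DatLin

variable {G : Type*} [Group G] {Q A : Subgroup G} {z u s : G}

theorem card_range (h : Dat Q A z u s) : Nat.card h.sw.act.range = 120 := by
  have := finC h
  have h1 : Nat.card (Subgroup.centralizer ({z} : Set G)) = Nat.card h.sw.act.ker * Nat.card h.sw.act.range := by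
    rw [← Subgroup.card_mul_index h.sw.act.ker, Subgroup.index_ker]
  have h2 : Nat.card h.sw.act.ker = Nat.card Q := by
    apply Nat.card_congr
    exact ⟨fun w => ⟨w.1.1, h.sw.mem_of_act _ w.2⟩,
      fun w => ⟨⟨w.1, Subgroup.mem_centralizer_singleton_iff.2 (h.sw.comm_z _ w.2)⟩, h.sw.act_mem _ w.2⟩,
      fun _ => rfl, fun _ => rfl⟩
  rw [h.card_C, h2, h.card_Q] at h1
  omega

/-- two elements with the same action on two non-orthogonal vectors -/
theorem diff_mem (h : Dat Q A z u s) {g g' : Subgroup.centralizer ({z} : Set G)} {p q : h.sw.V}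
    (h1 : ω h p q = 1) (hp : h.sw.act g p = h.sw.act g' p) (hq : h.sw.act g q = h.sw.act g' q) :
    (g : G)⁻¹ * g' ∈ Q := by
  have key : ∀ r : h.sw.V, h.sw.act g r = h.sw.act g' r → h.sw.act (g⁻¹ * g') r = r := by
    intro r hr
    rw [map_mul, LinearEquiv.mul_apply, ← hr, ← LinearEquiv.mul_apply, ← map_mul, inv_mul_cancel, map_one]
    rfl
  exact mem_Q_of_fix h (g := g⁻¹ * g') h1 (key p hp) (key q hq)

theorem act_eq_of_diff (h : Dat Q A z u s) {g g' : Subgroup.centralizer ({z} : Set G)}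
    (hd : (g : G)⁻¹ * g' ∈ Q) : h.sw.act g = h.sw.act g' := by
  have h1 : h.sw.act (g⁻¹ * g') = 1 := h.sw.act_mem _ hd
  rwa [map_mul, map_inv, inv_mul_eq_one] at h1

variable {h : Dat Q A z u s} {v v' w w' : h.sw.V}

theorem reg (F : Fr h v v' w w') {a b : W} (hab : om a b = 1) :
    ∃ g : Subgroup.centralizer ({z} : Set G), h.sw.act g v' = kap v v' w w' a ∧
      h.sw.act g w = kap v v' w w' b := by
  classical
  have S := spr h
  let κ := Equiv.ofBijective _ (kap_bij S F)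
  have hκ : ∀ x, kap v v' w w' (κ.symm x) = x := fun x => κ.apply_symm_apply x
  let ψ : h.sw.act.range → {p : W × W // om p.1 p.2 = 1} := fun g =>
    ⟨(κ.symm (g.1 v'), κ.symm (g.1 w)), by
      obtain ⟨c, hc⟩ := g.2
      show om (κ.symm (g.1 v')) (κ.symm (g.1 w)) = 1
      rw [← om_kap S F, hκ, hκ, ← hc]
      exact (h.sw.b_act c v' w).trans F.v'w⟩
  have hinj : Function.Injective ψ := by
    rintro ⟨_, c, rfl⟩ ⟨_, c', rfl⟩ hcc
    have h1 := congrArg Subtype.val hcc
    have h2 : κ.symm (h.sw.act c v') = κ.symm (h.sw.act c' v') := congrArg Prod.fst h1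
    have h3 : κ.symm (h.sw.act c w) = κ.symm (h.sw.act c' w) := congrArg Prod.snd h1
    apply Subtype.ext
    exact act_eq_of_diff h (diff_mem h F.v'w (κ.symm.injective h2) (κ.symm.injective h3))
  have hcard : Nat.card h.sw.act.range = Nat.card {p : W × W // om p.1 p.2 = 1} := by
    rw [card_range h, Nat.card_eq_fintype_card, Fintype.card_subtype]
    exact D3.symm
  obtain ⟨⟨_, c, rfl⟩, hc⟩ := ((Nat.bijective_iff_injective_and_card _).2 ⟨hinj, hcard⟩).2 ⟨(a, b), hab⟩
  have h1 := congrArg Subtype.val hc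
  have h2 : κ.symm (h.sw.act c v') = a := congrArg Prod.fst h1
  have h3 : κ.symm (h.sw.act c w) = b := congrArg Prod.snd h1
  refine ⟨c, ?_, ?_⟩
  · rw [← h2, hκ]
  · rw [← h3, hκ]

theorem kap_e2 {V : Type*} [AddCommGroup V] {v v' w w' : V} : kap v v' w w' e2 = v' := kv'
theorem kap_e3 {V : Type*} [AddCommGroup V] {v v' w w' : V} : kap v v' w w' e3 = w := kw

/-- squares centralise `u` -/
theorem sq_comm_u (h : Dat Q A z u s) (g : Subgroup.centralizer ({z} : Set G)) :
    ((g : G) * g) * u * ((g : G) * g)⁻¹ = u := by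
  have hgz : (g : G) * z * (g : G)⁻¹ = z := by
    rw [Subgroup.mem_centralizer_singleton_iff.1 g.2]; group
  have e : ((g : G) * g) * u * ((g : G) * g)⁻¹ = g * (g * u * (g : G)⁻¹) * (g : G)⁻¹ := by group
  rw [e]
  rcases h.sw.conj_u (Subgroup.mem_centralizer_singleton_iff.1 g.2) with h1 | h1
  · rw [h1, h1]
  · rw [h1]
    calc (g : G) * (u * z) * (g : G)⁻¹ = (g * u * (g : G)⁻¹) * (g * z * (g : G)⁻¹) := by group
      _ = u := by rw [h1, hgz, mul_assoc, h.sw.z_sq, mul_one]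

theorem om_eq (F : Fr h v v' w w') {a b : W} {c : Subgroup.centralizer ({z} : Set G)}
    (ha : h.sw.act c v' = kap v v' w w' a) (hb : h.sw.act c w = kap v v' w w' b) : om a b = 1 := by
  rw [← om_kap (spr h) F, ← ha, ← hb]
  exact (h.sw.b_act c v' w).trans F.v'w

/-- even elements -/
theorem comm_of_lin (F : Fr h v v' w w') {a b : W} {c : Subgroup.centralizer ({z} : Set G)}
    (ha : h.sw.act c v' = kap v v' w w' a) (hb : h.sw.act c w = kap v v' w w' b) (hl : lin a b) :
    (c : G) * u * (c : G)⁻¹ = u := by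
  have hab := om_eq F ha hb
  obtain ⟨a', b', hab', h1, h2⟩ := D1 a b hab hl
  obtain ⟨g, hga, hgb⟩ := reg F hab'
  have key : ∀ p, h.sw.act (g * g) (kap v v' w w' p) = kap v v' w w' (mat a' b' (mat a' b' p)) := by
    intro p
    rw [map_mul, LinearEquiv.mul_apply, eq_mat (spr h) F (aut h g) hga hgb,
      eq_mat (spr h) F (aut h g) hga hgb]
  have h3 := key e2
  have h4 := key e3
  rw [h1, kap_e2, ← ha] at h3
  rw [h2, kap_e3, ← hb] at h4
  have h5 := diff_mem h F.v'w h3 h4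
  have h6 := h.sw.comm_u _ h5
  have h7 := sq_comm_u h g
  have e : (c : G) = (g * g : Subgroup.centralizer ({z} : Set G)) *
      (((g * g : Subgroup.centralizer ({z} : Set G)) : G)⁻¹ * c) := by group
  obtain ⟨t, ht⟩ : ∃ t, t = (((g * g : Subgroup.centralizer ({z} : Set G)) : G)⁻¹ * c) := ⟨_, rfl⟩
  rw [← ht] at h6 e
  rw [e]
  calc ((g * g : Subgroup.centralizer ({z} : Set G)) : G) * t * u *
        (((g * g : Subgroup.centralizer ({z} : Set G)) : G) * t)⁻¹
      = ((g : G) * g) * (t * u) * t⁻¹ * ((g : G) * g)⁻¹ := by rw [Subgroup.coe_mul]; group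
    _ = ((g : G) * g) * u * ((g : G) * g)⁻¹ := by rw [h6]; group
    _ = u := h7

/-- odd elements -/
theorem inv_of_not_lin (F : Fr h v v' w w') {a b : W} {c : Subgroup.centralizer ({z} : Set G)}
    (ha : h.sw.act c v' = kap v v' w w' a) (hb : h.sw.act c w = kap v v' w w' b) (hl : ¬ lin a b) :
    (c : G) * u * (c : G)⁻¹ = u * z := by
  have hab := om_eq F ha hb
  have h1 : h.sw.act (c * ⟨s, s_mem h⟩) v' = kap v v' w w' (mat a b (1, 1, 0, 0)) := by
    rw [map_mul, LinearEquiv.mul_apply]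
    have : h.sw.act ⟨s, s_mem h⟩ v' = kap v v' w w' (1, 1, 0, 0) := by
      rw [show ((1, 1, 0, 0) : W) = (1, 0, 0, 0) + (0, 1, 0, 0) by decide, kap_add (spr h), kv, kv']
      exact F.sv'
    rw [this, eq_mat (spr h) F (aut h c) ha hb]
  have h2 : h.sw.act (c * ⟨s, s_mem h⟩) w = kap v v' w w' b := by
    rw [map_mul, LinearEquiv.mul_apply]
    have : h.sw.act ⟨s, s_mem h⟩ w = w := F.sw
    rw [this, hb]
  have h3 := comm_of_lin F h1 h2 (D2 a b hab hl)
  have h4 : (c : G) * u * (c : G)⁻¹ = (c * s) * (s⁻¹ * u * s) * ((c : G) * s)⁻¹ := by group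
  have h5 : s⁻¹ * u * s = u * z := by
    have : s⁻¹ = s := inv_eq_of_mul_eq_one_left h.s_sq
    have h6 := h.s_u
    rw [this] at h6 ⊢
    exact h6
  have hz : ((c * ⟨s, s_mem h⟩ : Subgroup.centralizer ({z} : Set G)) : G) * z *
      ((c * ⟨s, s_mem h⟩ : Subgroup.centralizer ({z} : Set G)) : G)⁻¹ = z := by
    rw [Subgroup.mem_centralizer_singleton_iff.1 (c * ⟨s, s_mem h⟩ : Subgroup.centralizer ({z} : Set G)).2]
    group
  rw [h4, h5]
  calc (c * s : G) * (u * z) * ((c : G) * s)⁻¹ = ((c * s : G) * u * ((c : G) * s)⁻¹) * ((c * s : G) * z * ((c : G) * s)⁻¹) := by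
        group
    _ = u * z := congrArg₂ (· * ·) h3 hz

end Cfsg.Agent.HSU.DatReg
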