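import Mathlib
import Cfsg.Agent.Solvable.Gaschutz
import Cfsg.Agent.SporadicB.DihedralLift

/-!
# Gluing (uniqueness of the centralizer of an involution of `HS`)
-/

set_option autoImplicit false

namespace Cfsg.Agent.HSU.Glue

/-- `c` and `c'` act in the same way on `Q` and `f Q`. -/
def Same {G G' : Type*} [Group G] [Group G'] (Q : Subgroup G) (f : G → G') (c : G) (c' : G') : Prop :=
  ∀ x ∈ Q, f (c * x * c⁻¹) = c' * f x * c'⁻¹

/-- A homomorphism from the dihedral group of order 8 meeting a normal subgroup in the identity, if the central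
involution is not mapped into it. -/
theorem dih_inf {D : Type*} [Group D] (φ : DihedralGroup 4 →* D) (N : Subgroup D) [N.Normal]
    (h2 : φ (DihedralGroup.r 2) ∉ N) (x : DihedralGroup 4) (hx : φ x ∈ N) : x = 1 := by
  have hn : (N.comap φ).Normal := inferInstance
  by_contra hne
  apply h2
  have key : ∀ x : DihedralGroup 4, x ≠ 1 →
      (x = DihedralGroup.r 2 ∨ x * x = DihedralGroup.r 2 ∨
        DihedralGroup.r 1 * x * (DihedralGroup.r 1)⁻¹ * x = DihedralGroup.r 2 ) := by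
    decide
  have hx' : x ∈ N.comap φ := hx
  rcases key x hne with h | h | h
  · rwa [h] at hx
  · have h3 : φ (x * x) ∈ N := by rw [map_mul]; exact mul_mem hx hx
    rwa [h] at h3
  · have h3 : DihedralGroup.r 1 * x * (DihedralGroup.r 1)⁻¹ * x ∈ N.comap φ :=
      mul_mem (hn.conj_mem x hx' _) hx'
    rwa [h] at h3

theorem exists_equiv {L K : Type*} [Group L] [Group K] (A : Subgroup K) (hA : Nat.card A = 7680)
    {H : Subgroup L} (hH : Nat.card H = 7680)
    (ψ : H →* K) (hψ : Function.Injective ψ) (hm : ∀ x, ψ x ∈ A) : ∃ e : H ≃* A, ∀ x, (e x : K) = ψ x := by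
  have hfin : Finite A := Nat.finite_of_card_ne_zero (by rw [hA]; norm_num)
  have h1 : Function.Injective (ψ.codRestrict A hm) := by
    intro x y h
    exact hψ (congrArg Subtype.val h)
  have hfin' : Finite H := Finite.of_injective _ h1
  have h2 : Function.Bijective (ψ.codRestrict A hm) := by
    rw [Nat.bijective_iff_injective_and_card]
    exact ⟨h1, by rw [hA, hH]⟩
  exact ⟨MulEquiv.ofBijective _ h2, fun x => rfl⟩

theorem glue {G G' : Type*} [Group G] [Group G'] (C Q : Subgroup G) (C' Q' : Subgroup G')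
    (f : G → G') (u : G) (u' : G')
    (cardC : Nat.card C = 7680) (cardC' : Nat.card C' = 7680) (cardQ : Nat.card Q = 64)
    (hQC : Q ≤ C) (hQC' : Q' ≤ C')
    (nQ : ∀ c ∈ C, ∀ x ∈ Q, c * x * c⁻¹ ∈ Q) (nQ' : ∀ c ∈ C', ∀ x ∈ Q', c * x * c⁻¹ ∈ Q')
    (f_mem : ∀ x ∈ Q, f x ∈ Q') (f_mul : ∀ x ∈ Q, ∀ y ∈ Q, f (x * y) = f x * f y)
    (f_inj : ∀ x ∈ Q, ∀ y ∈ Q, f x = f y → x = y) (f_surj : ∀ y ∈ Q', ∃ x ∈ Q, f x = y)
    (huQ : u ∈ Q) (fu : f u = u') (ou : orderOf u = 4) (cu : ∀ x ∈ Q, x * u = u * x)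
    (self : ∀ c ∈ C, (∀ x ∈ Q, c * x = x * c) → c ∈ Subgroup.zpowers u)
    (self' : ∀ c ∈ C', (∀ x ∈ Q', c * x = x * c) → c ∈ Subgroup.zpowers u')
    (same : ∀ c ∈ C, ∃ c' ∈ C', Same Q f c c')
    (s e : G) (s' e' : G') (hs : s ∈ C) (he : e ∈ C) (hs' : s' ∈ C') (he' : e' ∈ C')
    (hss : Same Q f s s') (hee : Same Q f e e')
    (s_sq : s * s = 1) (s'_sq : s' * s' = 1) (e_sq : e * e ∈ Q) (e'_sq : f (e * e) = e' * e')
    (comm : e * (s * e * s⁻¹) = (s * e * s⁻¹) * e) (comm' : e' * (s' * e' * s'⁻¹) = (s' * e' * s'⁻¹) * e')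
    (hne : s * e * s⁻¹ * e⁻¹ ∉ Q) :
    ∃ φ : C ≃* C', ∀ x (hx : x ∈ C), x ∈ Q → (φ ⟨x, hx⟩ : G') = f x := by
  -- `f` on the identity and inverses
  have f_one : f 1 = 1 := by
    have h1 := f_mul 1 (one_mem _) 1 (one_mem _)
    rw [one_mul] at h1
    exact left_eq_mul.1 h1
  have f_inv : ∀ x ∈ Q, f x⁻¹ = (f x)⁻¹ := by
    intro x hx
    have h1 := f_mul x hx x⁻¹ (inv_mem hx)
    rw [mul_inv_cancel, f_one] at h1
    exact (inv_eq_of_mul_eq_one_right h1.symm).symm
  have huC : u ∈ C := hQC huQ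
  have hu'Q : u' ∈ Q' := fu ▸ f_mem u huQ
  have hu'C : u' ∈ C' := hQC' hu'Q
  have cu' : ∀ y ∈ Q', y * u' = u' * y := by
    intro y hy
    obtain ⟨x, hx, rfl⟩ := f_surj y hy
    rw [← fu, ← f_mul x hx u huQ, cu x hx, f_mul u huQ x hx]
  -- the group `E`
  obtain ⟨E, hE⟩ : ∃ E : Subgroup (G × G'), ∀ p, p ∈ E ↔ p.1 ∈ C ∧ p.2 ∈ C' ∧ Same Q f p.1 p.2 := by
    refine ⟨{ carrier := {p | p.1 ∈ C ∧ p.2 ∈ C' ∧ Same Q f p.1 p.2}
              one_mem' := ⟨one_mem _, one_mem _, fun x _ => by simp⟩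
              mul_mem' := ?_
              inv_mem' := ?_ }, fun p => Iff.rfl⟩
    · rintro ⟨c, c'⟩ ⟨d, d'⟩ ⟨h1, h2, h3⟩ ⟨h4, h5, h6⟩
      refine ⟨mul_mem h1 h4, mul_mem h2 h5, fun x hx => ?_⟩
      have e1 : c * d * x * (c * d)⁻¹ = c * (d * x * d⁻¹) * c⁻¹ := by group
      show f (c * d * x * (c * d)⁻¹) = c' * d' * f x * (c' * d')⁻¹
      rw [e1, h3 _ (nQ d h4 x hx), h6 x hx]
      show c' * (d' * f x * d'⁻¹) * c'⁻¹ = _
      group
    · rintro ⟨c, c'⟩ ⟨h1, h2, h3⟩
      refine ⟨inv_mem h1, inv_mem h2, fun x hx => ?_⟩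
      have h4 : c⁻¹ * x * c ∈ Q := by
        have := nQ c⁻¹ (inv_mem h1) x hx
        rwa [inv_inv] at this
      have h5 := h3 _ h4
      show f (c⁻¹ * x * c⁻¹⁻¹) = c'⁻¹ * f x * c'⁻¹⁻¹
      have e1 : c * (c⁻¹ * x * c) * c⁻¹ = x := by group
      change f (c * (c⁻¹ * x * c) * c⁻¹) = c' * f (c⁻¹ * x * c) * c'⁻¹ at h5
      rw [e1] at h5
      rw [inv_inv, inv_inv, h5]
      group
  -- the projections
  obtain ⟨p1, hp1⟩ : ∃ p : E →* G, ∀ x, p x = x.1.1 := ⟨(MonoidHom.fst G G').comp E.subtype, fun _ => rfl⟩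
  obtain ⟨p2, hp2⟩ : ∃ p : E →* G', ∀ x, p x = x.1.2 := ⟨(MonoidHom.snd G G').comp E.subtype, fun _ => rfl⟩
  have hext : ∀ x y : E, p1 x = p1 y → p2 x = p2 y → x = y := by
    intro x y h1 h2
    rw [hp1, hp1] at h1; rw [hp2, hp2] at h2
    exact Subtype.ext (Prod.ext h1 h2)
  have hp1C : ∀ x, p1 x ∈ C := fun x => by rw [hp1]; exact ((hE _).1 x.2).1
  have hp2C : ∀ x, p2 x ∈ C' := fun x => by rw [hp2]; exact ((hE _).1 x.2).2.1
  have hSame : ∀ x, Same Q f (p1 x) (p2 x) := fun x => by rw [hp1, hp2]; exact ((hE _).1 x.2).2.2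
  have mkE : ∀ c ∈ C, ∀ c' ∈ C', Same Q f c c' → ∃ x : E, p1 x = c ∧ p2 x = c' := by
    intro c hc c' hc' h
    exact ⟨⟨(c, c'), (hE _).2 ⟨hc, hc', h⟩⟩, hp1 _, hp2 _⟩
  -- `Γ`
  obtain ⟨Γ, hΓ⟩ : ∃ Γ : Subgroup E, ∀ x, x ∈ Γ ↔ p1 x ∈ Q ∧ p2 x = f (p1 x) := by
    refine ⟨{ carrier := {x | p1 x ∈ Q ∧ p2 x = f (p1 x)}
              one_mem' := ⟨by rw [map_one]; exact one_mem _, by rw [map_one, map_one, f_one]⟩
              mul_mem' := ?_
              inv_mem' := ?_ }, fun p => Iff.rfl⟩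
    · rintro x y ⟨h1, h2⟩ ⟨h3, h4⟩
      refine ⟨by rw [map_mul]; exact mul_mem h1 h3, ?_⟩
      rw [map_mul, map_mul, f_mul _ h1 _ h3, h2, h4]
    · rintro x ⟨h1, h2⟩
      refine ⟨by rw [map_inv]; exact inv_mem h1, ?_⟩
      rw [map_inv, map_inv, f_inv _ h1, h2]
  have hΓn : Γ.Normal := by
    refine ⟨fun x hx g => ?_⟩
    obtain ⟨h1, h2⟩ := (hΓ x).1 hx
    refine (hΓ _).2 ⟨?_, ?_⟩
    · rw [map_mul, map_mul, map_inv]; exact nQ _ (hp1C g) _ h1
    · rw [map_mul, map_mul, map_inv, map_mul, map_mul, map_inv, hSame g _ h1, h2]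
  have mkΓ : ∀ x ∈ Q, ∃ y : E, y ∈ Γ ∧ p1 y = x ∧ p2 y = f x := by
    intro x hx
    obtain ⟨y, h1, h2⟩ := mkE x (hQC hx) (f x) (hQC' (f_mem x hx)) (by
      intro y hy
      rw [f_mul _ (mul_mem hx hy) _ (inv_mem hx), f_mul _ hx _ hy, f_inv _ hx])
    exact ⟨y, (hΓ y).2 ⟨h1 ▸ hx, by rw [h1, h2]⟩, h1, h2⟩
  -- cardinality of `Γ`
  have cardΓ : Nat.card Γ = 64 := by
    rw [← cardQ]
    have hinj : Function.Injective (p1.comp Γ.subtype) := by
      intro x y h
      apply Subtype.ext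
      have h' : p1 x.1 = p1 y.1 := h
      exact hext _ _ h' (by rw [((hΓ _).1 x.2).2, ((hΓ _).1 y.2).2, h'])
    have hr : (p1.comp Γ.subtype).range = Q := by
      ext x
      constructor
      · rintro ⟨y, rfl⟩; exact ((hΓ _).1 y.2).1
      · intro hx
        obtain ⟨y, h1, h2, -⟩ := mkΓ x hx
        exact ⟨⟨y, h1⟩, h2⟩
    rw [← hr]
    exact Nat.card_congr (MonoidHom.ofInjective hinj).toEquiv
  -- the kernel `N` of `p1`
  have memN : ∀ x ∈ p1.ker, p2 x ∈ Subgroup.zpowers u' := by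
    intro x hx
    rw [MonoidHom.mem_ker] at hx
    refine self' _ (hp2C x) ?_
    intro y hy
    obtain ⟨z, hz, rfl⟩ := f_surj y hy
    have h1 := hSame x z hz
    rw [hx, one_mul, inv_one, mul_one] at h1
    rw [eq_mul_inv_iff_mul_eq] at h1
    exact h1.symm
  have mkN : ∀ v ∈ Subgroup.zpowers u', ∃ x ∈ p1.ker, p2 x = v := by
    intro v hv
    have hvQ : v ∈ Q' := Subgroup.zpowers_le.2 hu'Q hv
    have hvc : ∀ y ∈ Q', y * v = v * y := by
      intro y hy
      obtain ⟨k, rfl⟩ := Subgroup.mem_zpowers_iff.1 hv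
      exact (Commute.zpow_right (show Commute y u' from cu' y hy) k).eq
    obtain ⟨x, h1, h2⟩ := mkE 1 (one_mem _) v (hQC' hvQ) (by
      intro y hy
      rw [one_mul, inv_one, mul_one, ← hvc _ (f_mem y hy), mul_inv_cancel_right])
    exact ⟨x, MonoidHom.mem_ker.2 h1, h2⟩
  have ou' : orderOf u' = 4 := by
    have hpow : ∀ k : ℕ, f (u ^ k) = u' ^ k := by
      intro k
      induction k with
      | zero => rw [pow_zero, pow_zero, f_one]
      | succ k ih => rw [pow_succ, pow_succ, f_mul _ (pow_mem huQ k) _ huQ, ih, fu]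
    have h4 : u' ^ 4 = 1 := by rw [← hpow, ← ou, pow_orderOf_eq_one, f_one]
    have h2 : u' ^ 2 ≠ 1 := by
      intro h
      rw [← hpow, ← f_one] at h
      have := f_inj _ (pow_mem huQ 2) _ (one_mem _) h
      have h3 := orderOf_dvd_of_pow_eq_one this
      rw [ou] at h3
      omega
    have := orderOf_eq_prime_pow (p := 2) (n := 1) (x := u') (by simpa using h2) (by simpa using h4)
    simpa using this
  have cardN : Nat.card p1.ker = 4 := by
    have hinj : Function.Injective (p2.comp p1.ker.subtype) := by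
      intro x y h
      apply Subtype.ext
      have h' : p2 x.1 = p2 y.1 := h
      exact hext _ _ (by rw [MonoidHom.mem_ker.1 x.2, MonoidHom.mem_ker.1 y.2]) h'
    have hr : (p2.comp p1.ker.subtype).range = Subgroup.zpowers u' := by
      ext x
      constructor
      · rintro ⟨y, rfl⟩; exact memN _ y.2
      · intro hx
        obtain ⟨y, h1, h2⟩ := mkN x hx
        exact ⟨⟨y, h1⟩, h2⟩
    rw [← ou', ← Nat.card_zpowers, ← hr]
    exact Nat.card_congr (MonoidHom.ofInjective hinj).toEquiv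
  -- cardinality of `E`
  have hp1r : p1.range = C := by
    ext x
    constructor
    · rintro ⟨y, rfl⟩; exact hp1C y
    · intro hx
      obtain ⟨c', hc', h⟩ := same x hx
      obtain ⟨y, h1, -⟩ := mkE x hx c' hc' h
      exact ⟨y, h1⟩
  have cardE : Nat.card E = 4 * 7680 := by
    rw [← Subgroup.card_mul_index p1.ker, cardN, Subgroup.index_ker, hp1r, cardC]
  have idxΓ : Γ.index = 480 := by
    have h1 := Subgroup.card_mul_index Γ
    rw [cardΓ, cardE] at h1
    omega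
  -- the quotient
  have hfinD : Finite (E ⧸ Γ) := by
    apply Nat.finite_of_card_ne_zero
    have : Nat.card (E ⧸ Γ) = 480 := idxΓ
    rw [this]; norm_num
  have cardD : Nat.card (E ⧸ Γ) = 480 := idxΓ
  obtain ⟨q, hq⟩ : ∃ q : E →* E ⧸ Γ, q = QuotientGroup.mk' Γ := ⟨_, rfl⟩
  have qs : Function.Surjective q := by rw [hq]; exact QuotientGroup.mk'_surjective Γ
  have qk : ∀ x, q x = 1 ↔ x ∈ Γ := by
    intro x; rw [hq]; exact QuotientGroup.eq_one_iff x
  have qe : ∀ x y, q x = q y ↔ x⁻¹ * y ∈ Γ := by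
    intro x y; rw [hq]; exact QuotientGroup.eq
  have hNn : (p1.ker.map q).Normal := Subgroup.Normal.map inferInstance q qs
  have hNc : ∀ x ∈ p1.ker, ∀ y ∈ p1.ker, x * y = y * x := by
    intro x hx y hy
    apply hext
    · rw [map_mul, map_mul, MonoidHom.mem_ker.1 hx, MonoidHom.mem_ker.1 hy]
    · rw [map_mul, map_mul]
      obtain ⟨i, hi⟩ := Subgroup.mem_zpowers_iff.1 (memN x hx)
      obtain ⟨j, hj⟩ := Subgroup.mem_zpowers_iff.1 (memN y hy)
      rw [← hi, ← hj, ← zpow_add, ← zpow_add, add_comm]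
  have hN4 : ∀ x ∈ p1.ker, x ^ 4 = 1 := by
    intro x hx
    apply hext
    · rw [map_pow, MonoidHom.mem_ker.1 hx, one_pow, map_one]
    · rw [map_pow, map_one]
      obtain ⟨i, hi⟩ := Subgroup.mem_zpowers_iff.1 (memN x hx)
      rw [← hi, ← zpow_natCast, ← zpow_mul, mul_comm, zpow_mul, zpow_natCast, ← ou', pow_orderOf_eq_one, one_zpow]
  have hcomm : IsMulCommutative (p1.ker.map q) := by
    refine ⟨⟨?_⟩⟩
    rintro ⟨x, hx⟩ ⟨y, hy⟩
    obtain ⟨x, hx, rfl⟩ := hx
    obtain ⟨y, hy, rfl⟩ := hy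
    apply Subtype.ext
    show q x * q y = q y * q x
    rw [← map_mul, ← map_mul, hNc x hx y hy]
  -- membership in the image of `N`
  have memNb : ∀ x, q x ∈ p1.ker.map q → p1 x ∈ Q := by
    intro x hx
    obtain ⟨y, hy, h⟩ := hx
    rw [qe] at h
    have h1 := ((hΓ _).1 h).1
    rwa [map_mul, map_inv, MonoidHom.mem_ker.1 hy, inv_one, one_mul] at h1
  -- the dihedral group
  obtain ⟨S, hS1, hS2⟩ := mkE s hs s' hs' hss
  obtain ⟨T, hT1, hT2⟩ := mkE e he e' he' hee
  have S_sq : S * S = 1 := hext _ _ (by rw [map_mul, hS1, s_sq, map_one]) (by rw [map_mul, hS2, s'_sq, map_one])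
  have T_sq : q T * q T = 1 := by
    rw [← map_mul, qk, hΓ]
    constructor
    · rw [map_mul, hT1]; exact e_sq
    · rw [map_mul, map_mul, hT1, hT2, e'_sq]
  have TT : T * (S * T * S⁻¹) = (S * T * S⁻¹) * T := by
    apply hext
    · simp only [map_mul, map_inv, hS1, hT1]; exact comm
    · simp only [map_mul, map_inv, hS2, hT2]; exact comm'
  have qS : q S * q S = 1 := by rw [← map_mul, S_sq, map_one]
  have qSi : (q S)⁻¹ = q S := inv_eq_of_mul_eq_one_left qS
  have qTi : (q T)⁻¹ = q T := inv_eq_of_mul_eq_one_left T_sq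
  have qTT : q T * (q S * q T * q S) = (q S * q T * q S) * q T := by
    have := congrArg q TT
    simpa only [map_mul, map_inv, qSi] using this
  have hpow : (q S * q T) ^ 4 = 1 := by
    have e1 : (q S * q T) ^ 4 = ((q S * q T * q S) * q T) * ((q S * q T * q S) * q T) := by
      simp only [pow_succ, pow_zero, one_mul, mul_assoc]
    rw [e1]
    nth_rewrite 2 [← qTT]
    have e2 : q S * q T * q S * q T * (q T * (q S * q T * q S)) =
        q S * q T * q S * (q T * q T) * (q S * q T * q S) := by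
      simp only [mul_assoc]
    rw [e2, T_sq, mul_one]
    have e3 : q S * q T * q S * (q S * q T * q S) = q S * (q T * (q S * q S) * q T) * q S := by
      simp only [mul_assoc]
    rw [e3, qS, mul_one, T_sq, mul_one, qS]
  have hconj : q S * (q S * q T) * q S = (q S * q T)⁻¹ := by
    rw [mul_inv_rev, qSi, qTi, ← mul_assoc, qS, one_mul]
  obtain ⟨φ, hφr, hφs⟩ := SporadicB.DihedralLift.exists_dihedral_hom 4 qS hpow hconj
  have hr2 : φ (DihedralGroup.r 2) ∉ p1.ker.map q := by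
    intro h
    have h1 := hφr 2
    have h2 : ((2 : ℤ) : ZMod 4) = 2 := by norm_num
    rw [h2] at h1
    rw [h1] at h
    have h3 : (q S * q T) ^ (2 : ℤ) = q (S * T * S * T) := by
      rw [zpow_ofNat, pow_two, map_mul, map_mul, map_mul, mul_assoc (q S * q T)]
    rw [h3] at h
    have h4 := memNb _ h
    simp only [map_mul, hS1, hT1] at h4
    apply hne
    have hsi : s⁻¹ = s := inv_eq_of_mul_eq_one_left s_sq
    have h5 := mul_mem h4 (inv_mem e_sq)
    have h6 : s * e * s * e * (e * e)⁻¹ = s * e * s⁻¹ * e⁻¹ := by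
      rw [hsi, mul_inv_rev, ← mul_assoc, mul_inv_cancel_right]
    rwa [h6] at h5
  have hinf : ∀ x, φ x ∈ p1.ker.map q → x = 1 := fun x hx => dih_inf φ _ hr2 x hx
  have φinj : Function.Injective φ := by
    rw [injective_iff_map_eq_one]
    intro x hx
    exact hinf x (by rw [hx]; exact one_mem _)
  have hdisj : φ.range ⊓ p1.ker.map q = ⊥ := by
    rw [eq_bot_iff]
    rintro x ⟨⟨y, rfl⟩, h2⟩
    rw [hinf y h2, map_one]
    exact one_mem _
  have cardA : Nat.card φ.range = 8 := by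
    rw [← Nat.card_congr (MonoidHom.ofInjective φinj).toEquiv, DihedralGroup.nat_card]
  -- the cardinality of the image of `N`
  have hNΓ : ∀ x ∈ p1.ker, x ∈ Γ → x = 1 := by
    intro x hx hx'
    have h1 := ((hΓ x).1 hx').2
    rw [MonoidHom.mem_ker.1 hx, f_one] at h1
    exact hext _ _ (by rw [MonoidHom.mem_ker.1 hx, map_one]) (by rw [h1, map_one])
  have cardNb : Nat.card (p1.ker.map q) = 4 := by
    rw [← cardN]
    have hinj : Function.Injective (q.comp p1.ker.subtype) := by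
      rw [injective_iff_map_eq_one]
      intro x hx
      have h1 : q x.1 = 1 := hx
      exact Subtype.ext (hNΓ _ x.2 ((qk _).1 h1))
    have hr : (q.comp p1.ker.subtype).range = p1.ker.map q := by
      rw [MonoidHom.range_comp, Subgroup.range_subtype]
    rw [← hr]
    exact (Nat.card_congr (MonoidHom.ofInjective hinj).toEquiv).symm
  have idxNb : (p1.ker.map q).index = 120 := by
    have h1 := Subgroup.card_mul_index (p1.ker.map q)
    rw [cardNb, cardD] at h1
    omega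
  have idxU : (p1.ker.map q ⊔ φ.range).index = 15 := by
    have h1 := Subgroup.relIndex_mul_index (le_sup_left : p1.ker.map q ≤ p1.ker.map q ⊔ φ.range)
    have h2 : (p1.ker.map q).relIndex (p1.ker.map q ⊔ φ.range) = 8 := by
      rw [sup_comm, Subgroup.relIndex_sup_right, ← cardA]
      rw [Subgroup.relIndex, ← Subgroup.index_bot (G := φ.range)]
      congr 1
      rw [eq_bot_iff]
      intro x hx
      have h3 : (x : E ⧸ Γ) ∈ φ.range ⊓ p1.ker.map q := ⟨x.2, Subgroup.mem_subgroupOf.1 hx⟩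
      rw [hdisj] at h3
      exact Subtype.ext (Subgroup.mem_bot.1 h3)
    rw [h2, idxNb] at h1
    omega
  -- Gaschütz
  have hbij : Function.Bijective fun k : p1.ker.map q => k ^ (p1.ker.map q ⊔ φ.range).index := by
    rw [idxU]
    have h15 : ∀ k : p1.ker.map q, k ^ 15 = k⁻¹ := by
      rintro ⟨k, hk⟩
      obtain ⟨x, hx, rfl⟩ := hk
      apply Subtype.ext
      show (q x) ^ 15 = (q x)⁻¹
      have h4 : (q x) ^ 4 = 1 := by rw [← map_pow, hN4 x hx, map_one]
      have h16 : (q x) ^ 16 = 1 := by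
        rw [show (16 : ℕ) = 4 * 4 from rfl, pow_mul, h4, one_pow]
      rw [eq_inv_iff_mul_eq_one, ← pow_succ]
      exact h16
    have : (fun k : p1.ker.map q => k ^ 15) = fun k => k⁻¹ := funext h15
    rw [this]
    exact inv_involutive.bijective
  obtain ⟨H, hH⟩ := Solvable.Gaschutz.exists_complement (p1.ker.map q) (p1.ker.map q ⊔ φ.range) hbij
    φ.range hdisj rfl
  -- the subgroup `K`
  have idxH : H.index = 4 := by
    rw [← cardNb]
    exact hH.index_eq_card
  have cardK : Nat.card (H.comap q) = 7680 := by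
    have h1 : (H.comap q).index = 4 := by rw [Subgroup.index_comap_of_surjective _ qs, idxH]
    have h2 := Subgroup.card_mul_index (H.comap q)
    rw [h1, cardE] at h2
    omega
  have hHN : ∀ x, q x ∈ H → q x ∈ p1.ker.map q → x ∈ Γ := by
    intro x h1 h2
    have h3 := hH.disjoint
    rw [← qk]
    exact Subgroup.disjoint_def.1 h3 h2 h1
  have inj1 : Function.Injective (p1.comp (H.comap q).subtype) := by
    rw [injective_iff_map_eq_one]
    rintro ⟨x, hx⟩ h
    have h1 : p1 x = 1 := h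
    have h2 : x ∈ Γ := hHN x hx ⟨x, MonoidHom.mem_ker.2 h1, rfl⟩
    exact Subtype.ext (hNΓ x (MonoidHom.mem_ker.2 h1) h2)
  have inj2 : Function.Injective (p2.comp (H.comap q).subtype) := by
    rw [injective_iff_map_eq_one]
    rintro ⟨x, hx⟩ h
    have h1 : p2 x = 1 := h
    have h2 : p1 x ∈ Subgroup.zpowers u := by
      refine self _ (hp1C x) ?_
      intro y hy
      have h3 := hSame x y hy
      rw [h1, one_mul, inv_one, mul_one] at h3
      have h4 := f_inj _ (nQ _ (hp1C x) y hy) _ hy h3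
      rw [mul_inv_eq_iff_eq_mul] at h4
      exact h4
    have h3 : p1 x ∈ Q := Subgroup.zpowers_le.2 huQ h2
    obtain ⟨g, hg, hg1, hg2⟩ := mkΓ _ h3
    have h4 : g⁻¹ * x ∈ p1.ker := by
      rw [MonoidHom.mem_ker, map_mul, map_inv, hg1, inv_mul_cancel]
    have h5 : q x = q (g⁻¹ * x) := by
      rw [map_mul, map_inv, (qk g).2 hg, inv_one, one_mul]
    have h6 : x ∈ Γ := hHN x hx (h5 ▸ ⟨_, h4, rfl⟩)
    have h7 := ((hΓ x).1 h6).2
    rw [h1, ← f_one] at h7
    have h8 := f_inj _ (one_mem _) _ h3 h7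
    exact Subtype.ext (hext _ _ (h8.symm.trans (map_one p1).symm) (h1.trans (map_one p2).symm))
  obtain ⟨e1, he1⟩ := exists_equiv C cardC cardK _ inj1 (fun x => hp1C x)
  obtain ⟨e2, he2⟩ := exists_equiv C' cardC' cardK _ inj2 (fun x => hp2C x)
  refine ⟨e1.symm.trans e2, ?_⟩
  intro x hx hxQ
  obtain ⟨g, hg, hg1, hg2⟩ := mkΓ x hxQ
  have hgK : g ∈ H.comap q := by
    rw [Subgroup.mem_comap, (qk g).2 hg]; exact one_mem _
  have h1 : e1.symm ⟨x, hx⟩ = ⟨g, hgK⟩ := by
    rw [MulEquiv.symm_apply_eq]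
    apply Subtype.ext
    rw [he1]
    exact hg1.symm
  rw [MulEquiv.trans_apply, h1, he2]
  exact hg2

end Cfsg.Agent.HSU.Glue
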