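import Cfsg.Agent.HSU.NF

/-!
# The isomorphism between two groups `4 ∘ 2^{1+4}` with frames
-/

set_option autoImplicit false

namespace Cfsg.Agent.HSU.IsoQ

open Cfsg.Agent.HSU.NF

/-- `f` is an isomorphism `Q → Q'` (as a function on the ambient groups). -/
structure IsoF {G G' : Type*} [Group G] [Group G'] (Q : Subgroup G) (Q' : Subgroup G') (f : G → G') : Prop where
  mem : ∀ x ∈ Q, f x ∈ Q'
  mul : ∀ x ∈ Q, ∀ y ∈ Q, f (x * y) = f x * f y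
  inj : ∀ x ∈ Q, ∀ y ∈ Q, f x = f y → x = y
  surj : ∀ y ∈ Q', ∃ x ∈ Q, f x = y

variable {G G' : Type*} [Group G] [Group G']

theorem IsoF.one {Q : Subgroup G} {Q' : Subgroup G'} {f : G → G'} (hf : IsoF Q Q' f) : f 1 = 1 := by
  have := hf.mul 1 (one_mem _) 1 (one_mem _)
  rw [mul_one] at this
  exact left_eq_mul.1 this

theorem IsoF.inv {Q : Subgroup G} {Q' : Subgroup G'} {f : G → G'} (hf : IsoF Q Q' f) {x : G} (hx : x ∈ Q) :
    f x⁻¹ = (f x)⁻¹ := by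
  rw [eq_inv_iff_mul_eq_one, ← hf.mul _ (inv_mem hx) _ hx, inv_mul_cancel, hf.one]

theorem rel_prod {X X' Y Y' U : G} {P P' R R' W : G'} (h : Rel X X' Y Y' U) (h' : Rel P P' R R' W) :
    Rel ((X, P) : G × G') (X', P') (Y, R) (Y', R') (U, W) where
  x2 := Prod.ext h.x2 h'.x2
  x'2 := Prod.ext h.x'2 h'.x'2
  y2 := Prod.ext h.y2 h'.y2
  y'2 := Prod.ext h.y'2 h'.y'2
  u4 := Prod.ext h.u4 h'.u4
  xu := Prod.ext h.xu h'.xu
  x'u := Prod.ext h.x'u h'.x'u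
  yu := Prod.ext h.yu h'.yu
  y'u := Prod.ext h.y'u h'.y'u
  xx' := Prod.ext h.xx' h'.xx'
  yy' := Prod.ext h.yy' h'.yy'
  xy := Prod.ext h.xy h'.xy
  x'y' := Prod.ext h.x'y' h'.x'y'
  xy' := Prod.ext h.xy' h'.xy'
  x'y := Prod.ext h.x'y h'.x'y

theorem inj_of_card {M K : Type*} [Group M] [Group K] {Γ : Subgroup M} [Finite Γ] (hle : Nat.card Γ ≤ 64)
    (π : M →* K) {T : Subgroup K} (hT : Γ.map π = T) (cT : Nat.card T = 64) :
    ∀ a ∈ Γ, ∀ b ∈ Γ, π a = π b → a = b := by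
  intro a ha b hb hab
  let ψ : Γ → T := fun g => ⟨π g, hT ▸ Subgroup.mem_map_of_mem π g.2⟩
  have hsurj : Function.Surjective ψ := by
    rintro ⟨t, ht⟩
    rw [← hT] at ht
    obtain ⟨g, hg, rfl⟩ := ht
    exact ⟨⟨g, hg⟩, rfl⟩
  have h3 : Nat.card T ≤ Nat.card Γ := Nat.card_le_card_of_surjective ψ hsurj
  have h4 : Nat.card Γ = Nat.card T := le_antisymm (by rw [cT]; exact hle) h3
  have hfinT : Finite T := Nat.finite_of_card_ne_zero (by rw [cT]; norm_num)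
  have h5 := ((Nat.bijective_iff_surjective_and_card ψ).2 ⟨hsurj, h4⟩).1
  have h6 : ψ ⟨a, ha⟩ = ψ ⟨b, hb⟩ := Subtype.ext hab
  exact congrArg Subtype.val (h5 h6)

theorem exists_f {Q : Subgroup G} {Q' : Subgroup G'} {X X' Y Y' U : G} {P P' R R' W : G'}
    (h : Rel X X' Y Y' U) (h' : Rel P P' R R' W) (hQ : Subgroup.closure ({X, X', Y, Y', U} : Set G) = Q)
    (hQ' : Subgroup.closure ({P, P', R, R', W} : Set G') = Q') (cQ : Nat.card Q = 64)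
    (cQ' : Nat.card Q' = 64) :
    ∃ f : G → G', IsoF Q Q' f ∧ f X = P ∧ f X' = P' ∧ f Y = R ∧ f Y' = R' ∧ f U = W := by
  classical
  have hrel := rel_prod h h'
  obtain ⟨hfin, hle⟩ := card_le hrel
  obtain ⟨Γ, hΓ⟩ : ∃ Γ, Γ = Subgroup.closure ({(X, P), (X', P'), (Y, R), (Y', R'), (U, W)} : Set (G × G')) :=
    ⟨_, rfl⟩
  rw [← hΓ] at hfin hle
  have h1 : Γ.map (MonoidHom.fst G G') = Q := by
    rw [hΓ, MonoidHom.map_closure, ← hQ]
    congr 1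
    ext g
    simp [Set.image_insert_eq]
  have h2 : Γ.map (MonoidHom.snd G G') = Q' := by
    rw [hΓ, MonoidHom.map_closure, ← hQ']
    congr 1
    ext g
    simp [Set.image_insert_eq]
  have inj1 : ∀ a ∈ Γ, ∀ b ∈ Γ, a.1 = b.1 → a = b := inj_of_card hle (MonoidHom.fst G G') h1 cQ
  have inj2 : ∀ a ∈ Γ, ∀ b ∈ Γ, a.2 = b.2 → a = b := inj_of_card hle (MonoidHom.snd G G') h2 cQ'
  have ex : ∀ g ∈ Q, ∃ g', (g, g') ∈ Γ := by
    intro g hg
    rw [← h1] at hg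
    obtain ⟨⟨a, b⟩, hab, rfl⟩ := hg
    exact ⟨b, hab⟩
  let f : G → G' := fun g => if hg : ∃ g', (g, g') ∈ Γ then hg.choose else 1
  have fspec : ∀ g g', (g, g') ∈ Γ → f g = g' := by
    intro g g' hg
    have he : ∃ g', (g, g') ∈ Γ := ⟨g', hg⟩
    have hf : f g = he.choose := dif_pos he
    rw [hf]
    exact congrArg Prod.snd (inj1 _ he.choose_spec _ hg rfl)
  have gen : ∀ a ∈ ({(X, P), (X', P'), (Y, R), (Y', R'), (U, W)} : Set (G × G')), a ∈ Γ := by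
    intro a ha
    rw [hΓ]
    exact Subgroup.subset_closure ha
  refine ⟨f, ⟨?_, ?_, ?_, ?_⟩, ?_, ?_, ?_, ?_, ?_⟩
  · intro x hx
    obtain ⟨x', hx'⟩ := ex x hx
    rw [fspec _ _ hx', ← h2]
    exact Subgroup.mem_map_of_mem (MonoidHom.snd G G') hx'
  · intro x hx y hy
    obtain ⟨x', hx'⟩ := ex x hx
    obtain ⟨y', hy'⟩ := ex y hy
    rw [fspec _ _ hx', fspec _ _ hy']
    exact fspec _ _ (mul_mem hx' hy')
  · intro x hx y hy hxy
    obtain ⟨x', hx'⟩ := ex x hx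
    obtain ⟨y', hy'⟩ := ex y hy
    rw [fspec _ _ hx', fspec _ _ hy'] at hxy
    exact congrArg Prod.fst (inj2 _ hx' _ hy' hxy)
  · intro y hy
    rw [← h2] at hy
    obtain ⟨⟨a, b⟩, hab, rfl⟩ := hy
    exact ⟨a, h1 ▸ Subgroup.mem_map_of_mem (MonoidHom.fst G G') hab, fspec _ _ hab⟩
  · exact fspec _ _ (gen _ (by simp))
  · exact fspec _ _ (gen _ (by simp))
  · exact fspec _ _ (gen _ (by simp))
  · exact fspec _ _ (gen _ (by simp))
  · exact fspec _ _ (gen _ (by simp))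

end Cfsg.Agent.HSU.IsoQ
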