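import Mathlib

/-!
# Spreads of a symplectic space of order 16: adapted frames
-/

set_option autoImplicit false

namespace Cfsg.Agent.HSU.Lin

/-- A spread of totally isotropic lines; `J p q`: there is a line containing `p` and `q`. -/
structure Spr {V : Type*} [AddCommGroup V] (ω : V → V → ZMod 2) (J : V → V → Prop) : Prop where
  two : ∀ v : V, v + v = 0
  card : Nat.card V = 16
  add_l : ∀ a b c, ω (a + b) c = ω a c + ω b c
  comm : ∀ a b, ω a b = ω b a
  alt : ∀ a, ω a a = 0
  nd : ∀ a, (∀ b, ω a b = 0) → a = 0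
  refl : ∀ p, J p p
  symm : ∀ p q, J p q → J q p
  tr : ∀ p q r, q ≠ 0 → J p q → J q r → J p r
  add : ∀ p q r, J p q → J p r → J p (q + r)
  zero : ∀ p, J p 0
  iso : ∀ p q, J p q → ω p q = 0
  four : ∀ p, p ≠ 0 → Nat.card {q // J p q} = 4

/-- A map preserving the form and the spread. -/
structure Aut {V : Type*} [AddCommGroup V] (ω : V → V → ZMod 2) (J : V → V → Prop) (g : V → V) : Prop where
  add : ∀ a b, g (a + b) = g a + g b
  om : ∀ a b, ω (g a) (g b) = ω a b
  J : ∀ a b, J a b → J (g a) (g b)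

theorem z2 (t : ZMod 2) : t = 0 ∨ t = 1 := by
  revert t; decide

namespace Spr

variable {V : Type*} [AddCommGroup V] {ω : V → V → ZMod 2} {J : V → V → Prop}

theorem add_r (S : Spr ω J) (a b c : V) : ω a (b + c) = ω a b + ω a c := by
  rw [S.comm, S.add_l, S.comm b, S.comm c]

theorem eq_of_add (S : Spr ω J) {a b : V} (h : a + b = 0) : a = b := by
  have h1 : a + b + b = b := by rw [h, zero_add]
  rwa [add_assoc, S.two, add_zero] at h1

theorem neg (S : Spr ω J) (a : V) : -a = a := by
  rw [neg_eq_iff_add_eq_zero]; exact S.two a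

theorem zero_l (S : Spr ω J) (a : V) : ω 0 a = 0 := by
  have := S.add_l 0 0 a
  rw [add_zero] at this
  exact left_eq_add.1 this

theorem zero_r (S : Spr ω J) (a : V) : ω a 0 = 0 := by rw [S.comm, S.zero_l]

theorem finite (S : Spr ω J) : Finite V := by
  apply Nat.finite_of_card_ne_zero
  rw [S.card]; norm_num

/-- a second point of the line -/
theorem exists_ne (S : Spr ω J) {p : V} (hp : p ≠ 0) : ∃ p', J p p' ∧ p' ≠ 0 ∧ p' ≠ p := by
  classical
  have := S.finite
  by_contra hcon
  push Not at hcon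
  have h1 : Nat.card {q // J p q} ≤ Nat.card (Fin 2) := by
    apply Nat.card_le_card_of_injective (fun q : {q // J p q} => (if q.1 = 0 then 0 else 1 : Fin 2))
    intro a b hab
    apply Subtype.ext
    by_cases ha : a.1 = 0 <;> by_cases hb : b.1 = 0
    · rw [ha, hb]
    · simp [ha, hb] at hab
    · simp [ha, hb] at hab
    · rw [hcon a.1 a.2 ha, hcon b.1 b.2 hb]
  rw [S.four p hp, Nat.card_fin] at h1
  omega

/-- description of a line -/
theorem line (S : Spr ω J) {p p' : V} (hp : p ≠ 0) (h : J p p') (hp' : p' ≠ 0) (hne : p' ≠ p) (q : V) :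
    J p q ↔ q = 0 ∨ q = p ∨ q = p' ∨ q = p + p' := by
  classical
  have := S.finite
  constructor
  · intro hq
    by_contra hcon
    push Not at hcon
    obtain ⟨h0, h1, h2, h3⟩ := hcon
    have hinj : Function.Injective (fun i : Fin 5 => (![⟨0, S.zero p⟩, ⟨p, S.refl p⟩, ⟨p', h⟩,
        ⟨p + p', S.add _ _ _ (S.refl p) h⟩, ⟨q, hq⟩] : Fin 5 → {q // J p q}) i) := by
      have e1 : p + p' ≠ 0 := fun h => hne (S.eq_of_add h).symm
      intro i j hij
      have hij' := congrArg Subtype.val hij
      fin_cases i <;> fin_cases j <;> simp at hij' ⊢ <;>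
        first
          | exact absurd hij' hp | exact absurd hij' hp.symm | exact absurd hij' hp'
          | exact absurd hij' hp'.symm | exact absurd hij' h0 | exact absurd hij' h0.symm
          | exact absurd hij' h1 | exact absurd hij' h1.symm | exact absurd hij' h2
          | exact absurd hij' h2.symm | exact absurd hij' h3 | exact absurd hij' h3.symm
          | exact absurd hij' hne | exact absurd hij' hne.symm | exact absurd hij' e1
          | exact absurd hij' e1.symm
    have h5 := Nat.card_le_card_of_injective _ hinj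
    rw [Nat.card_fin, S.four p hp] at h5
    omega
  · rintro (rfl | rfl | rfl | rfl)
    · exact S.zero p
    · exact S.refl _
    · exact h
    · exact S.add _ _ _ (S.refl p) h

/-- decomposition with respect to two lines -/
theorem decomp (S : Spr ω J) {p q : V} (hp : p ≠ 0) (hq : q ≠ 0) (hpq : ¬ J p q) (v : V) :
    ∃ a b, J p a ∧ J q b ∧ v = a + b := by
  classical
  have := S.finite
  have hinj : Function.Injective (fun x : {a // J p a} × {b // J q b} => (x.1 : V) + x.2) := by
    rintro ⟨⟨a, ha⟩, ⟨b, hb⟩⟩ ⟨⟨a', ha'⟩, ⟨b', hb'⟩⟩ h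
    have h' : a + b = a' + b' := h
    have h1 : a + a' = b + b' := by
      apply S.eq_of_add
      calc a + a' + (b + b') = (a + b) + (a' + b') := by abel
        _ = 0 := by rw [h', S.two]
    have h2 : J p (a + a') := S.add _ _ _ ha ha'
    have h3 : J q (a + a') := by rw [h1]; exact S.add _ _ _ hb hb'
    by_cases h4 : a + a' = 0
    · have h5 : b + b' = 0 := h1 ▸ h4
      have ha1 := S.eq_of_add h4
      have hb1 := S.eq_of_add h5
      subst ha1; subst hb1; rfl
    · exact absurd (S.tr p _ q h4 h2 (S.symm _ _ h3)) hpq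
  have hcard : Nat.card ({a // J p a} × {b // J q b}) = Nat.card V := by
    rw [Nat.card_prod, S.four p hp, S.four q hq, S.card]
  have hsurj := ((Nat.bijective_iff_injective_and_card _).2 ⟨hinj, hcard⟩).2
  obtain ⟨⟨⟨a, ha⟩, ⟨b, hb⟩⟩, hab⟩ := hsurj v
  exact ⟨a, b, ha, hb, hab.symm⟩

/-- lines are maximal totally isotropic -/
theorem perp (S : Spr ω J) {p r : V} (hp : p ≠ 0) (h : ∀ q, J p q → ω q r = 0) : J p r := by
  by_contra hcon
  have hr : r ≠ 0 := by rintro rfl; exact hcon (S.zero p)
  apply hr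
  apply S.nd
  intro v
  obtain ⟨a, b, ha, hb, rfl⟩ := S.decomp hp hr hcon v
  rw [S.add_r, S.comm r a, h a ha, zero_add]
  exact S.iso _ _ hb

theorem exists_om (S : Spr ω J) {v : V} (hv : v ≠ 0) : ∃ w, ω v w = 1 := by
  by_contra hcon
  push Not at hcon
  exact hv (S.nd v fun w => (z2 _).resolve_right (hcon w))

/-- two lines are equal if they share a nonzero vector -/
theorem tr' (S : Spr ω J) {p q r : V} (hq : q ≠ 0) (h1 : J p q) (h2 : J r q) : J p r :=
  S.tr _ _ _ hq h1 (S.symm _ _ h2)

theorem fix_line (S : Spr ω J) {g : V → V} (hg : Aut ω J g) {p q : V} (h : ω p q = 1)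
    (gp : g p = p) (gq : g q = q) : ∀ a, J p a → g a = a := by
  have hp : p ≠ 0 := by rintro rfl; rw [S.zero_l] at h; exact zero_ne_one h
  have g0 : g 0 = 0 := by
    have := hg.add 0 0
    rw [add_zero] at this
    exact left_eq_add.1 this
  -- choose `p'` orthogonal to `q`
  obtain ⟨p', h1, h2, h3, h4⟩ : ∃ p', J p p' ∧ p' ≠ 0 ∧ p' ≠ p ∧ ω p' q = 0 := by
    obtain ⟨p', h1, h2, h3⟩ := S.exists_ne hp
    rcases z2 (ω p' q) with h4 | h4
    · exact ⟨p', h1, h2, h3, h4⟩
    · refine ⟨p + p', S.add _ _ _ (S.refl p) h1, fun h5 => h3 (S.eq_of_add h5).symm,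
        fun h5 => h2 (by simpa using h5), ?_⟩
      rw [S.add_l, h, h4]; decide
  have ginj : ∀ a b, g a = g b → a = b := by
    intro a b hab
    apply S.eq_of_add
    apply S.nd
    intro c
    rw [← hg.om, hg.add, hab, S.two, S.zero_l]
  have h5 : g p' = p' := by
    have h6 : J p (g p') := by
      have := hg.J _ _ h1
      rwa [gp] at this
    rcases (S.line hp h1 h2 h3 _).1 h6 with h7 | h7 | h7 | h7
    · exact absurd (ginj _ _ (h7.trans g0.symm)) h2
    · exact absurd (ginj _ _ (h7.trans gp.symm)) h3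
    · exact h7
    · exfalso
      have h8 := hg.om p' q
      rw [gq, h7, S.add_l, h, h4] at h8
      revert h8; decide
  intro a ha
  rcases (S.line hp h1 h2 h3 _).1 ha with h7 | h7 | h7 | h7
  · rw [h7, g0]
  · rw [h7, gp]
  · rw [h7, h5]
  · rw [h7, hg.add, gp, h5]

/-- a map fixing two non-orthogonal vectors is the identity -/
theorem fix_all (S : Spr ω J) {g : V → V} (hg : Aut ω J g) {p q : V} (h : ω p q = 1)
    (gp : g p = p) (gq : g q = q) (v : V) : g v = v := by
  have hp : p ≠ 0 := by rintro rfl; rw [S.zero_l] at h; exact zero_ne_one h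
  have hq : q ≠ 0 := by rintro rfl; rw [S.zero_r] at h; exact zero_ne_one h
  have hpq : ¬ J p q := by
    intro h1
    rw [S.iso _ _ h1] at h
    exact zero_ne_one h
  obtain ⟨a, b, ha, hb, rfl⟩ := S.decomp hp hq hpq v
  rw [hg.add, S.fix_line hg h gp gq a ha, S.fix_line hg (by rwa [S.comm]) gq gp b hb]

end Spr

/-- An adapted frame for the involution `s`. -/
structure Frame {V : Type*} [AddCommGroup V] (ω : V → V → ZMod 2) (J : V → V → Prop) (s : V → V)
    (v v' w w' : V) : Prop where
  sv : s v = v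
  sv' : s v' = v + v'
  sw : s w = w
  sw' : s w' = w + w'
  v0 : v ≠ 0
  w0 : w ≠ 0
  Jv : J v v'
  Jw : J w w'
  vw : ω v w = 0
  vw' : ω v w' = 1
  v'w : ω v' w = 1
  v'w' : ω v' w' = 0

/-- existence of adapted frames -/
theorem exists_frame {V : Type*} [AddCommGroup V] {ω : V → V → ZMod 2} {J : V → V → Prop} (S : Spr ω J)
    {s : V → V} (hs : Aut ω J s) (s2 : ∀ v, s (s v) = v) {v' : V} (hJ : J v' (s v')) (hne : s v' ≠ v') :
    ∃ v w w', Frame ω J s v v' w w' := by
  have s0 : s 0 = 0 := by
    have := hs.add 0 0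
    rw [add_zero] at this
    exact left_eq_add.1 this
  have hv'0 : v' ≠ 0 := by
    rintro rfl
    exact hne s0
  have hsv0 : v' + s v' ≠ 0 := fun h => hne (S.eq_of_add h).symm
  obtain ⟨v, hv⟩ : ∃ v, v = v' + s v' := ⟨_, rfl⟩
  have hv0 : v ≠ 0 := hv ▸ hsv0
  have hsv : s v = v := by rw [hv, hs.add, s2, add_comm]
  have hsv' : s v' = v + v' := by
    rw [hv]
    calc s v' = s v' + (v' + v') := by rw [S.two, add_zero]
      _ = v' + s v' + v' := by abel
  have hJ1 : J v' v := hv ▸ S.add _ _ _ (S.refl _) hJ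
  have hJv : J v v' := S.symm _ _ hJ1
  have hvne : v' ≠ v := by
    intro h
    apply hne
    rw [h, hsv]
  -- a vector fixed by `s`, not on the line of `v`
  obtain ⟨w, hw, hJw⟩ : ∃ w, s w = w ∧ ¬ J v w := by
    by_contra hcon
    push Not at hcon
    obtain ⟨q, hq⟩ := S.exists_om hv0
    have hnq : ¬ J v q := by
      intro h
      rw [S.iso _ _ h] at hq
      exact zero_ne_one hq
    have h1 : s (q + s q) = q + s q := by rw [hs.add, s2, add_comm]
    have h2 := hcon _ h1
    rcases (S.line hv0 hJv hv'0 hvne _).1 h2 with h3 | h3 | h3 | h3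
    · exact hnq (hcon q (S.eq_of_add h3).symm)
    · have h4 : s (q + v') = q + v' := by
        rw [hs.add, hsv']
        have h5 : s q = q + v := by
          rw [← h3]
          calc s q = (q + q) + s q := by rw [S.two, zero_add]
            _ = q + (q + s q) := by abel
        rw [h5]
        calc q + v + (v + v') = q + (v + v) + v' := by abel
          _ = q + v' := by rw [S.two, add_zero]
      have h5 := hcon _ h4
      apply hnq
      have h6 := S.add _ _ _ h5 hJv
      rwa [add_assoc, S.two, add_zero] at h6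
    · rw [h3, hsv'] at h1
      exact hv0 (by simpa using h1)
    · rw [h3, hs.add, hsv, hsv'] at h1
      apply hv0
      have h4 : v + (v + v') = 0 + v + v' := by rw [h1, zero_add]
      rw [← add_assoc] at h4
      have h5 := add_right_cancel h4
      rw [zero_add] at h5
      exact left_eq_add.1 h5.symm
  have hw0 : w ≠ 0 := by rintro rfl; exact hJw (S.zero v)
  -- a vector of the line of `w` not fixed by `s`
  obtain ⟨w', hw', hJw'⟩ : ∃ w', s w' ≠ w' ∧ J w w' := by
    by_contra hcon
    push Not at hcon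
    apply hJw
    apply S.symm
    apply S.perp hw0
    intro q hq
    have hsq : s q = q := by
      by_contra h
      exact hcon q h hq
    rw [hv, S.add_r]
    have h1 : ω q (s v') = ω q v' := by
      rw [← hs.om q v', hsq]
    rw [h1]
    rcases z2 (ω q v') with h | h <;> rw [h] <;> decide
  have hJsw' : J w (s w') := by
    have := hs.J _ _ hJw'
    rwa [hw] at this
  obtain ⟨w1, hw1⟩ : ∃ w1, w1 = w' + s w' := ⟨_, rfl⟩
  have hw10 : w1 ≠ 0 := by
    rw [hw1]; exact fun h => hw' (S.eq_of_add h).symm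
  have hsw1 : s w1 = w1 := by rw [hw1, hs.add, s2, add_comm]
  have hsw' : s w' = w1 + w' := by
    rw [hw1]
    calc s w' = s w' + (w' + w') := by rw [S.two, add_zero]
      _ = w' + s w' + w' := by abel
  have hJww1 : J w w1 := hw1 ▸ S.add _ _ _ hJw' hJsw'
  have hJ1w' : J w1 w' := S.tr _ _ _ hw0 (S.symm _ _ hJww1) hJw'
  have hJvw1 : ¬ J v w1 := fun h => hJw (S.tr _ _ _ hw10 h (S.symm _ _ hJww1))
  have hvw : ω v w1 = 0 := by
    have h1 : ω v w1 = ω v w' + ω v (s w') := by rw [hw1, S.add_r]
    have h2 : ω v (s w') = ω v w' := by rw [← hs.om v w', hsv]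
    rw [h1, h2]
    rcases z2 (ω v w') with h | h <;> rw [h] <;> decide
  have hv'w : ω v' w1 = 1 := by
    rcases z2 (ω v' w1) with h | h
    · exfalso
      apply hJvw1
      apply S.perp hv0
      intro q hq
      rcases (S.line hv0 hJv hv'0 hvne _).1 hq with h3 | h3 | h3 | h3 <;> rw [h3]
      · exact S.zero_l _
      · exact hvw
      · exact h
      · rw [S.add_l, hvw, h]; decide
    · exact h
  have hvw' : ω v w' = 1 := by
    rcases z2 (ω v w') with h | h
    · exfalso
      apply hJvw1
      apply S.symm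
      apply S.perp hw10
      have hw'0 : w' ≠ 0 := by rintro rfl; exact hw' s0
      have hwne : w' ≠ w1 := by
        intro h
        apply hw'
        rw [h, hsw1]
      intro q hq
      rcases (S.line hw10 hJ1w' hw'0 hwne _).1 hq with h3 | h3 | h3 | h3 <;> rw [h3]
      · exact S.zero_l _
      · rw [S.comm]; exact hvw
      · rw [S.comm]; exact h
      · rw [S.comm, S.add_r, hvw, h]; decide
    · exact h
  rcases z2 (ω v' w') with h | h
  · exact ⟨v, w1, w', hsv, hsv', hsw1, hsw', hv0, hw10, hJv, hJ1w', hvw, hvw', hv'w, h⟩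
  · refine ⟨v, w1, w1 + w', hsv, hsv', hsw1, ?_, hv0, hw10, hJv, S.add _ _ _ (S.refl _) hJ1w', hvw, ?_, hv'w, ?_⟩
    · rw [hs.add, hsw1, hsw']
    · rw [S.add_r, hvw, hvw']; decide
    · rw [S.add_r, hv'w, h]; decide

end Cfsg.Agent.HSU.Lin
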