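import Mathlib

/-!
# Normal forms in `4 ∘ 2^{1+4}`
-/

set_option autoImplicit false

namespace Cfsg.Agent.HSU.NF

/-- relations of `4 ∘ 2^{1+4}` -/
structure Rel {H : Type*} [Group H] (X X' Y Y' U : H) : Prop where
  x2 : X * X = 1
  x'2 : X' * X' = 1
  y2 : Y * Y = 1
  y'2 : Y' * Y' = 1
  u4 : U * U * (U * U) = 1
  xu : X * U = U * X
  x'u : X' * U = U * X'
  yu : Y * U = U * Y
  y'u : Y' * U = U * Y'
  xx' : X * X' = X' * X
  yy' : Y * Y' = Y' * Y
  xy : X * Y = Y * X
  x'y' : X' * Y' = Y' * X'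
  xy' : X * Y' = Y' * X * (U * U)
  x'y : X' * Y = Y * X' * (U * U)

/-- normal form -/
def nf {H : Type*} [Group H] (X X' Y Y' U : H) (a b c d k : ℕ) : H := X ^ a * X' ^ b * Y ^ c * Y' ^ d * U ^ k

variable {H : Type*} [Group H] {X X' Y Y' U : H}

theorem pow2 {x : H} (hx : x * x = 1) (n : ℕ) : x ^ n = x ^ (n % 2) := by
  conv_lhs => rw [← Nat.div_add_mod n 2, pow_add, pow_mul, pow_two, hx, one_pow, one_mul]

theorem pow4 {x : H} (hx : x * x * (x * x) = 1) (n : ℕ) : x ^ n = x ^ (n % 4) := by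
  have h4 : x ^ 4 = 1 := by rw [← hx, pow_succ, pow_succ, pow_two]; simp only [mul_assoc]
  conv_lhs => rw [← Nat.div_add_mod n 4, pow_add, pow_mul, h4, one_pow, one_mul]

/-- moving past a power, commutator central -/
theorem past {a b c : H} (hac : c * b = b * c) (h : a * b = b * a * c) (hc : a * c = c * a) (n : ℕ) :
    a * b ^ n = b ^ n * a * c ^ n := by
  induction n with
  | zero => simp
  | succ n ih =>
    have hcn : c ^ n * b = b * c ^ n := (show Commute c b from hac).pow_left n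
    calc a * b ^ (n + 1) = (a * b ^ n) * b := by rw [pow_succ, ← mul_assoc]
      _ = b ^ n * a * (c ^ n * b) := by rw [ih]; group
      _ = b ^ n * (a * b) * c ^ n := by rw [hcn]; group
      _ = b ^ (n + 1) * a * (c * c ^ n) := by rw [h, pow_succ]; group
      _ = b ^ (n + 1) * a * c ^ (n + 1) := by rw [pow_succ' c n]

theorem left_x (a b c d k : ℕ) : X * nf X X' Y Y' U a b c d k = nf X X' Y Y' U (a + 1) b c d k := by
  unfold nf
  rw [pow_succ' X]; simp only [mul_assoc]

theorem left_x' (R : Rel X X' Y Y' U) (a b c d k : ℕ) :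
    X' * nf X X' Y Y' U a b c d k = nf X X' Y Y' U a (b + 1) c d k := by
  unfold nf
  have h1 : X' * X ^ a = X ^ a * X' := ((show Commute X X' from R.xx').pow_left a).eq.symm
  calc X' * (X ^ a * X' ^ b * Y ^ c * Y' ^ d * U ^ k) = (X' * X ^ a) * X' ^ b * Y ^ c * Y' ^ d * U ^ k := by
        simp only [mul_assoc]
    _ = _ := by rw [h1, pow_succ' X']; simp only [mul_assoc]

theorem left_y (R : Rel X X' Y Y' U) (a b c d k : ℕ) :
    Y * nf X X' Y Y' U a b c d k = nf X X' Y Y' U a b (c + 1) d (k + 2 * b) := by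
  have h1 : Y * X ^ a = X ^ a * Y := ((show Commute X Y from R.xy).pow_left a).eq.symm
  have h4 := R.u4
  have hxu : U * U * X' = X' * (U * U) := by
    rw [mul_assoc, ← R.x'u, ← mul_assoc, ← R.x'u, mul_assoc]
  have hyu : Y * (U * U) = U * U * Y := by
    rw [← mul_assoc, R.yu, mul_assoc, R.yu, ← mul_assoc]
  have h2 : Y * X' = X' * Y * (U * U) := by
    rw [R.x'y, mul_assoc, h4, mul_one]
  have h3 := past hxu h2 hyu b
  have hc1 : Commute ((U * U) ^ b) (Y ^ c) := by
    have : Commute U Y := R.yu.symm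
    exact ((this.mul_left this).pow_left b).pow_right c
  have hc2 : Commute ((U * U) ^ b) (Y' ^ d) := by
    have : Commute U Y' := R.y'u.symm
    exact ((this.mul_left this).pow_left b).pow_right d
  have hu : (U * U) ^ b * U ^ k = U ^ (k + 2 * b) := by
    rw [← pow_two, ← pow_mul, ← pow_add, add_comm]
  unfold nf
  calc Y * (X ^ a * X' ^ b * Y ^ c * Y' ^ d * U ^ k) = (Y * X ^ a) * X' ^ b * Y ^ c * Y' ^ d * U ^ k := by
        simp only [mul_assoc]
    _ = X ^ a * (Y * X' ^ b) * Y ^ c * Y' ^ d * U ^ k := by rw [h1]; simp only [mul_assoc]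
    _ = X ^ a * X' ^ b * Y * ((U * U) ^ b * Y ^ c) * Y' ^ d * U ^ k := by rw [h3]; simp only [mul_assoc]
    _ = X ^ a * X' ^ b * Y * Y ^ c * ((U * U) ^ b * Y' ^ d) * U ^ k := by rw [hc1.eq]; simp only [mul_assoc]
    _ = X ^ a * X' ^ b * (Y * Y ^ c) * Y' ^ d * ((U * U) ^ b * U ^ k) := by rw [hc2.eq]; simp only [mul_assoc]
    _ = _ := by rw [hu, ← pow_succ']

theorem left_y' (R : Rel X X' Y Y' U) (a b c d k : ℕ) :
    Y' * nf X X' Y Y' U a b c d k = nf X X' Y Y' U a b c (d + 1) (k + 2 * a) := by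
  have h4 := R.u4
  have hxu : U * U * X = X * (U * U) := by
    rw [mul_assoc, ← R.xu, ← mul_assoc, ← R.xu, mul_assoc]
  have hyu : Y' * (U * U) = U * U * Y' := by
    rw [← mul_assoc, R.y'u, mul_assoc, R.y'u, ← mul_assoc]
  have h2 : Y' * X = X * Y' * (U * U) := by
    rw [R.xy', mul_assoc, h4, mul_one]
  have h3 := past hxu h2 hyu a
  have hb : Y' * X' ^ b = X' ^ b * Y' := ((show Commute X' Y' from R.x'y').pow_left b).eq.symm
  have hc : Y' * Y ^ c = Y ^ c * Y' := ((show Commute Y Y' from R.yy').pow_left c).eq.symm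
  have hc0 : Commute ((U * U) ^ a) (X' ^ b) := by
    have : Commute U X' := R.x'u.symm
    exact ((this.mul_left this).pow_left a).pow_right b
  have hc1 : Commute ((U * U) ^ a) (Y ^ c) := by
    have : Commute U Y := R.yu.symm
    exact ((this.mul_left this).pow_left a).pow_right c
  have hc2 : Commute ((U * U) ^ a) (Y' ^ (d + 1)) := by
    have : Commute U Y' := R.y'u.symm
    exact ((this.mul_left this).pow_left a).pow_right (d + 1)
  have hc3 : Commute ((U * U) ^ a) Y' := by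
    have : Commute U Y' := R.y'u.symm
    exact (this.mul_left this).pow_left a
  have hu : (U * U) ^ a * U ^ k = U ^ (k + 2 * a) := by
    rw [← pow_two, ← pow_mul, ← pow_add, add_comm]
  unfold nf
  calc Y' * (X ^ a * X' ^ b * Y ^ c * Y' ^ d * U ^ k) = (Y' * X ^ a) * X' ^ b * Y ^ c * Y' ^ d * U ^ k := by
        simp only [mul_assoc]
    _ = X ^ a * Y' * ((U * U) ^ a * X' ^ b) * Y ^ c * Y' ^ d * U ^ k := by rw [h3]; simp only [mul_assoc]
    _ = X ^ a * (Y' * X' ^ b) * ((U * U) ^ a * Y ^ c) * Y' ^ d * U ^ k := by rw [hc0.eq]; simp only [mul_assoc]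
    _ = X ^ a * X' ^ b * (Y' * Y ^ c) * (U * U) ^ a * Y' ^ d * U ^ k := by rw [hb, hc1.eq]; simp only [mul_assoc]
    _ = X ^ a * X' ^ b * Y ^ c * (Y' * (U * U) ^ a) * Y' ^ d * U ^ k := by rw [hc]; simp only [mul_assoc]
    _ = X ^ a * X' ^ b * Y ^ c * ((U * U) ^ a * (Y' * Y' ^ d)) * U ^ k := by rw [← hc3.eq]; simp only [mul_assoc]
    _ = X ^ a * X' ^ b * Y ^ c * Y' ^ (d + 1) * ((U * U) ^ a * U ^ k) := by
        rw [← pow_succ', hc2.eq]; simp only [mul_assoc]
    _ = _ := by rw [hu]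

theorem left_u (R : Rel X X' Y Y' U) (a b c d k : ℕ) :
    U * nf X X' Y Y' U a b c d k = nf X X' Y Y' U a b c d (k + 1) := by
  have h1 : Commute U (X ^ a * X' ^ b * Y ^ c * Y' ^ d) :=
    ((((show Commute U X from R.xu.symm).pow_right a).mul_right
      ((show Commute U X' from R.x'u.symm).pow_right b)).mul_right
      ((show Commute U Y from R.yu.symm).pow_right c)).mul_right
      ((show Commute U Y' from R.y'u.symm).pow_right d)
  unfold nf
  rw [← mul_assoc, h1.eq, mul_assoc, ← pow_succ']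

/-- every element of the generated subgroup has a normal form -/
theorem exists_nf (R : Rel X X' Y Y' U) {g : H} (hg : g ∈ Subgroup.closure ({X, X', Y, Y', U} : Set H)) :
    ∃ a b c d k : ℕ, g = nf X X' Y Y' U a b c d k := by
  have inv_of : ∀ {x : H}, x * x = 1 → x⁻¹ = x := fun h => inv_eq_of_mul_eq_one_left h
  induction hg using Subgroup.closure_induction_left with
  | one => exact ⟨0, 0, 0, 0, 0, by simp [nf]⟩
  | mul_left x hx y _ ih =>
    obtain ⟨a, b, c, d, k, rfl⟩ := ih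
    rcases hx with rfl | rfl | rfl | rfl | rfl
    · exact ⟨_, _, _, _, _, left_x a b c d k⟩
    · exact ⟨_, _, _, _, _, left_x' R a b c d k⟩
    · exact ⟨_, _, _, _, _, left_y R a b c d k⟩
    · exact ⟨_, _, _, _, _, left_y' R a b c d k⟩
    · exact ⟨_, _, _, _, _, left_u R a b c d k⟩
  | inv_mul_cancel x hx y _ ih =>
    obtain ⟨a, b, c, d, k, rfl⟩ := ih
    rcases hx with rfl | rfl | rfl | rfl | rfl
    · rw [inv_of R.x2]; exact ⟨_, _, _, _, _, left_x a b c d k⟩
    · rw [inv_of R.x'2]; exact ⟨_, _, _, _, _, left_x' R a b c d k⟩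
    · rw [inv_of R.y2]; exact ⟨_, _, _, _, _, left_y R a b c d k⟩
    · rw [inv_of R.y'2]; exact ⟨_, _, _, _, _, left_y' R a b c d k⟩
    · have h1 : x⁻¹ = x * (x * x) := by
        apply inv_eq_of_mul_eq_one_left
        rw [← R.u4]; simp only [mul_assoc]
      rw [h1, mul_assoc, mul_assoc, left_u R, left_u R, left_u R]
      exact ⟨_, _, _, _, _, rfl⟩

/-- the generated subgroup has at most 64 elements -/
theorem card_le (R : Rel X X' Y Y' U) :
    Finite (Subgroup.closure ({X, X', Y, Y', U} : Set H)) ∧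
    Nat.card (Subgroup.closure ({X, X', Y, Y', U} : Set H)) ≤ 64 := by
  have hsurj : ∀ g : Subgroup.closure ({X, X', Y, Y', U} : Set H),
      ∃ i : Fin 2 × Fin 2 × Fin 2 × Fin 2 × Fin 4,
        nf X X' Y Y' U i.1 i.2.1 i.2.2.1 i.2.2.2.1 i.2.2.2.2 = g := by
    intro g
    obtain ⟨a, b, c, d, k, h⟩ := exists_nf R g.2
    refine ⟨(⟨a % 2, Nat.mod_lt _ (by norm_num)⟩, ⟨b % 2, Nat.mod_lt _ (by norm_num)⟩,
      ⟨c % 2, Nat.mod_lt _ (by norm_num)⟩, ⟨d % 2, Nat.mod_lt _ (by norm_num)⟩,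
      ⟨k % 4, Nat.mod_lt _ (by norm_num)⟩), ?_⟩
    rw [h]
    unfold nf
    rw [pow2 R.x2 a, pow2 R.x'2 b, pow2 R.y2 c, pow2 R.y'2 d, pow4 R.u4 k]
  choose φ hφ using hsurj
  have hinj : Function.Injective φ := by
    intro g g' hgg
    apply Subtype.ext
    rw [← hφ g, ← hφ g', hgg]
  refine ⟨Finite.of_injective φ hinj, ?_⟩
  have := Nat.card_le_card_of_injective φ hinj
  simpa [Nat.card_prod] using this

end Cfsg.Agent.HSU.NF
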