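import Cfsg.Agent.HSU.DatReg
import Cfsg.Agent.HSU.IsoQ

/-!
# Frames in `Q`
-/

set_option autoImplicit false

namespace Cfsg.Agent.HSU.QFrame

open Cfsg.Agent.HSU.Base Cfsg.Agent.HSU.Lin Cfsg.Agent.HSU.Model Cfsg.Agent.HSU.Coord Cfsg.Agent.HSU.DatLin
  Cfsg.Agent.HSU.DatReg Cfsg.Agent.HSU.NF Cfsg.Agent.HSU.IsoQ

variable {G : Type*} [Group G] {Q A : Subgroup G} {z u s : G}

/-- lift of an adapted frame to `Q` -/
structure QF (h : Dat Q A z u s) (v v' w w' : h.sw.V) (x x' y y' : Q) : Prop where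
  fr : Fr h v v' w w'
  px : h.sw.pr x = v
  px' : h.sw.pr x' = v'
  py : h.sw.pr y = w
  py' : h.sw.pr y' = w'
  x2 : (x : G) * x = 1
  x'2 : (x' : G) * x' = 1
  y2 : (y : G) * y = 1
  y'2 : (y' : G) * y' = 1
  sx : s * x * s⁻¹ = x
  sx' : s * x' * s⁻¹ = x * x'
  sy : s * y * s⁻¹ = y
  sy' : s * y' * s⁻¹ = y * y'

variable {h : Dat Q A z u s} {v v' w w' : h.sw.V} {x x' y y' : Q}

theorem exists_lift (h : Dat Q A z u s) {v v' : h.sw.V} (h1 : h.sw.act ⟨s, s_mem h⟩ v' = v + v')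
    (h2 : ω h v v' = 0) : ∃ x x' : Q, h.sw.pr x = v ∧ h.sw.pr x' = v' ∧ (x : G) * x = 1 ∧
      (x' : G) * x' = 1 ∧ s * x * s⁻¹ = x ∧ s * x' * s⁻¹ = x * x' := by
  obtain ⟨x', hx', hp⟩ := h.sw.exists_pr_eq v'
  have hsq := h.s_sq
  have hs' : s⁻¹ = s := inv_eq_of_mul_eq_one_left hsq
  obtain ⟨t, ht⟩ : ∃ t, t = h.sw.conjQ ⟨s, s_mem h⟩ x' := ⟨_, rfl⟩
  have ht' : (t : G) = s * x' * s⁻¹ := by rw [ht]; rfl
  have hpt : h.sw.pr t = v + v' := by rw [ht, ← h.sw.act_pr, hp, h1]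
  have htt : (t : G) * t = 1 := by
    rw [ht']
    calc s * x' * s⁻¹ * (s * x' * s⁻¹) = s * (x' * x') * s⁻¹ := by group
      _ = 1 := by rw [hx']; group
  have hcomm : (x' : G) * t = t * x' := by
    rw [← h.sw.b_pr, hp, hpt]
    have : ω h v' (v + v') = 0 := by
      rw [(spr h).add_r, (spr h).comm, h2, (spr h).alt]; decide
    exact this
  have hst : s * t * s⁻¹ = x' := by
    rw [ht', hs']
    calc s * (s * x' * s) * s = (s * s) * x' * (s * s) := by group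
      _ = x' := by rw [hsq]; group
  refine ⟨t * x', x', ?_, hp, ?_, hx', ?_, ?_⟩
  · rw [h.sw.pr_mul, hpt, hp, add_assoc, h.sw.add_self, add_zero]
  · show (t : G) * x' * (t * x') = 1
    calc (t : G) * x' * (t * x') = t * (x' * t) * x' := by group
      _ = (t * t) * (x' * x') := by rw [hcomm]; group
      _ = 1 := by rw [htt, hx', one_mul]
  · show s * (t * x') * s⁻¹ = t * x'
    calc s * (t * x') * s⁻¹ = (s * t * s⁻¹) * (s * x' * s⁻¹) := by group
      _ = t * x' := by rw [hst, ← ht', hcomm]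
  · show s * x' * s⁻¹ = t * x' * x'
    rw [← ht', mul_assoc, hx', mul_one]

theorem exists_QF (F : Fr h v v' w w') : ∃ x x' y y' : Q, QF h v v' w w' x x' y y' := by
  obtain ⟨x, x', h1, h2, h3, h4, h5, h6⟩ := exists_lift h F.sv' ((spr h).iso _ _ F.Jv)
  obtain ⟨y, y', k1, k2, k3, k4, k5, k6⟩ := exists_lift h F.sw' ((spr h).iso _ _ F.Jw)
  exact ⟨x, x', y, y', F, h1, h2, k1, k2, h3, h4, k3, k4, h5, h6, k5, k6⟩

theorem QF.rel (F : QF h v v' w w' x x' y y') : Rel (x : G) x' y y' u where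
  x2 := F.x2
  x'2 := F.x'2
  y2 := F.y2
  y'2 := F.y'2
  u4 := by rw [h.sw.u_sq, h.sw.z_sq]
  xu := h.sw.comm_u _ x.2
  x'u := h.sw.comm_u _ x'.2
  yu := h.sw.comm_u _ y.2
  y'u := h.sw.comm_u _ y'.2
  xx' := by rw [← h.sw.b_pr, F.px, F.px']; exact (spr h).iso _ _ F.fr.Jv
  yy' := by rw [← h.sw.b_pr, F.py, F.py']; exact (spr h).iso _ _ F.fr.Jw
  xy := by rw [← h.sw.b_pr, F.px, F.py]; exact F.fr.vw
  x'y' := by rw [← h.sw.b_pr, F.px', F.py']; exact F.fr.v'w'
  xy' := by rw [h.sw.u_sq, ← h.sw.b_pr_one, F.px, F.py']; exact F.fr.vw'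
  x'y := by rw [h.sw.u_sq, ← h.sw.b_pr_one, F.px', F.py]; exact F.fr.v'w

/-- powers with exponent in `ZMod 2` -/
def pw {H : Type*} [Group H] (t : ZMod 2) (g : H) : H := if t = 0 then 1 else g

/-- the element with given coordinates -/
def lift {H : Type*} [Group H] (x x' y y' : H) (p : W) : H :=
  pw p.1 x * pw p.2.1 x' * pw p.2.2.1 y * pw p.2.2.2 y'

theorem pr_pw (h : Dat Q A z u s) (t : ZMod 2) (g : Q) : h.sw.pr (pw t g) = sc t (h.sw.pr g) := by
  rcases z2 t with rfl | rfl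
  · rw [sc_zero, show pw 0 g = 1 from if_pos rfl]; exact h.sw.pr_one
  · rw [sc_one, show pw 1 g = g from if_neg (by decide)]

theorem QF.pr_lift (F : QF h v v' w w' x x' y y') (p : W) : h.sw.pr (lift x x' y y' p) = kap v v' w w' p := by
  unfold lift kap
  rw [h.sw.pr_mul, h.sw.pr_mul, h.sw.pr_mul, pr_pw h, pr_pw h, pr_pw h, pr_pw h, F.px, F.px', F.py, F.py']

theorem coe_pw (t : ZMod 2) (g : Q) : ((pw t g : Q) : G) = pw t (g : G) := by
  unfold pw
  split_ifs <;> rfl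

theorem coe_lift (p : W) : ((lift x x' y y' p : Q) : G) = lift (x : G) x' y y' p := by
  unfold lift
  rw [Subgroup.coe_mul, Subgroup.coe_mul, Subgroup.coe_mul, coe_pw, coe_pw, coe_pw, coe_pw]

/-- every element of `Q` is a lift times an element of `⟨u⟩` -/
theorem QF.exists_eq (F : QF h v v' w w' x x' y y') (q : Q) {p : W} (hp : h.sw.pr q = kap v v' w w' p) :
    (q : G) = lift (x : G) x' y y' p ∨ (q : G) = lift (x : G) x' y y' p * z ∨
    (q : G) = lift (x : G) x' y y' p * u ∨ (q : G) = lift (x : G) x' y y' p * (u * z) := by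
  rw [← F.pr_lift p] at hp
  have := h.sw.pr_eq_pr.1 hp
  rwa [coe_lift] at this

theorem pw_mem {H : Type*} [Group H] {K : Subgroup H} (t : ZMod 2) {g : H} (hg : g ∈ K) : pw t g ∈ K := by
  unfold pw
  split_ifs
  · exact one_mem _
  · exact hg

theorem lift_mem {H : Type*} [Group H] {K : Subgroup H} {x x' y y' : H} (hx : x ∈ K) (hx' : x' ∈ K)
    (hy : y ∈ K) (hy' : y' ∈ K) (p : W) : lift x x' y y' p ∈ K :=
  mul_mem (mul_mem (mul_mem (pw_mem _ hx) (pw_mem _ hx')) (pw_mem _ hy)) (pw_mem _ hy')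

theorem QF.closure (F : QF h v v' w w' x x' y y') :
    Subgroup.closure ({(x : G), (x' : G), (y : G), (y' : G), u} : Set G) = Q := by
  apply le_antisymm
  · rw [Subgroup.closure_le]
    rintro g (rfl | rfl | rfl | rfl | rfl)
    · exact x.2
    · exact x'.2
    · exact y.2
    · exact y'.2
    · exact h.sw.u_mem
  · intro q hq
    obtain ⟨K, hK⟩ : ∃ K, K = Subgroup.closure ({(x : G), (x' : G), (y : G), (y' : G), u} : Set G) := ⟨_, rfl⟩
    have gen : ∀ a ∈ ({(x : G), (x' : G), (y : G), (y' : G), u} : Set G), a ∈ K := by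
      intro a ha
      rw [hK]
      exact Subgroup.subset_closure ha
    rw [← hK]
    have hu : u ∈ K := gen _ (by simp)
    have hz : z ∈ K := by rw [← h.sw.u_sq]; exact mul_mem hu hu
    obtain ⟨p, hp⟩ := (kap_bij (spr h) F.fr).2 (h.sw.pr ⟨q, hq⟩)
    have hl : lift (x : G) x' y y' p ∈ K :=
      lift_mem (gen _ (by simp)) (gen _ (by simp)) (gen _ (by simp)) (gen _ (by simp)) p
    rcases F.exists_eq ⟨q, hq⟩ hp.symm with h1 | h1 | h1 | h1
    · have : q = _ := h1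
      rw [this]; exact hl
    · have : q = _ := h1
      rw [this]; exact mul_mem hl hz
    · have : q = _ := h1
      rw [this]; exact mul_mem hl hu
    · have : q = _ := h1
      rw [this]; exact mul_mem hl (mul_mem hu hz)

end Cfsg.Agent.HSU.QFrame
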