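import Cfsg.Agent.HSU.QFrame

/-!
# Elements with the same action
-/

set_option autoImplicit false

namespace Cfsg.Agent.HSU.SameAct

open Cfsg.Agent.HSU.Base Cfsg.Agent.HSU.Lin Cfsg.Agent.HSU.Model Cfsg.Agent.HSU.Coord Cfsg.Agent.HSU.DatLin
  Cfsg.Agent.HSU.DatReg Cfsg.Agent.HSU.NF Cfsg.Agent.HSU.IsoQ Cfsg.Agent.HSU.QFrame

variable {G : Type*} [Group G] {Q A : Subgroup G} {z u s : G}
variable {G₂ : Type*} [Group G₂] {Q₂ A₂ : Subgroup G₂} {z₂ u₂ s₂ : G₂}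

/-- two frames and an isomorphism between them -/
structure Pair (h : Dat Q A z u s) (h₂ : Dat Q₂ A₂ z₂ u₂ s₂) (v v' w w' : h.sw.V) (v₂ v₂' w₂ w₂' : h₂.sw.V)
    (x x' y y' : Q) (p p' r r' : Q₂) (f : G → G₂) : Prop where
  F : QF h v v' w w' x x' y y'
  F₂ : QF h₂ v₂ v₂' w₂ w₂' p p' r r'
  iso : IsoF Q Q₂ f
  fx : f x = p
  fx' : f x' = p'
  fy : f y = r
  fy' : f y' = r'
  fu : f u = u₂

variable {h : Dat Q A z u s} {h₂ : Dat Q₂ A₂ z₂ u₂ s₂} {v v' w w' : h.sw.V} {v₂ v₂' w₂ w₂' : h₂.sw.V}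
  {x x' y y' : Q} {p p' r r' : Q₂} {f : G → G₂}

theorem Pair.fz (P : Pair h h₂ v v' w w' v₂ v₂' w₂ w₂' x x' y y' p p' r r' f) : f z = z₂ := by
  rw [← h.sw.u_sq, P.iso.mul _ h.sw.u_mem _ h.sw.u_mem, P.fu, h₂.sw.u_sq]

theorem f_pw (hf : IsoF Q Q₂ f) (t : ZMod 2) (g : G) : f (pw t g) = pw t (f g) := by
  unfold pw
  split_ifs
  · exact hf.one
  · rfl

theorem Pair.f_lift (P : Pair h h₂ v v' w w' v₂ v₂' w₂ w₂' x x' y y' p p' r r' f) (m : W) :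
    f (lift (x : G) x' y y' m) = lift (p : G₂) p' r r' m := by
  have hx := pw_mem m.1 x.2
  have hx' := pw_mem m.2.1 x'.2
  have hy := pw_mem m.2.2.1 y.2
  have hy' := pw_mem m.2.2.2 y'.2
  unfold lift
  rw [P.iso.mul _ (mul_mem (mul_mem hx hx') hy) _ hy', P.iso.mul _ (mul_mem hx hx') _ hy,
    P.iso.mul _ hx _ hx', f_pw P.iso, f_pw P.iso, f_pw P.iso, f_pw P.iso, P.fx, P.fx', P.fy, P.fy']

theorem Pair.pr_f (P : Pair h h₂ v v' w w' v₂ v₂' w₂ w₂' x x' y y' p p' r r' f) (q : Q) {m : W}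
    (hq : h.sw.pr q = kap v v' w w' m) : h₂.sw.pr ⟨f q, P.iso.mem q q.2⟩ = kap v₂ v₂' w₂ w₂' m := by
  rw [← P.F₂.pr_lift m, h₂.sw.pr_eq_pr, coe_lift]
  have hl : lift (x : G) x' y y' m ∈ Q := lift_mem x.2 x'.2 y.2 y'.2 m
  have hu := h.sw.u_mem
  have hz := h.sw.z_mem
  show f q = _ ∨ f q = _ ∨ f q = _ ∨ f q = _
  rcases P.F.exists_eq q hq with h1 | h1 | h1 | h1 <;> rw [h1]
  · left; exact P.f_lift m
  · right; left
    rw [P.iso.mul _ hl _ hz, P.f_lift, P.fz]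
  · right; right; left
    rw [P.iso.mul _ hl _ hu, P.f_lift, P.fu]
  · right; right; right
    rw [P.iso.mul _ hl _ (mul_mem hu hz), P.iso.mul _ hu _ hz, P.f_lift, P.fu, P.fz]

/-- same action up to `z` on involutions -/
theorem Pair.same_or (P : Pair h h₂ v v' w w' v₂ v₂' w₂ w₂' x x' y y' p p' r r' f)
    {c : Subgroup.centralizer ({z} : Set G)} {c₂ : Subgroup.centralizer ({z₂} : Set G₂)} {a b : W}
    (ha : h.sw.act c v' = kap v v' w w' a) (hb : h.sw.act c w = kap v v' w w' b)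
    (ha₂ : h₂.sw.act c₂ v₂' = kap v₂ v₂' w₂ w₂' a) (hb₂ : h₂.sw.act c₂ w₂ = kap v₂ v₂' w₂ w₂' b)
    (q : Q) (hq : (q : G) * q = 1) :
    f (c * q * (c : G)⁻¹) = c₂ * f q * (c₂ : G₂)⁻¹ ∨ f (c * q * (c : G)⁻¹) = c₂ * f q * (c₂ : G₂)⁻¹ * z₂ := by
  obtain ⟨m, hm⟩ := (kap_bij (spr h) P.F.fr).2 (h.sw.pr q)
  have h1 : h.sw.pr (h.sw.conjQ c q) = kap v v' w w' (mat a b m) := by
    rw [← h.sw.act_pr, ← hm]
    exact eq_mat (spr h) P.F.fr (aut h c) ha hb m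
  have h2 := P.pr_f (h.sw.conjQ c q) h1
  have h3 := P.pr_f q hm.symm
  have h4 : h₂.sw.pr (h₂.sw.conjQ c₂ ⟨f q, P.iso.mem q q.2⟩) = kap v₂ v₂' w₂ w₂' (mat a b m) := by
    rw [← h₂.sw.act_pr, h3]
    exact eq_mat (spr h₂) P.F₂.fr (aut h₂ c₂) ha₂ hb₂ m
  have hq2 : f q * f q = 1 := by
    rw [← P.iso.mul _ q.2 _ q.2, hq, P.iso.one]
  refine h₂.sw.eq_or_of_pr_eq (x := ⟨f (h.sw.conjQ c q), P.iso.mem _ (h.sw.conjQ c q).2⟩)
    (y := h₂.sw.conjQ c₂ ⟨f q, P.iso.mem q q.2⟩) ?_ ?_ (h2.trans h4.symm)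
  · show f (c * q * (c : G)⁻¹) * f (c * q * (c : G)⁻¹) = 1
    have hc := (h.sw.conjQ c q).2
    have hc' : (c : G) * q * (c : G)⁻¹ ∈ Q := hc
    rw [← P.iso.mul _ hc' _ hc']
    have : (c : G) * q * (c : G)⁻¹ * (c * q * (c : G)⁻¹) = 1 := by
      calc (c : G) * q * (c : G)⁻¹ * (c * q * (c : G)⁻¹) = c * (q * q) * (c : G)⁻¹ := by group
        _ = 1 := by rw [hq]; group
    rw [this, P.iso.one]
  · show (c₂ : G₂) * f q * (c₂ : G₂)⁻¹ * (c₂ * f q * (c₂ : G₂)⁻¹) = 1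
    calc (c₂ : G₂) * f q * (c₂ : G₂)⁻¹ * (c₂ * f q * (c₂ : G₂)⁻¹) = c₂ * (f q * f q) * (c₂ : G₂)⁻¹ := by group
      _ = 1 := by rw [hq2]; group

/-- correction of one sign -/
theorem fix_one {H : Type*} [Group H] {c t a b z : H} (ht : t * a = a * t * z) (hz : z * z = 1)
    (hta : t * z = z * t) (hca : c * z = z * c)
    (h : b = c * a * c⁻¹ ∨ b = c * a * c⁻¹ * z) : b = c * a * c⁻¹ ∨ b = (c * t) * a * (c * t)⁻¹ := by
  rcases h with h | h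
  · exact Or.inl h
  · right
    rw [h]
    have hcz : c⁻¹ * z = z * c⁻¹ := (show Commute c z from hca).inv_left.eq
    have htz : t⁻¹ * z = z * t⁻¹ := (show Commute t z from hta).inv_left.eq
    calc c * a * c⁻¹ * z = c * a * (c⁻¹ * z) := by group
      _ = c * (a * (t * t⁻¹) * z) * c⁻¹ := by rw [hcz]; group
      _ = c * (a * t * (t⁻¹ * z)) * c⁻¹ := by group
      _ = c * (a * t * z) * t⁻¹ * c⁻¹ := by rw [htz]; group
      _ = (c * t) * a * (c * t)⁻¹ := by rw [← ht]; group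

theorem keep {H : Type*} [Group H] {c t a b : H} (ht : t * a = a * t) (h : b = c * a * c⁻¹) :
    b = (c * t) * a * (c * t)⁻¹ := by
  rw [h]
  calc c * a * c⁻¹ = c * (a * t) * t⁻¹ * c⁻¹ := by group
    _ = (c * t) * a * (c * t)⁻¹ := by rw [← ht]; group

theorem keep' {H : Type*} [Group H] {c t a b z : H} (ht : t * a = a * t)
    (h : b = c * a * c⁻¹ ∨ b = c * a * c⁻¹ * z) :
    b = (c * t) * a * (c * t)⁻¹ ∨ b = (c * t) * a * (c * t)⁻¹ * z := by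
  have e : c * a * c⁻¹ = (c * t) * a * (c * t)⁻¹ := keep ht rfl
  rwa [e] at h

/-- agreement on the generators -/
theorem Pair.same_of_gen (P : Pair h h₂ v v' w w' v₂ v₂' w₂ w₂' x x' y y' p p' r r' f)
    {c : G} (hc : c * z = z * c) {c₂ : G₂} (h1 : f (c * x * c⁻¹) = c₂ * p * c₂⁻¹)
    (h2 : f (c * x' * c⁻¹) = c₂ * p' * c₂⁻¹) (h3 : f (c * y * c⁻¹) = c₂ * r * c₂⁻¹)
    (h4 : f (c * y' * c⁻¹) = c₂ * r' * c₂⁻¹) (h5 : f (c * u * c⁻¹) = c₂ * u₂ * c₂⁻¹) :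
    ∀ q ∈ Q, f (c * q * c⁻¹) = c₂ * f q * c₂⁻¹ := by
  intro q hq
  have hcl := P.F.closure
  have hq' : q ∈ Subgroup.closure ({(x : G), (x' : G), (y : G), (y' : G), u} : Set G) := hcl.symm ▸ hq
  have key : q ∈ Q ∧ f (c * q * c⁻¹) = c₂ * f q * c₂⁻¹ := by
    clear hq
    induction hq' using Subgroup.closure_induction with
    | mem g hg =>
      rcases hg with rfl | rfl | rfl | rfl | rfl
      · exact ⟨x.2, by rw [h1, P.fx]⟩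
      · exact ⟨x'.2, by rw [h2, P.fx']⟩
      · exact ⟨y.2, by rw [h3, P.fy]⟩
      · exact ⟨y'.2, by rw [h4, P.fy']⟩
      · exact ⟨h.sw.u_mem, by rw [h5, P.fu]⟩
    | one => exact ⟨one_mem _, by rw [P.iso.one]; simp [P.iso.one]⟩
    | mul a b _ _ iha ihb =>
      refine ⟨mul_mem iha.1 ihb.1, ?_⟩
      have e : c * (a * b) * c⁻¹ = (c * a * c⁻¹) * (c * b * c⁻¹) := by group
      rw [e, P.iso.mul _ (h.sw.conj_mem c hc a iha.1) _ (h.sw.conj_mem c hc b ihb.1), iha.2, ihb.2,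
        P.iso.mul _ iha.1 _ ihb.1]
      group
    | inv a _ iha =>
      refine ⟨inv_mem iha.1, ?_⟩
      have e : c * a⁻¹ * c⁻¹ = (c * a * c⁻¹)⁻¹ := by group
      rw [e, P.iso.inv (h.sw.conj_mem c hc a iha.1), iha.2, P.iso.inv iha.1]
      group
  exact key.2

/-- **Every element of `C(z)` has a partner with the same action.** -/
theorem Pair.exists_same (P : Pair h h₂ v v' w w' v₂ v₂' w₂ w₂' x x' y y' p p' r r' f)
    {c : G} (hc : c * z = z * c) :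
    ∃ c₂, c₂ * z₂ = z₂ * c₂ ∧ ∀ q ∈ Q, f (c * q * c⁻¹) = c₂ * f q * c₂⁻¹ := by
  obtain ⟨C, hC⟩ : ∃ C : Subgroup.centralizer ({z} : Set G), (C : G) = c :=
    ⟨⟨c, Subgroup.mem_centralizer_singleton_iff.2 hc⟩, rfl⟩
  obtain ⟨a, ha⟩ := (kap_bij (spr h) P.F.fr).2 (h.sw.act C v')
  obtain ⟨b, hb⟩ := (kap_bij (spr h) P.F.fr).2 (h.sw.act C w)
  have hab := om_eq P.F.fr ha.symm hb.symm
  obtain ⟨c₂, ha₂, hb₂⟩ := reg P.F₂.fr hab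
  have R := P.F₂.rel
  have hz2 := h₂.sw.z_sq
  have hc2z := Subgroup.mem_centralizer_singleton_iff.1 c₂.2
  -- the action on `u`
  have hu : f (c * u * c⁻¹) = c₂ * u₂ * (c₂ : G₂)⁻¹ := by
    by_cases hl : lin a b
    · have h1 := comm_of_lin P.F.fr ha.symm hb.symm hl
      have h2 := comm_of_lin P.F₂.fr ha₂ hb₂ hl
      rw [hC] at h1
      rw [h1, h2, P.fu]
    · have h1 := inv_of_not_lin P.F.fr ha.symm hb.symm hl
      have h2 := inv_of_not_lin P.F₂.fr ha₂ hb₂ hl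
      rw [hC] at h1
      rw [h1, h2, P.iso.mul _ h.sw.u_mem _ h.sw.z_mem, P.fu, P.fz]
  have hx := P.same_or ha.symm hb.symm ha₂ hb₂ x P.F.x2
  have hx' := P.same_or ha.symm hb.symm ha₂ hb₂ x' P.F.x'2
  have hy := P.same_or ha.symm hb.symm ha₂ hb₂ y P.F.y2
  have hy' := P.same_or ha.symm hb.symm ha₂ hb₂ y' P.F.y'2
  rw [hC, P.fx] at hx
  rw [hC, P.fx'] at hx'
  rw [hC, P.fy] at hy
  rw [hC, P.fy'] at hy'
  -- commutation relations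
  have zx := h₂.sw.comm_z _ p.2
  have zx' := h₂.sw.comm_z _ p'.2
  have zy := h₂.sw.comm_z _ r.2
  have zy' := h₂.sw.comm_z _ r'.2
  have usq := h₂.sw.u_sq
  have Rxy' := R.xy'
  have Rx'y := R.x'y
  rw [usq] at Rxy' Rx'y
  have sw1 : (r' : G₂) * p = p * r' * z₂ := by
    rw [Rxy', mul_assoc, hz2, mul_one]
  have sw2 : (r : G₂) * p' = p' * r * z₂ := by
    rw [Rx'y, mul_assoc, hz2, mul_one]
  -- step 1: `x`, by `r'`
  obtain ⟨c3, hc3, k1, k2, k3, k4, k5⟩ : ∃ c3 : G₂, c3 * z₂ = z₂ * c3 ∧ f (c * x * c⁻¹) = c3 * p * c3⁻¹ ∧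
      (f (c * x' * c⁻¹) = c3 * p' * c3⁻¹ ∨ f (c * x' * c⁻¹) = c3 * p' * c3⁻¹ * z₂) ∧
      (f (c * y * c⁻¹) = c3 * r * c3⁻¹ ∨ f (c * y * c⁻¹) = c3 * r * c3⁻¹ * z₂) ∧
      (f (c * y' * c⁻¹) = c3 * r' * c3⁻¹ ∨ f (c * y' * c⁻¹) = c3 * r' * c3⁻¹ * z₂) ∧
      f (c * u * c⁻¹) = c3 * u₂ * c3⁻¹ := by
    rcases fix_one sw1 hz2 zy' hc2z hx with h1 | h1
    · exact ⟨c₂, hc2z, h1, hx', hy, hy', hu⟩
    · exact ⟨c₂ * r', ((show Commute (c₂ : G₂) z₂ from hc2z).mul_left (show Commute (r' : G₂) z₂ from zy')).eq, h1,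
        keep' R.x'y'.symm hx', keep' R.yy'.symm hy, keep' rfl hy', keep R.y'u hu⟩
  -- step 2: `y'`, by `p`
  obtain ⟨c4, hc4, l1, l2, l3, l4, l5⟩ : ∃ c4 : G₂, c4 * z₂ = z₂ * c4 ∧ f (c * x * c⁻¹) = c4 * p * c4⁻¹ ∧
      (f (c * x' * c⁻¹) = c4 * p' * c4⁻¹ ∨ f (c * x' * c⁻¹) = c4 * p' * c4⁻¹ * z₂) ∧
      (f (c * y * c⁻¹) = c4 * r * c4⁻¹ ∨ f (c * y * c⁻¹) = c4 * r * c4⁻¹ * z₂) ∧
      (f (c * y' * c⁻¹) = c4 * r' * c4⁻¹) ∧
      f (c * u * c⁻¹) = c4 * u₂ * c4⁻¹ := by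
    rcases fix_one Rxy' hz2 zx hc3 k4 with h1 | h1
    · exact ⟨c3, hc3, k1, k2, k3, h1, k5⟩
    · exact ⟨c3 * p, ((show Commute c3 z₂ from hc3).mul_left (show Commute (p : G₂) z₂ from zx)).eq, keep rfl k1,
        keep' R.xx' k2, keep' R.xy k3, h1, keep R.xu k5⟩
  -- step 3: `x'`, by `r`
  obtain ⟨c5, hc5, m1, m2, m3, m4, m5⟩ : ∃ c5 : G₂, c5 * z₂ = z₂ * c5 ∧ f (c * x * c⁻¹) = c5 * p * c5⁻¹ ∧
      (f (c * x' * c⁻¹) = c5 * p' * c5⁻¹) ∧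
      (f (c * y * c⁻¹) = c5 * r * c5⁻¹ ∨ f (c * y * c⁻¹) = c5 * r * c5⁻¹ * z₂) ∧
      (f (c * y' * c⁻¹) = c5 * r' * c5⁻¹) ∧
      f (c * u * c⁻¹) = c5 * u₂ * c5⁻¹ := by
    rcases fix_one sw2 hz2 zy hc4 l2 with h1 | h1
    · exact ⟨c4, hc4, l1, h1, l3, l4, l5⟩
    · exact ⟨c4 * r, ((show Commute c4 z₂ from hc4).mul_left (show Commute (r : G₂) z₂ from zy)).eq, keep R.xy.symm l1,
        h1, keep' rfl l3, keep R.yy' l4, keep R.yu l5⟩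
  -- step 4: `y`, by `p'`
  rcases fix_one Rx'y hz2 zx' hc5 m3 with h1 | h1
  · exact ⟨c5, hc5, P.same_of_gen hc m1 m2 h1 m4 m5⟩
  · exact ⟨c5 * p', ((show Commute c5 z₂ from hc5).mul_left (show Commute (p' : G₂) z₂ from zx')).eq,
      P.same_of_gen hc (keep R.xx'.symm m1) (keep rfl m2) h1 (keep R.x'y' m4) (keep R.x'u m5)⟩

end Cfsg.Agent.HSU.SameAct
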