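import Cfsg.Agent.HSU.SameAct
import Cfsg.Agent.HSU.Glue

/-!
# Uniqueness of the centralizer of an involution of `HS`
-/

set_option autoImplicit false

namespace Cfsg.Agent.HSU.Uniq

open Cfsg.Agent.HSU.Base Cfsg.Agent.HSU.Lin Cfsg.Agent.HSU.Model Cfsg.Agent.HSU.Coord Cfsg.Agent.HSU.DatLin
  Cfsg.Agent.HSU.DatReg Cfsg.Agent.HSU.NF Cfsg.Agent.HSU.IsoQ Cfsg.Agent.HSU.QFrame Cfsg.Agent.HSU.SameAct

variable {G : Type*} [Group G] {Q A : Subgroup G} {z u s : G}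
variable {G₂ : Type*} [Group G₂] {Q₂ A₂ : Subgroup G₂} {z₂ u₂ s₂ : G₂}

theorem sq_mul {H : Type*} [Group H] {a b : H} (h : a * b = b * a) : a * b * (a * b) = a * a * (b * b) :=
  Commute.mul_mul_mul_comm (show Commute b a from h.symm) a b

theorem self_zpowers (h : Dat Q A z u s) {g : G} (hg : g * z = z * g) (hc : ∀ x ∈ Q, g * x = x * g) :
    g ∈ Subgroup.zpowers u := by
  have hu := Subgroup.mem_zpowers u
  have hz : z ∈ Subgroup.zpowers u := by rw [← h.sw.u_sq]; exact mul_mem hu hu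
  rcases h.sw.self g hg hc with h1 | h1 | h1 | h1 <;> rw [h1]
  · exact one_mem _
  · exact hz
  · exact hu
  · exact mul_mem hu hz

theorem order_u (h : Dat Q A z u s) : orderOf u = 4 := by
  have : orderOf u = 2 ^ 2 := by
    refine orderOf_eq_prime_pow (p := 2) (n := 1) ?_ ?_
    · rw [pow_one, pow_two, h.sw.u_sq]; exact h.sw.z_ne
    · rw [show (2 : ℕ) ^ (1 + 1) = 2 * 2 from rfl, pow_mul, pow_two u, h.sw.u_sq, pow_two]; exact h.sw.z_sq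
  simpa using this

/-- an element of `A` not commuting with `s` modulo `Q` -/
theorem exists_e (h : Dat Q A z u s) {v v' w w' : h.sw.V} (F : Fr h v v' w w')
    (hJ : ∀ q, J h v q ↔ Im h (A ⊓ Q) q) :
    ∃ e ∈ A, e * e ∈ Q ∧ s * e * s⁻¹ * e⁻¹ ∉ Q := by
  have S := spr h
  obtain ⟨g, hg1, hg2⟩ := reg F (a := e2) (b := (0, 1, 1, 0)) (by decide)
  have hg3 : h.sw.act g v = v := by
    have h1 := eq_mat S F (aut h g) hg1 hg2 (1, 0, 0, 0)
    rwa [show mat e2 (0, 1, 1, 0) (1, 0, 0, 0) = (1, 0, 0, 0) by decide +kernel, kv] at h1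
  rw [kap_e2] at hg1
  have hg2' : h.sw.act g w = w + v' := by
    rw [hg2, show ((0, 1, 1, 0) : W) = (0, 0, 1, 0) + (0, 1, 0, 0) by decide, kap_add S, kw, kv']
  obtain ⟨e, he, hge⟩ := mem_AQ h g (by
    intro x hx
    have h1 : J h v (h.sw.pr x) := (hJ _).2 ⟨x, ⟨hx, x.2⟩, rfl⟩
    rcases (S.line F.v0 F.Jv (v'_ne S F) (v_ne_v' S F) _).1 h1 with h2 | h2 | h2 | h2 <;> rw [h2]
    · exact map_zero _
    · exact hg3
    · exact hg1
    · rw [map_add, hg3, hg1])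
  obtain ⟨E, hE⟩ : ∃ E : Subgroup.centralizer ({z} : Set G), (E : G) = e := ⟨⟨e, A_le h he⟩, rfl⟩
  have hEg : h.sw.act E = h.sw.act g := act_eq_of_diff h (by rw [hE]; exact hge)
  have e1 : h.sw.act E v' = v' := by rw [hEg, hg1]
  have e2' : h.sw.act E w = w + v' := by rw [hEg, hg2']
  refine ⟨e, he, ?_, ?_⟩
  · have h1 := mem_Q_of_fix h (g := E * E) F.v'w (by rw [map_mul, LinearEquiv.mul_apply, e1, e1])
      (by rw [map_mul, LinearEquiv.mul_apply, e2', map_add, e2', e1, add_assoc, h.sw.add_self, add_zero])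
    rw [Subgroup.coe_mul, hE] at h1
    exact h1
  · intro hmem
    obtain ⟨T, hT⟩ : ∃ T : Subgroup.centralizer ({z} : Set G), T = ⟨s, s_mem h⟩ := ⟨_, rfl⟩
    have hTs : (T : G) = s := by rw [hT]
    have h1 : h.sw.act (T * E * T⁻¹ * E⁻¹) = 1 := by
      apply h.sw.act_mem
      rw [Subgroup.coe_mul, Subgroup.coe_mul, Subgroup.coe_mul, Subgroup.coe_inv, Subgroup.coe_inv, hTs, hE]
      exact hmem
    have hTT : T⁻¹ = T := by
      apply inv_eq_of_mul_eq_one_left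
      apply Subtype.ext
      rw [Subgroup.coe_mul, hTs]
      exact h.s_sq
    have h2 : h.sw.act (T * E * T) = h.sw.act E := by
      rw [map_mul, map_inv, mul_inv_eq_one, hTT] at h1
      exact h1
    have Fw : h.sw.act T w = w := by rw [hT]; exact F.sw
    have Fv' : h.sw.act T v' = v + v' := by rw [hT]; exact F.sv'
    have h3 : h.sw.act (T * E * T) w = w + (v + v') := by
      rw [map_mul, map_mul, LinearEquiv.mul_apply, LinearEquiv.mul_apply, Fw, e2', map_add, Fw, Fv']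
    rw [h2, e2'] at h3
    have h4 : v' = v + v' := add_left_cancel h3
    exact F.v0 (by simpa using h4.symm)

/-- `f` maps the line of `A` onto the line of `A₂` -/
theorem mem_A_of_f {h : Dat Q A z u s} {h₂ : Dat Q₂ A₂ z₂ u₂ s₂} {v v' w w' : h.sw.V}
    {v₂ v₂' w₂ w₂' : h₂.sw.V} {x x' y y' : Q} {p p' r r' : Q₂} {f : G → G₂}
    (P : Pair h h₂ v v' w w' v₂ v₂' w₂ w₂' x x' y y' p p' r r' f)
    (hJ : ∀ q, J h v q ↔ Im h (A ⊓ Q) q) (hJ₂ : ∀ q, J h₂ v₂ q ↔ Im h₂ (A₂ ⊓ Q₂) q)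
    (q : Q) (hq : f q ∈ A₂) : (q : G) ∈ A := by
  have S := spr h
  have S₂ := spr h₂
  obtain ⟨m, hm⟩ := (kap_bij S P.F.fr).2 (h.sw.pr q)
  have h1 := P.pr_f q hm.symm
  have h2 : J h₂ v₂ (kap v₂ v₂' w₂ w₂' m) := by
    rw [hJ₂, ← h1]
    exact ⟨_, ⟨hq, P.iso.mem q q.2⟩, rfl⟩
  have h3 : J h₂ (kap v₂ v₂' w₂ w₂' (1, 0, 0, 0)) (kap v₂ v₂' w₂ w₂' m) := by rw [kv]; exact h2
  have h4 := J_cases S₂ P.F₂.fr (a := (1, 0, 0, 0)) (by decide) h3
  have h5 := J_ph S P.F.fr (1, 0, 0, 0)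
  have h6 : J h v (kap v v' w w' m) := by
    rw [kv] at h5
    rcases h4 with h4 | h4 | h4 | h4 <;> rw [h4]
    · rw [kap_zero]; exact S.zero _
    · rw [kv]; exact S.refl _
    · exact h5
    · rw [kap_add S, kv]
      exact S.add _ _ _ h5 (S.refl _)
  rw [hm, hJ] at h6
  exact (mem_of_pr h (AQ_mem h) h6).1

/-- **Uniqueness.** -/
theorem uniq (h : Dat Q A z u s) (h₂ : Dat Q₂ A₂ z₂ u₂ s₂) :
    ∃ φ : Subgroup.centralizer ({z} : Set G) ≃* Subgroup.centralizer ({z₂} : Set G₂),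
      ∀ x (hx : x ∈ Subgroup.centralizer ({z} : Set G)), x ∈ Q → (φ ⟨x, hx⟩ : G₂) ∈ Q₂ := by
  obtain ⟨v, v', w, w', F0, hJ⟩ := exists_frame h
  obtain ⟨v₂, v₂', w₂, w₂', F0₂, hJ₂⟩ := exists_frame h₂
  obtain ⟨x, x', y, y', F⟩ := exists_QF F0
  obtain ⟨p, p', r, r', F₂⟩ := exists_QF F0₂
  obtain ⟨f, hf, fx, fx', fy, fy', fu⟩ := exists_f F.rel F₂.rel F.closure F₂.closure h.card_Q h₂.card_Q
  have P : Pair h h₂ v v' w w' v₂ v₂' w₂ w₂' x x' y y' p p' r r' f := ⟨F, F₂, hf, fx, fx', fy, fy', fu⟩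
  have hsz := Subgroup.mem_centralizer_singleton_iff.1 (s_mem h)
  have hsz₂ := Subgroup.mem_centralizer_singleton_iff.1 (s_mem h₂)
  -- `s` and `s₂`
  have hss : ∀ q ∈ Q, f (s * q * s⁻¹) = s₂ * f q * s₂⁻¹ := by
    refine P.same_of_gen hsz ?_ ?_ ?_ ?_ ?_
    · rw [F.sx, fx, F₂.sx]
    · rw [F.sx', hf.mul _ x.2 _ x'.2, fx, fx', F₂.sx']
    · rw [F.sy, fy, F₂.sy]
    · rw [F.sy', hf.mul _ y.2 _ y'.2, fy, fy', F₂.sy']
    · rw [h.s_u, hf.mul _ h.sw.u_mem _ h.sw.z_mem, fu, P.fz, h₂.s_u]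
  -- `e`
  obtain ⟨e, he, hee, hne⟩ := exists_e h F0 hJ
  have hez : e * z = z * e := h.comm_A e he z (z_mem_A h)
  obtain ⟨e₀, he₀z, he₀⟩ := P.exists_same hez
  have he₀A : e₀ ∈ A₂ := by
    apply mem_A_of_comm' h₂ he₀z
    intro t ht
    obtain ⟨q, hq, rfl⟩ := hf.surj t ht.2
    have hqA := mem_A_of_f P hJ hJ₂ ⟨q, hq⟩ ht.1
    have h1 := he₀ q hq
    have h2 : e * q * e⁻¹ = q := by rw [h.comm_A e he q hqA]; group
    rw [h2] at h1
    calc e₀ * f q = e₀ * f q * e₀⁻¹ * e₀ := by group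
      _ = f q * e₀ := by rw [← h1]
  have hu₂A := u_mem_A h₂
  -- choose `e₂` with the right square
  obtain ⟨e₂, he₂A, he₂, hsq⟩ : ∃ e₂ ∈ A₂, (∀ q ∈ Q, f (e * q * e⁻¹) = e₂ * f q * e₂⁻¹) ∧
      f (e * e) = e₂ * e₂ := by
    have hfQ := hf.mem _ hee
    have h1 : ∀ t ∈ Q₂, ((f (e * e))⁻¹ * (e₀ * e₀)) * t = t * ((f (e * e))⁻¹ * (e₀ * e₀)) := by
      intro t ht
      obtain ⟨q, hq, rfl⟩ := hf.surj t ht
      have h2 := he₀ q hq
      have hq' := h.sw.conj_mem e hez q hq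
      have h3 := he₀ _ hq'
      rw [h2] at h3
      have h4 : e * (e * q * e⁻¹) * e⁻¹ = (e * e) * q * (e * e)⁻¹ := by group
      rw [h4, hf.mul _ (mul_mem hee hq) _ (inv_mem hee), hf.mul _ hee _ hq, hf.inv hee] at h3
      -- h3 : f (e*e) * f q * (f (e*e))⁻¹ = e₀ * (e₀ * f q * e₀⁻¹) * e₀⁻¹
      calc (f (e * e))⁻¹ * (e₀ * e₀) * f q
          = (f (e * e))⁻¹ * (e₀ * (e₀ * f q * e₀⁻¹) * e₀⁻¹) * (e₀ * e₀) := by group
        _ = f q * ((f (e * e))⁻¹ * (e₀ * e₀)) := by rw [← h3]; group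
    have hz1 : ((f (e * e))⁻¹ * (e₀ * e₀)) * z₂ = z₂ * ((f (e * e))⁻¹ * (e₀ * e₀)) :=
      h1 z₂ h₂.sw.z_mem
    have h5 : (e₀ * e₀) * (e₀ * e₀) = 1 := h₂.exp_A e₀ he₀A
    have h6 : f (e * e) * f (e * e) = 1 := by
      rw [← hf.mul _ hee _ hee, h.exp_A e he, hf.one]
    have hcu := h₂.sw.comm_u _ hfQ
    have hcz := h₂.sw.comm_z _ hfQ
    obtain ⟨t, ht⟩ : ∃ t, t = f (e * e) := ⟨_, rfl⟩
    rw [← ht] at h1 h6 hcu hcz hz1 ⊢
    rcases h₂.sw.self _ hz1 h1 with h7 | h7 | h7 | h7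
    · exact ⟨e₀, he₀A, he₀, inv_mul_eq_one.1 h7⟩
    · refine ⟨e₀ * u₂, mul_mem he₀A hu₂A, fun q hq => ?_, ?_⟩
      · rw [he₀ q hq]
        have hc := h₂.sw.comm_u _ (hf.mem q hq)
        calc e₀ * f q * e₀⁻¹ = e₀ * (f q * u₂) * u₂⁻¹ * e₀⁻¹ := by group
          _ = e₀ * u₂ * f q * (e₀ * u₂)⁻¹ := by rw [hc]; group
      · have hc := h₂.comm_A e₀ he₀A u₂ hu₂A
        have h8 : e₀ * e₀ = t * z₂ := by rw [← h7]; group
        calc t = t * z₂ * z₂ := by rw [mul_assoc, h₂.sw.z_sq, mul_one]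
          _ = e₀ * e₀ * (u₂ * u₂) := by rw [h8, h₂.sw.u_sq]
          _ = e₀ * u₂ * (e₀ * u₂) := (sq_mul hc).symm
    · exfalso
      have h8 : e₀ * e₀ = t * u₂ := by rw [← h7]; group
      rw [h8] at h5
      apply h₂.sw.z_ne
      rw [sq_mul hcu, h6, one_mul, h₂.sw.u_sq] at h5
      exact h5
    · exfalso
      have h8 : e₀ * e₀ = t * (u₂ * z₂) := by rw [← h7]; group
      rw [h8] at h5
      apply h₂.sw.z_ne
      have hcuz : t * (u₂ * z₂) = (u₂ * z₂) * t := by rw [← mul_assoc, hcu, mul_assoc, hcz, mul_assoc]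
      rw [sq_mul hcuz, h6, one_mul, sq_mul h₂.sw.uz, h₂.sw.u_sq, h₂.sw.z_sq, mul_one] at h5
      exact h5
  obtain ⟨φ, hφ⟩ := Glue.glue (Subgroup.centralizer ({z} : Set G)) Q (Subgroup.centralizer ({z₂} : Set G₂)) Q₂ f u u₂
    h.card_C h₂.card_C h.card_Q
    (fun q hq => Subgroup.mem_centralizer_singleton_iff.2 (h.sw.comm_z q hq))
    (fun q hq => Subgroup.mem_centralizer_singleton_iff.2 (h₂.sw.comm_z q hq))
    (fun c hc q hq => h.sw.conj_mem c (Subgroup.mem_centralizer_singleton_iff.1 hc) q hq)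
    (fun c hc q hq => h₂.sw.conj_mem c (Subgroup.mem_centralizer_singleton_iff.1 hc) q hq)
    hf.mem hf.mul hf.inj hf.surj h.sw.u_mem fu (order_u h) h.sw.comm_u
    (fun c hc hq => self_zpowers h (Subgroup.mem_centralizer_singleton_iff.1 hc) hq)
    (fun c hc hq => self_zpowers h₂ (Subgroup.mem_centralizer_singleton_iff.1 hc) hq)
    (fun c hc => by
      obtain ⟨c₂, h1, h2⟩ := P.exists_same (Subgroup.mem_centralizer_singleton_iff.1 hc)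
      exact ⟨c₂, Subgroup.mem_centralizer_singleton_iff.2 h1, h2⟩)
    s e s₂ e₂ (s_mem h) (A_le h he) (s_mem h₂) (A_le h₂ he₂A) hss he₂ h.s_sq h₂.s_sq hee hsq
    (h.comm_A _ he _ (h.s_A e he)) (h₂.comm_A _ he₂A _ (h₂.s_A e₂ he₂A)) hne
  exact ⟨φ, fun q hq hqQ => by rw [hφ q hq hqQ]; exact hf.mem q hqQ⟩

end Cfsg.Agent.HSU.Uniq
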